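/-
A field of degree seven over a finite field: automorphisms and semilinear maps.
-/
import Cfsg.Agent.Lib.SingerFive.Flags

set_option autoImplicit false
set_option linter.unusedSectionVars false
set_option linter.style.haveILetI false

namespace CfsgLib.SingerSeven

open Module
open CfsgLib.SingerFive

variable {F L : Type*} [Field F] [Field L] [Algebra F L] [Finite L]

theorem card_aut (hn : finrank F L = 7) : Nat.card (L ≃ₐ[F] L) = 7 := by
  haveI : Finite F := Finite.of_injective _ (algebraMap F L).injective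
  haveI : FiniteDimensional F L := finiteDim
  rw [IsGalois.card_aut_eq_finrank, hn]

theorem aut_eq_pow (hn : finrank F L = 7) {τ : L ≃ₐ[F] L} (hτ : τ ≠ 1) (σ : L ≃ₐ[F] L) :
    ∃ i < 7, σ = τ ^ i := by
  haveI : Finite (L ≃ₐ[F] L) := Nat.finite_of_card_ne_zero (by rw [card_aut hn]; norm_num)
  haveI : Fact (Nat.Prime 7) := ⟨by norm_num⟩
  have h5 : orderOf τ = 7 := by
    have h1 := orderOf_dvd_natCard τ
    rw [card_aut hn] at h1
    exact ((Nat.dvd_prime (by norm_num)).mp h1).resolve_left fun h => hτ (orderOf_eq_one_iff.mp h)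
  obtain ⟨i, hi⟩ := (Submonoid.mem_powers_iff _ _).mp
    ((mem_powers_iff_mem_zpowers).mpr (mem_zpowers_of_prime_card (p := 7) (g' := σ) (card_aut hn) hτ))
  exact ⟨i % 7, Nat.mod_lt _ (by norm_num), by rw [← hi, ← h5, pow_mod_orderOf]⟩

theorem exists_aut_ne_one (hn : finrank F L = 7) : ∃ τ : L ≃ₐ[F] L, τ ≠ 1 := by
  by_contra h
  push Not at h
  have h1 := card_aut (F := F) (L := L) hn
  haveI : Unique (L ≃ₐ[F] L) := ⟨⟨1⟩, h⟩
  rw [Nat.card_unique] at h1
  omega

/-- An automorphism has determinant one. -/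
theorem det_autE (hn : finrank F L = 7) (τ : L ≃ₐ[F] L) :
    LinearMap.det ((autE τ : L ≃ₗ[F] L) : L →ₗ[F] L) = 1 := by
  classical
  haveI : Finite F := Finite.of_injective _ (algebraMap F L).injective
  haveI : FiniteDimensional F L := finiteDim
  haveI : Fintype (L ≃ₐ[F] L) := Fintype.ofFinite _
  obtain ⟨x, hx⟩ := exists_linearIndependent_algEquiv_apply F L
  let b : Basis (L ≃ₐ[F] L) F L := basisOfLinearIndependentOfCardEqFinrank hx (by
    rw [← Nat.card_eq_fintype_card, card_aut hn, hn])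
  have hb : ∀ σ, b σ = σ x := fun σ => congrFun (coe_basisOfLinearIndependentOfCardEqFinrank _ _) σ
  have hM : LinearMap.toMatrix b b ((autE τ : L ≃ₗ[F] L) : L →ₗ[F] L) =
      (1 : Matrix (L ≃ₐ[F] L) (L ≃ₐ[F] L) F).submatrix (Equiv.mulLeft τ⁻¹) id := by
    ext i j
    rw [LinearMap.toMatrix_apply, hb j]
    show b.repr (τ (j x)) i = _
    rw [show τ (j x) = b (τ * j) from (hb (τ * j)).symm, b.repr_self, Finsupp.single_apply]
    simp only [Matrix.submatrix_apply, Matrix.one_apply, Equiv.coe_mulLeft, id_eq]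
    exact if_congr ⟨fun h => by rw [← h, inv_mul_cancel_left], fun h => by rw [← h, mul_inv_cancel_left]⟩ rfl rfl
  have hdet : LinearMap.det ((autE τ : L ≃ₗ[F] L) : L →ₗ[F] L) =
      ((Equiv.Perm.sign (Equiv.mulLeft τ⁻¹) : ℤˣ) : ℤ) := by
    rw [← LinearMap.det_toMatrix b, hM, Matrix.det_permute, Matrix.det_one, mul_one]
  rw [hdet]
  have hsign : Equiv.Perm.sign (Equiv.mulLeft τ⁻¹) = 1 := by
    have h1 : (MulAction.toPermHom (L ≃ₐ[F] L) (L ≃ₐ[F] L)) τ⁻¹ = Equiv.mulLeft τ⁻¹ :=
      Equiv.ext fun σ => rfl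
    have h2 : (τ⁻¹) ^ 7 = 1 := by rw [← card_aut (F := F) (L := L) hn, pow_card_eq_one']
    have h3 : Equiv.Perm.sign (Equiv.mulLeft τ⁻¹) ^ 7 = 1 := by
      rw [← h1, ← map_pow, ← map_pow, h2, map_one, map_one]
    rcases Int.units_eq_one_or (Equiv.Perm.sign (Equiv.mulLeft τ⁻¹)) with h4 | h4
    · exact h4
    · rw [h4] at h3; exact absurd h3 (by decide)
  rw [hsign]
  simp

/-- A map intertwining two multiplications, one by an element outside `F`, is semilinear. -/
theorem semi_of_intertwine (hn : finrank F L = 7) (g : L ≃ₗ[F] L) {u u' : L}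
    (hu : u ∉ Set.range (algebraMap F L)) (h : ∀ x, g (u * x) = u' * g x) : IsSemi g := by
  haveI : FiniteDimensional F L := finiteDim
  let A : Subalgebra F L :=
    { carrier := {a | ∃ a', ∀ x, g (a * x) = a' * g x}
      one_mem' := ⟨1, fun x => by simp⟩
      mul_mem' := by
        rintro a b ⟨a', ha⟩ ⟨b', hb⟩
        exact ⟨a' * b', fun x => by rw [mul_assoc, ha, hb, mul_assoc]⟩
      zero_mem' := ⟨0, fun x => by simp⟩
      add_mem' := by
        rintro a b ⟨a', ha⟩ ⟨b', hb⟩
        exact ⟨a' + b', fun x => by rw [add_mul, map_add, ha, hb, add_mul]⟩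
      algebraMap_mem' := fun c => ⟨algebraMap F L c, fun x => by
        rw [← Algebra.smul_def, map_smul, Algebra.smul_def]⟩ }
  have hA : A = ⊤ := by
    refine ((Subalgebra.isSimpleOrder_of_finrank_prime F L
      (by rw [hn]; norm_num)).eq_bot_or_eq_top A).resolve_left fun hbot => hu ?_
    have hm : u ∈ A := ⟨u', h⟩
    rw [hbot, Algebra.mem_bot] at hm
    exact hm
  have key : ∀ a x, g (a * x) * g 1 = g a * g x := fun a x => by
    obtain ⟨a', ha⟩ : a ∈ A := hA ▸ Algebra.mem_top
    have h1 := ha 1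
    rw [mul_one] at h1
    rw [ha, h1]
    ring
  have hg1 : g 1 ≠ 0 := by simp
  let f : L →ₐ[F] L :=
    { toFun := fun a => g a / g 1
      map_one' := div_self hg1
      map_mul' := fun a b => by
        field_simp
        linear_combination key a b
      map_zero' := by simp
      map_add' := fun a b => by rw [map_add, add_div]
      commutes' := fun c => by
        rw [Algebra.algebraMap_eq_smul_one, map_smul, Algebra.smul_def, mul_div_assoc, div_self hg1,
          mul_one, Algebra.algebraMap_eq_smul_one] }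
  refine ⟨Units.mk0 _ hg1, AlgEquiv.ofBijective f (Finite.injective_iff_bijective.mp f.injective), ?_⟩
  refine LinearEquiv.ext fun x => ?_
  show g x = g 1 * (g x / g 1)
  rw [mul_div_cancel₀ _ hg1]

end CfsgLib.SingerSeven
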