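/-
The image of an overgroup of the Singer normaliser on points, and its self-centralising torus.
-/
import Cfsg.Agent.Lib.SingerSeven.Setup
import Cfsg.Agent.Lib.SingerFive.CharCC

set_option autoImplicit false
set_option linter.unusedSectionVars false
set_option linter.style.haveILetI false

namespace CfsgLib.SingerSeven

open Module
open CfsgLib.SingerFive

variable {F L : Type*} [Field F] [Field L] [Algebra F L]

/-- A subgroup of determinant one containing the norm-one multiplications and the automorphisms. -/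
structure Over (M : Subgroup (L ≃ₗ[F] L)) : Prop where
  finrank : finrank F L = 7
  det : ∀ g ∈ M, LinearMap.det (g : L →ₗ[F] L) = 1
  mul : ∀ u : Lˣ, Algebra.norm F (u : L) = 1 → mulE u ∈ M
  aut : ∀ τ : L ≃ₐ[F] L, autE τ ∈ M

/-- The action on points. -/
def onPts (M : Subgroup (L ≃ₗ[F] L)) : M →* Equiv.Perm (Sub F L 1) :=
  (MulAction.toPermHom (L ≃ₗ[F] L) (Sub F L 1)).comp M.subtype

@[simp] theorem onPts_apply {M : Subgroup (L ≃ₗ[F] L)} (g : M) (P : Sub F L 1) :
    onPts M g P = (g : L ≃ₗ[F] L) • P := rfl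

/-- The torus of norm one elements. -/
noncomputable def normOne (F L : Type*) [Field F] [Field L] [Algebra F L] : Subgroup Lˣ :=
  (Units.map (Algebra.norm F : L →* F)).ker

theorem mem_normOne {u : Lˣ} : u ∈ normOne F L ↔ Algebra.norm F (u : L) = 1 := by
  rw [normOne, MonoidHom.mem_ker, Units.ext_iff]
  rfl

variable {M : Subgroup (L ≃ₗ[F] L)}

/-- The norm-one multiplications as elements of `M`. -/
noncomputable def Over.incl (O : Over M) : normOne F L →* M :=
  (mulE.comp (normOne F L).subtype).codRestrict M fun u => O.mul u (mem_normOne.mp u.2)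

/-- The torus on points. -/
noncomputable def Over.tor (O : Over M) : Subgroup (onPts M).range :=
  ((onPts M).rangeRestrict.comp O.incl).range

theorem Over.mem_tor (O : Over M) {x : (onPts M).range} :
    x ∈ O.tor ↔ ∃ u : normOne F L, ∀ P, (x : Equiv.Perm (Sub F L 1)) P = (mulE (u : Lˣ) : L ≃ₗ[F] L) • P := by
  constructor
  · rintro ⟨u, rfl⟩
    exact ⟨u, fun P => rfl⟩
  · rintro ⟨u, hu⟩
    exact ⟨u, Subtype.ext (Equiv.ext fun P => (hu P).symm)⟩

variable [Finite L]

/-- A multiplication fixing a point is a scalar. -/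
theorem mem_range_of_fix {u : Lˣ} {P : Sub F L 1} (h : (mulE u : L ≃ₗ[F] L) • P = P) :
    (u : L) ∈ Set.range (algebraMap F L) := by
  obtain ⟨v, hv, rfl⟩ := exists_pt P
  rw [smul_pt] at h
  obtain ⟨c, -, hc⟩ := pt_eq_pt hv (by simp [hv]) h.symm
  rw [mulE_apply, Algebra.smul_def] at hc
  exact ⟨c, (mul_right_cancel₀ hv hc).symm⟩

theorem smul_eq_of_range {u : Lˣ} (h : (u : L) ∈ Set.range (algebraMap F L)) (P : Sub F L 1) :
    (mulE u : L ≃ₗ[F] L) • P = P := by
  obtain ⟨c, hc⟩ := h
  obtain ⟨v, hv, rfl⟩ := exists_pt P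
  refine Subtype.ext ?_
  rw [smul_pt]
  show F ∙ ((u : L) * v) = F ∙ v
  rw [← hc, ← Algebra.smul_def]
  refine Submodule.span_singleton_smul_eq (IsUnit.mk0 c fun h0 => u.ne_zero ?_) v
  rw [← hc, h0, map_zero]

/-- The kernel of the action. -/
theorem scalar_of_trivial {g : M} (h : onPts M g = 1) : ∃ c : F, ∀ x, (g : L ≃ₗ[F] L) x = c • x := by
  haveI : FiniteDimensional F L := finiteDim
  exact exists_scalar_of_fix _ fun P => by
    have := congrArg (fun σ : Equiv.Perm (Sub F L 1) => σ P) h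
    simpa using this

theorem trivial_iff_range (u : Lˣ) :
    (∀ P : Sub F L 1, (mulE u : L ≃ₗ[F] L) • P = P) ↔ (u : L) ∈ Set.range (algebraMap F L) :=
  ⟨fun h => mem_range_of_fix (h (pt 1 one_ne_zero)), smul_eq_of_range⟩

theorem norm_algebraMap' (hn : finrank F L = 7) (c : F) : Algebra.norm F (algebraMap F L c) = c ^ 7 := by
  haveI : FiniteDimensional F L := finiteDim
  rw [Algebra.norm_algebraMap, hn]

/-- An element of norm one is not moved to a multiple of itself by an automorphism unless it lies in `F`. -/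
theorem mem_range_of_eigen (hn : finrank F L = 7) {u : L} (hu : Algebra.norm F u = 1) {τ : L ≃ₐ[F] L}
    {z : F} (hτ : τ ≠ 1) (h : τ u = algebraMap F L z * u) : u ∈ Set.range (algebraMap F L) := by
  haveI : FiniteDimensional F L := finiteDim
  haveI : Finite F := Finite.of_injective _ (algebraMap F L).injective
  haveI : Finite (L ≃ₐ[F] L) := Nat.finite_of_card_ne_zero (by rw [card_aut hn]; norm_num)
  have hu0 : u ≠ 0 := fun h0 => by rw [h0, Algebra.norm_zero] at hu; exact zero_ne_one hu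
  have hz5 : z ^ 7 = 1 := by
    have h1 : Algebra.norm F (τ u) = Algebra.norm F u := Algebra.norm_eq_of_algEquiv τ u
    rw [h, map_mul, norm_algebraMap' hn, hu, mul_one] at h1
    exact h1
  by_cases hz : z = 1
  · -- fixed by a generator
    rw [hz, map_one, one_mul] at h
    refine IsGalois.mem_range_algebraMap_iff_fixed u |>.mpr fun σ => ?_
    obtain ⟨i, -, rfl⟩ := aut_eq_pow hn hτ σ
    clear * - h
    induction i with
    | zero => rfl
    | succ i ih => rw [pow_succ, AlgEquiv.mul_apply, h, ih]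
  -- otherwise the seventh power is fixed, so it is the norm
  have hpow : ∀ i : ℕ, (τ ^ i) u = algebraMap F L (z ^ i) * u := by
    intro i
    induction i with
    | zero => simp
    | succ i ih => rw [pow_succ', AlgEquiv.mul_apply, ih, map_mul, AlgEquiv.commutes, h, ← mul_assoc, ← map_mul, ← pow_succ]
  have hprod : algebraMap F L (Algebra.norm F u) = ∏ i ∈ Finset.range 7, (τ ^ i) u := by
    rw [Algebra.norm_eq_prod_automorphisms]
    symm
    refine Finset.prod_bij (fun i _ => τ ^ i) (fun i _ => Finset.mem_univ _) ?_ ?_ (fun i _ => rfl)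
    · intro i hi j hj hij
      have h5 : orderOf τ = 7 := by
        have h1 := orderOf_dvd_natCard τ
        rw [card_aut hn] at h1
        exact ((Nat.dvd_prime (by norm_num)).mp h1).resolve_left fun h => hτ (orderOf_eq_one_iff.mp h)
      exact pow_injOn_Iio_orderOf (by rw [Set.mem_Iio, h5]; exact Finset.mem_range.mp hi)
        (by rw [Set.mem_Iio, h5]; exact Finset.mem_range.mp hj) hij
    · intro σ _
      obtain ⟨i, hi, rfl⟩ := aut_eq_pow hn hτ σ
      exact ⟨i, Finset.mem_range.mpr hi, rfl⟩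
  rw [hu, map_one, Finset.prod_congr rfl fun i _ => hpow i] at hprod
  simp only [Finset.prod_range_succ, Finset.prod_range_zero, one_mul, map_pow, pow_zero] at hprod
  have hz5' : (algebraMap F L z) ^ 7 = 1 := by rw [← map_pow, hz5, map_one]
  have hu5 : u ^ 7 = 1 := by
    have h10 : (algebraMap F L z) ^ 21 = 1 := by rw [show (21 : ℕ) = 7 * 3 by norm_num, pow_mul, hz5', one_pow]
    linear_combination -hprod - u ^ 7 * h10
  -- the seven roots of `X ^ 7 = 1` lie in `F`
  have hord : orderOf (algebraMap F L z) = 7 := orderOf_eq_prime (hp := ⟨by norm_num⟩) hz5' fun h1 =>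
    hz ((algebraMap F L).injective (h1.trans (map_one _).symm))
  have hprim : IsPrimitiveRoot (algebraMap F L z) 7 := hord ▸ IsPrimitiveRoot.orderOf (algebraMap F L z)
  obtain ⟨i, -, hi⟩ := hprim.eq_pow_of_pow_eq_one hu5
  exact ⟨z ^ i, by rw [map_pow, hi]⟩

/-- A generator of the automorphisms, as a permutation of the points. -/
def Over.frob (O : Over M) (τ : L ≃ₐ[F] L) : (onPts M).range :=
  ⟨onPts M ⟨autE τ, O.aut τ⟩, _, rfl⟩

theorem Over.frob_pow (O : Over M) (τ : L ≃ₐ[F] L) (i : ℕ) (P : Sub F L 1) :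
    ((O.frob τ ^ i : (onPts M).range) : Equiv.Perm (Sub F L 1)) P = autE (τ ^ i) • P := by
  rw [SubmonoidClass.coe_pow]
  show (onPts M ⟨autE τ, O.aut τ⟩ ^ i) P = _
  rw [← map_pow, map_pow autE]
  rfl

theorem inv_eq_symm (g : L ≃ₗ[F] L) (x : L) : (g⁻¹ : L ≃ₗ[F] L) x = g.symm x := rfl

theorem autE_mulE (τ : L ≃ₐ[F] L) (u : Lˣ) :
    (autE τ * mulE u : L ≃ₗ[F] L) = mulE (Units.map (τ : L →* L) u) * autE τ :=
  LinearEquiv.ext fun x => map_mul τ (u : L) x

/-- The torus and the Frobenius form the data of the character argument. -/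
theorem Over.ccData (O : Over M) {τ : L ≃ₐ[F] L} (hτ : τ ≠ 1) (hbig : 72 ≤ Nat.card O.tor) :
    CCData O.tor (O.frob τ) 7 where
  comm := by
    rintro _ ⟨u, rfl⟩ _ ⟨v, rfl⟩
    rw [← map_mul, ← map_mul, mul_comm]
  cc := by
    rintro _ ⟨u, rfl⟩ hne ⟨_, g, rfl⟩ hcomm
    have hu : ((u : Lˣ) : L) ∉ Set.range (algebraMap F L) := fun h => hne (Subtype.ext (Equiv.ext fun P =>
      smul_eq_of_range h P))
    have htriv : onPts M (g * O.incl u * (O.incl u * g)⁻¹) = 1 := by
      have h1 : onPts M (g * O.incl u) = onPts M (O.incl u * g) := by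
        rw [map_mul, map_mul]
        exact congrArg Subtype.val hcomm
      rw [map_mul, map_inv, h1, mul_inv_cancel]
    obtain ⟨z, hz⟩ := scalar_of_trivial htriv
    have hint : ∀ x, (g : L ≃ₗ[F] L) ((u : Lˣ) * x) = algebraMap F L z * (u : Lˣ) * (g : L ≃ₗ[F] L) x := by
      intro x
      have := hz ((O.incl u * g : M).1 x)
      rw [show ((g * O.incl u * (O.incl u * g)⁻¹ : M) : L ≃ₗ[F] L) =
        ((g * O.incl u : M) : L ≃ₗ[F] L) * ((O.incl u * g : M) : L ≃ₗ[F] L)⁻¹ from rfl, LinearEquiv.mul_apply,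
        inv_eq_symm, LinearEquiv.symm_apply_apply, Algebra.smul_def] at this
      rw [mul_assoc]
      exact this
    obtain ⟨c, σ, hg⟩ := semi_of_intertwine O.finrank (g : L ≃ₗ[F] L) hu hint
    have hσu : σ ((u : Lˣ) : L) = algebraMap F L z * ((u : Lˣ) : L) := by
      have h1 := hint 1
      simp only [hg, LinearEquiv.mul_apply, mulE_apply, autE_apply, mul_one, map_one] at h1
      rw [mul_comm] at h1
      exact mul_right_cancel₀ c.ne_zero h1
    have hσ : σ = 1 := by
      by_contra hσ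
      exact hu (mem_range_of_eigen O.finrank (mem_normOne.mp u.2) hσ hσu)
    have hc : Algebra.norm F (c : L) = 1 := by
      have h1 := O.det _ g.2
      rw [hg, hσ, map_one, mul_one, det_mulE] at h1
      exact h1
    exact O.mem_tor.mpr ⟨⟨c, mem_normOne.mpr hc⟩, fun P => by
      show (g : L ≃ₗ[F] L) • P = _
      rw [hg, hσ, map_one, mul_one]⟩
  conj_mem := by
    rintro _ ⟨u, rfl⟩
    have hN : Units.map (τ : L →* L) (u : Lˣ) ∈ normOne F L := by
      rw [mem_normOne]
      show Algebra.norm F (τ ((u : Lˣ) : L)) = 1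
      rw [Algebra.norm_eq_of_algEquiv τ, mem_normOne.mp u.2]
    refine ⟨⟨_, hN⟩, ?_⟩
    rw [eq_mul_inv_iff_mul_eq]
    refine Subtype.ext (Equiv.ext fun P => ?_)
    show (mulE (Units.map (τ : L →* L) (u : Lˣ)) : L ≃ₗ[F] L) • autE τ • P =
      autE τ • (mulE (u : Lˣ) : L ≃ₗ[F] L) • P
    rw [smul_smul, smul_smul, autE_mulE]
  fus := by
    rintro ⟨_, g, rfl⟩ _ ⟨u, rfl⟩ hne ⟨v, hv⟩
    have hu : ((u : Lˣ) : L) ∉ Set.range (algebraMap F L) := fun h => hne (Subtype.ext (Equiv.ext fun P =>
      smul_eq_of_range h P))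
    have hv' : onPts M (g * O.incl u) = onPts M (O.incl v * g) := by
      have := congrArg Subtype.val hv
      change onPts M (O.incl v) = onPts M g * onPts M (O.incl u) * (onPts M g)⁻¹ at this
      rw [map_mul, map_mul, this, inv_mul_cancel_right]
    have htriv : onPts M (g * O.incl u * (O.incl v * g)⁻¹) = 1 := by
      rw [map_mul, map_inv, hv', mul_inv_cancel]
    obtain ⟨z, hz⟩ := scalar_of_trivial htriv
    have hint : ∀ x, (g : L ≃ₗ[F] L) ((u : Lˣ) * x) = algebraMap F L z * (v : Lˣ) * (g : L ≃ₗ[F] L) x := by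
      intro x
      have := hz ((O.incl v * g : M).1 x)
      rw [show ((g * O.incl u * (O.incl v * g)⁻¹ : M) : L ≃ₗ[F] L) =
        ((g * O.incl u : M) : L ≃ₗ[F] L) * ((O.incl v * g : M) : L ≃ₗ[F] L)⁻¹ from rfl, LinearEquiv.mul_apply,
        inv_eq_symm, LinearEquiv.symm_apply_apply, Algebra.smul_def] at this
      rw [mul_assoc]
      exact this
    obtain ⟨c, σ, hg⟩ := semi_of_intertwine O.finrank (g : L ≃ₗ[F] L) hu hint
    have hc : Algebra.norm F (c : L) = 1 := by
      have h1 := O.det _ g.2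
      rw [hg, LinearEquiv.coe_toLinearMap_mul, map_mul, det_mulE, det_autE O.finrank, mul_one] at h1
      exact h1
    obtain ⟨i, hi, rfl⟩ := aut_eq_pow O.finrank hτ σ
    refine ⟨i, hi, (onPts M).rangeRestrict (O.incl ⟨c, mem_normOne.mpr hc⟩), ⟨_, rfl⟩, ?_⟩
    refine Subtype.ext (Equiv.ext fun P => ?_)
    show (g : L ≃ₗ[F] L) • P = (mulE c : L ≃ₗ[F] L) • ((O.frob τ ^ i : (onPts M).range) : Equiv.Perm _) P
    rw [O.frob_pow, smul_smul, hg]
  out := by
    intro i hi0 hi5 hmem
    obtain ⟨u, hu⟩ := O.mem_tor.mp hmem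
    have htriv : onPts M (⟨autE (τ ^ i), O.aut _⟩ * (O.incl u)⁻¹) = 1 := by
      rw [map_mul, map_inv, mul_inv_eq_one]
      refine Equiv.ext fun P => ?_
      show autE (τ ^ i) • P = _
      rw [← O.frob_pow]
      exact hu P
    obtain ⟨z, hz⟩ := scalar_of_trivial htriv
    have hfix : τ ^ i = 1 := by
      have hall : ∀ x, (τ ^ i) x = algebraMap F L z * (((u : Lˣ) : L) * x) := fun x => by
        have := hz ((mulE (u : Lˣ) : L ≃ₗ[F] L) x)
        rw [show ((⟨autE (τ ^ i), O.aut _⟩ * (O.incl u)⁻¹ : M) : L ≃ₗ[F] L) =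
          autE (τ ^ i) * (mulE (u : Lˣ))⁻¹ from rfl, LinearEquiv.mul_apply, inv_eq_symm,
          LinearEquiv.symm_apply_apply, Algebra.smul_def] at this
        exact this
      have h1 := hall 1
      rw [map_one, mul_one] at h1
      exact AlgEquiv.ext fun x => by rw [hall, ← mul_assoc, ← h1, one_mul]; rfl
    have h5 : orderOf τ = 7 := by
      haveI : Finite (L ≃ₐ[F] L) := Nat.finite_of_card_ne_zero (by rw [card_aut O.finrank]; norm_num)
      have h1 := orderOf_dvd_natCard τ
      rw [card_aut O.finrank] at h1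
      exact ((Nat.dvd_prime (by norm_num)).mp h1).resolve_left fun h => hτ (orderOf_eq_one_iff.mp h)
    have := Nat.le_of_dvd hi0 (orderOf_dvd_of_pow_eq_one hfix)
    omega
  big := by omega
  pos := by norm_num

/-- Non-trivial elements of the torus fix no point. -/
theorem Over.semiregular (O : Over M) : ∀ t ∈ O.tor, t ≠ 1 → ∀ P : Sub F L 1, t • P ≠ P := by
  rintro _ ⟨u, rfl⟩ hne P hP
  exact hne (Subtype.ext (Equiv.ext fun Q => smul_eq_of_range (mem_range_of_fix (show
    (mulE (u : Lˣ) : L ≃ₗ[F] L) • P = P from hP)) Q))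

end CfsgLib.SingerSeven
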