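/-
The number of points and the order of the torus.
-/
import Cfsg.Agent.Lib.SingerSeven.Torus

set_option autoImplicit false
set_option linter.unusedSectionVars false
set_option linter.style.haveILetI false

namespace CfsgLib.SingerSeven

open Module
open CfsgLib.SingerFive

variable {F L : Type*} [Field F] [Field L] [Algebra F L] [Finite L]

theorem finite_base (F L : Type*) [Field F] [Field L] [Algebra F L] [Finite L] : Finite F :=
  Finite.of_injective _ (algebraMap F L).injective

theorem card_units_L (hn : finrank F L = 7) : Nat.card Lˣ = Nat.card F ^ 7 - 1 := by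
  haveI := finite_base F L
  haveI : FiniteDimensional F L := finiteDim
  rw [Nat.card_units, Module.natCard_eq_pow_finrank (K := F) (V := L), hn]

theorem card_units_pts : Nat.card Lˣ = Nat.card (Sub F L 1) * Nat.card Fˣ := by
  classical
  choose r hr hP using fun P : Sub F L 1 => exists_pt P
  rw [← Nat.card_prod]
  refine (Nat.card_eq_of_bijective (fun x : Sub F L 1 × Fˣ => Units.mk0 ((x.2 : F) • r x.1)
    (smul_ne_zero x.2.ne_zero (hr _))) ⟨?_, ?_⟩).symm
  · rintro ⟨P, c⟩ ⟨P', c'⟩ h
    have h1 : (c : F) • r P = (c' : F) • r P' := congrArg Units.val h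
    have hPP : P = P' := by
      rw [hP P, hP P']
      refine Subtype.ext ?_
      show F ∙ r P = F ∙ r P'
      rw [← Submodule.span_singleton_smul_eq c.isUnit (r P), h1, Submodule.span_singleton_smul_eq c'.isUnit]
    subst hPP
    rw [Units.ext (smul_left_injective F (hr P) h1)]
  · intro u
    obtain ⟨c, hc, hu⟩ := pt_eq_pt (hr (pt (u : L) u.ne_zero)) u.ne_zero (hP _).symm
    exact ⟨(pt (u : L) u.ne_zero, Units.mk0 c hc), Units.ext hu.symm⟩

theorem card_normOne : Nat.card (normOne F L) = Nat.card (Sub F L 1) := by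
  haveI := finite_base F L
  have h := (normOne F L).card_mul_index
  rw [normOne, Subgroup.index_ker, MonoidHom.range_eq_top.mpr (FiniteField.unitsMap_norm_surjective F L),
    Subgroup.card_top, card_units_pts (F := F) (L := L)] at h
  exact Nat.eq_of_mul_eq_mul_right Nat.card_pos h

theorem card_pts_mul (hn : finrank F L = 7) :
    Nat.card (Sub F L 1) * (Nat.card F - 1) = Nat.card F ^ 7 - 1 := by
  haveI := finite_base F L
  rw [← card_units_L hn, card_units_pts (F := F) (L := L), Nat.card_units]

theorem card_pts_eq (hn : finrank F L = 7) :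
    Nat.card (Sub F L 1) = Nat.card F ^ 6 + Nat.card F ^ 5 + Nat.card F ^ 4 + Nat.card F ^ 3 + Nat.card F ^ 2 + Nat.card F + 1 := by
  haveI := finite_base F L
  have h := card_pts_mul (F := F) (L := L) hn
  have h1 : 2 ≤ Nat.card F := Finite.one_lt_card
  obtain ⟨r, hr⟩ : ∃ r, Nat.card F = r + 2 := ⟨Nat.card F - 2, by omega⟩
  rw [hr] at h ⊢
  refine Nat.eq_of_mul_eq_mul_right (show 0 < r + 2 - 1 by omega) (h.trans ?_)
  rw [show r + 2 - 1 = r + 1 by omega, Nat.sub_eq_iff_eq_add (Nat.one_le_pow _ _ (by omega))]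
  ring

/-- The points split into one or seven regular orbits of the torus. -/
theorem Over.exists_classes {M : Subgroup (L ≃ₗ[F] L)} (O : Over M) :
    ∃ d, (d = 1 ∨ (d = 7 ∧ 7 ∣ Nat.card F - 1)) ∧ Nat.card (Sub F L 1) = d * Nat.card O.tor := by
  classical
  haveI := finite_base F L
  haveI : Fintype F := Fintype.ofFinite F
  let f : normOne F L →* (onPts M).range := (onPts M).rangeRestrict.comp O.incl
  have hmul : Nat.card (normOne F L) = Nat.card f.ker * Nat.card O.tor := by
    rw [← f.ker.card_mul_index, Subgroup.index_ker]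
    rfl
  have hbij : Nat.card f.ker = Nat.card (rootsOfUnity 7 F) := by
    have hk : ∀ c : rootsOfUnity 7 F, Units.map (algebraMap F L : F →* L) (c : Fˣ) ∈ normOne F L := fun c => by
      rw [mem_normOne]
      show Algebra.norm F (algebraMap F L ((c : Fˣ) : F)) = 1
      have := c.2
      rw [mem_rootsOfUnity] at this
      rw [norm_algebraMap' O.finrank, ← Units.val_pow_eq_pow_val, this, Units.val_one]
    have hk' : ∀ c : rootsOfUnity 7 F, (⟨_, hk c⟩ : normOne F L) ∈ f.ker := fun c =>
      Subtype.ext (Equiv.ext fun P => smul_eq_of_range ⟨_, rfl⟩ P)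
    refine (Nat.card_eq_of_bijective (fun c => (⟨_, hk' c⟩ : f.ker)) ⟨?_, ?_⟩).symm
    · intro a b h
      have h1 := congrArg (fun x : f.ker => (((x.1 : normOne F L) : Lˣ) : L)) h
      exact Subtype.ext (Units.ext ((algebraMap F L).injective h1))
    · rintro ⟨⟨u, hu⟩, hk⟩
      have h1 := (trivial_iff_range u).mp fun P => by
        have := congrArg (fun x : (onPts M).range => (x : Equiv.Perm (Sub F L 1)) P) hk
        exact this
      obtain ⟨c, hc⟩ := h1
      have hc0 : c ≠ 0 := fun h0 => u.ne_zero (by rw [← hc, h0, map_zero])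
      refine ⟨⟨Units.mk0 c hc0, ?_⟩, Subtype.ext (Subtype.ext (Units.ext hc))⟩
      rw [mem_rootsOfUnity, Units.ext_iff, Units.val_pow_eq_pow_val, Units.val_mk0, Units.val_one,
        ← norm_algebraMap' (L := L) O.finrank, hc]
      exact mem_normOne.mp hu
  refine ⟨Nat.card (rootsOfUnity 7 F), ?_, by rw [← card_normOne, hmul, hbij]⟩
  have hle : Nat.card (rootsOfUnity 7 F) ≤ 7 := by
    exact card_rootsOfUnity F 7
  haveI : Fact (Nat.Prime 7) := ⟨by norm_num⟩
  obtain ⟨k, hk⟩ := IsPGroup.iff_card.mp (show IsPGroup 7 (rootsOfUnity 7 F) from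
    fun c => ⟨1, Subtype.ext (by rw [pow_one, SubmonoidClass.coe_pow]; exact c.2)⟩)
  rcases Nat.eq_zero_or_pos k with rfl | hk0
  · left; simpa using hk
  · right
    have h5 : Nat.card (rootsOfUnity 7 F) = 7 := by
      refine le_antisymm hle ?_
      rw [hk]
      exact Nat.le_self_pow hk0.ne' 7
    refine ⟨h5, ?_⟩
    rw [← Nat.card_units, ← h5]
    exact Subgroup.card_subgroup_dvd_card _

/-- The torus is large. -/
theorem Over.tor_big {M : Subgroup (L ≃ₗ[F] L)} (O : Over M) :
    72 ≤ Nat.card O.tor ∧ Nat.card (Sub F L 1) ≤ 7 * Nat.card O.tor := by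
  haveI := finite_base F L
  obtain ⟨d, hd, hcard⟩ := O.exists_classes
  have h := card_pts_eq (F := F) (L := L) O.finrank
  rcases hd with rfl | ⟨rfl, h7⟩
  · have hq : 2 ≤ Nat.card F := Finite.one_lt_card
    have e : ∀ k, 2 ^ k ≤ Nat.card F ^ k := fun k => Nat.pow_le_pow_left hq k
    have := e 6; have := e 5; have := e 4; have := e 3; have := e 2
    norm_num at *
    omega
  · have h7' := Nat.le_of_dvd (by have := Finite.one_lt_card (α := F); omega) h7
    have h1 : 8 ^ 6 ≤ Nat.card F ^ 6 := Nat.pow_le_pow_left (by omega) 6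
    norm_num at h1
    omega

end CfsgLib.SingerSeven
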