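/-
A commutative algebra of endomorphisms normalised by the norm-one torus consists of multiplications.
-/
import Cfsg.Agent.Lib.SingerSeven.Count

set_option autoImplicit false
set_option linter.unusedSectionVars false
set_option linter.style.haveILetI false

namespace CfsgLib.SingerSeven

open Module
open CfsgLib.SingerFive

variable {F L : Type*} [Field F] [Field L] [Algebra F L]

/-- Multiplication by an element of `L`. -/
noncomputable def mulEnd : L →ₐ[F] Module.End F L := Algebra.lmul F L

theorem mulEnd_apply (c x : L) : (mulEnd c : Module.End F L) x = c * x := rfl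

/-- Conjugation by a multiplication. -/
noncomputable def cj (u : Lˣ) (a : Module.End F L) : Module.End F L :=
  mulEnd (u : L) * a * mulEnd ((u⁻¹ : Lˣ) : L)

theorem cj_apply (u : Lˣ) (a : Module.End F L) (x : L) :
    cj u a x = (u : L) * a (((u⁻¹ : Lˣ) : L) * x) := rfl

theorem cj_mul (u : Lˣ) (a b : Module.End F L) : cj u a * cj u b = cj u (a * b) := by
  refine LinearMap.ext fun x => ?_
  simp only [Module.End.mul_apply, cj_apply, ← mul_assoc, ← Units.val_mul, inv_mul_cancel, Units.val_one, one_mul]

theorem cj_cj (u v : Lˣ) (a : Module.End F L) : cj u (cj v a) = cj (u * v) a := by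
  refine LinearMap.ext fun x => ?_
  simp only [cj_apply, mul_inv_rev, Units.val_mul, mul_assoc]

theorem cj_one (a : Module.End F L) : cj (1 : Lˣ) a = a := by
  refine LinearMap.ext fun x => ?_
  simp [cj_apply]

theorem cj_zero (u : Lˣ) : cj u (0 : Module.End F L) = 0 := by simp [cj]

theorem cj_pow (u : Lˣ) (a : Module.End F L) : ∀ k : ℕ, cj u a ^ k = cj u (a ^ k) := by
  intro k
  induction k with
  | zero =>
    refine LinearMap.ext fun x => ?_
    simp [cj_apply, ← mul_assoc, ← Units.val_mul]
  | succ k ih => rw [pow_succ, pow_succ, ih, cj_mul]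

theorem cj_scalar (u : Lˣ) (a : Module.End F L) (c : F) : cj u (c • a) = c • cj u a := by
  simp [cj]

/-- An endomorphism commuting with a multiplication outside `F` is a multiplication. -/
theorem exists_mulEnd_of_fixed (hn : finrank F L = 7) {a : Module.End F L} {u : Lˣ}
    (hu : (u : L) ∉ Set.range (algebraMap F L)) (h : cj u a = a) : ∃ c, a = mulEnd c := by
  have hc : ∀ x, a ((u : L) * x) = (u : L) * a x := fun x => by
    have := LinearMap.congr_fun h ((u : L) * x)
    rw [cj_apply, Units.inv_mul_cancel_left] at this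
    exact this.symm
  haveI : FiniteDimensional F L := FiniteDimensional.of_finrank_eq_succ hn
  let A : Subalgebra F L :=
    { carrier := {k | ∀ x, a (k * x) = k * a x}
      one_mem' := fun x => by simp
      mul_mem' := fun {k l} hk hl x => by rw [mul_assoc, hk, hl, mul_assoc]
      zero_mem' := fun x => by simp
      add_mem' := fun {k l} hk hl x => by rw [add_mul, map_add, hk, hl, add_mul]
      algebraMap_mem' := fun c x => by rw [← Algebra.smul_def, map_smul, Algebra.smul_def] }
  have hA : A = ⊤ := by
    refine ((Subalgebra.isSimpleOrder_of_finrank_prime F L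
      (by rw [hn]; norm_num)).eq_bot_or_eq_top A).resolve_left fun hbot => hu ?_
    have hm : (u : L) ∈ A := hc
    rw [hbot, Algebra.mem_bot] at hm
    exact hm
  refine ⟨a 1, LinearMap.ext fun x => ?_⟩
  have hx : x ∈ A := hA ▸ Algebra.mem_top
  have h1 := hx 1
  rw [mul_one] at h1
  rw [h1, mulEnd_apply, mul_comm]

variable [Finite L]

/-- An endomorphism is a multiplication, or its conjugates under the torus are at least seventy-two. -/
theorem mulEnd_or_many {M : Subgroup (L ≃ₗ[F] L)} (O : Over M) (hbig : 72 ≤ Nat.card O.tor)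
    (a : Module.End F L) :
    (∃ c, a = mulEnd c) ∨ ∀ s : Finset (Module.End F L), (∀ u ∈ normOne F L, cj u a ∈ s) → 72 ≤ s.card := by
  classical
  by_cases h : ∃ c, a = mulEnd c
  · exact Or.inl h
  refine Or.inr fun s hs => ?_
  choose r hr using fun t : O.tor => O.mem_tor.mp t.2
  have hinj : Function.Injective fun t : O.tor => (⟨cj (r t : Lˣ) a, hs _ (r t).2⟩ : s) := by
    intro t t' htt
    have h1 : cj (r t : Lˣ) a = cj (r t' : Lˣ) a := congrArg Subtype.val htt
    by_cases hrange : (((r t : Lˣ)⁻¹ * (r t' : Lˣ) : Lˣ) : L) ∈ Set.range (algebraMap F L)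
    · refine Subtype.ext (Subtype.ext (Equiv.ext fun P => ?_))
      rw [hr, hr, show ((r t' : Lˣ)) = (r t : Lˣ) * ((r t : Lˣ)⁻¹ * (r t' : Lˣ)) by rw [mul_inv_cancel_left],
        map_mul, mul_smul, smul_eq_of_range hrange]
    · refine absurd (exists_mulEnd_of_fixed O.finrank hrange ?_) h
      rw [← cj_cj, ← h1, cj_cj, inv_mul_cancel, cj_one]
  have := Nat.card_le_card_of_injective _ hinj
  rw [Nat.card_eq_fintype_card (α := s), Fintype.card_coe] at this
  omega

/-- Non-zero pairwise orthogonal idempotents are at most seven. -/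
theorem card_orthogonal_le (hn : finrank F L = 7) (s : Finset (Module.End F L)) (h0 : ∀ e ∈ s, e ≠ 0)
    (hid : ∀ e ∈ s, e * e = e) (horth : ∀ e ∈ s, ∀ f ∈ s, e ≠ f → e * f = 0) : s.card ≤ 7 := by
  classical
  haveI : FiniteDimensional F L := finiteDim
  have hv : ∀ e : s, ∃ v, e.1 v ≠ 0 := fun e => by
    by_contra hc
    push Not at hc
    exact h0 e.1 e.2 (LinearMap.ext hc)
  choose v hv using hv
  have hli : LinearIndependent F fun e : s => e.1 (v e) := by
    rw [Fintype.linearIndependent_iff]
    intro g hg e
    have h1 := congrArg e.1 hg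
    rw [map_sum, map_zero, Finset.sum_eq_single e] at h1
    · rw [map_smul, ← Module.End.mul_apply, hid e.1 e.2] at h1
      exact (smul_eq_zero.mp h1).resolve_right (hv e)
    · intro f _ hf
      rw [map_smul, ← Module.End.mul_apply, horth e.1 e.2 f.1 f.2 fun h => hf (Subtype.ext h).symm]
      simp
    · simp
  have := hli.fintype_card_le_finrank
  rw [hn, Fintype.card_coe] at this
  exact this

/-- A commutative algebra normalised by the torus consists of multiplications. -/
theorem exists_mulEnd_of_comm {M : Subgroup (L ≃ₗ[F] L)} (O : Over M) (hbig : 72 ≤ Nat.card O.tor)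
    (A : Subalgebra F (Module.End F L)) (hcomm : ∀ a ∈ A, ∀ b ∈ A, a * b = b * a)
    (hinv : ∀ u ∈ normOne F L, ∀ a ∈ A, cj u a ∈ A) : ∀ a ∈ A, ∃ c, a = mulEnd c := by
  classical
  haveI := finite_base F L
  haveI : FiniteDimensional F L := finiteDim
  haveI : Finite (Module.End F L) := Finite.of_injective (fun f : Module.End F L => (f : L → L)) DFunLike.coe_injective
  haveI : Fintype (Module.End F L) := Fintype.ofFinite _
  let T : Finset Lˣ := (Set.toFinite (normOne F L : Set Lˣ)).toFinset
  have hT : ∀ u, u ∈ T ↔ u ∈ normOne F L := fun u => Set.Finite.mem_toFinset _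
  -- no idempotents but zero and one
  have hidem : ∀ e ∈ A, e * e = e → e = 0 ∨ e = 1 := by
    by_contra hc
    push Not at hc
    obtain ⟨e₀, he₀, hid₀, hne₀⟩ := hc
    let S : Finset (Module.End F L) := Finset.univ.filter fun e => e ∈ A ∧ e * e = e ∧ e ≠ 0 ∧ e ≠ 1
    obtain ⟨e, heS, hmin⟩ := Finset.exists_min_image S (fun e => finrank F (LinearMap.range e))
      ⟨e₀, by simp [S, he₀, hid₀, hne₀.1, hne₀.2]⟩
    simp only [S, Finset.mem_filter, Finset.mem_univ, true_and] at heS hmin
    obtain ⟨heA, hee, he0, he1⟩ := heS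
    have hnm : ¬ ∃ c, e = mulEnd c := by
      rintro ⟨c, rfl⟩
      rw [← map_mul] at hee
      have := LinearMap.congr_fun hee 1
      simp only [mulEnd_apply, mul_one] at this
      rcases mul_right_eq_self₀.mp this with h | h
      · exact he1 (by rw [h, map_one])
      · exact he0 (by rw [h, map_zero])
    have hprops : ∀ u ∈ normOne F L, cj u e * cj u e = cj u e ∧ cj u e ≠ 0 ∧ cj u e ≠ 1 ∧
        finrank F (LinearMap.range (cj u e)) = finrank F (LinearMap.range e) := by
      intro u hu
      refine ⟨by rw [cj_mul, hee], fun h => he0 ?_, fun h => he1 ?_, ?_⟩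
      · have := congrArg (cj u⁻¹) h
        rwa [cj_cj, inv_mul_cancel, cj_one, cj_zero] at this
      · have h1 : cj u (1 : Module.End F L) = 1 := by
          have := cj_pow u (1 : Module.End F L) 0
          simpa using this.symm
        have := congrArg (cj u⁻¹) (h.trans h1.symm)
        rwa [cj_cj, cj_cj, inv_mul_cancel, cj_one, cj_one] at this
      · have : LinearMap.range (cj u e) = (LinearMap.range e).map ((mulE u : L ≃ₗ[F] L) : L →ₗ[F] L) := by
          apply le_antisymm
          · rintro _ ⟨x, rfl⟩
            exact ⟨_, LinearMap.mem_range_self e _, rfl⟩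
          · rintro _ ⟨_, ⟨x, rfl⟩, rfl⟩
            exact ⟨(u : L) * x, by rw [cj_apply, Units.inv_mul_cancel_left]; rfl⟩
        rw [this, LinearEquiv.finrank_map_eq]
    rcases mulEnd_or_many O hbig e with h | hmany
    · exact hnm h
    have := hmany (T.image fun u => cj u e) fun u hu => Finset.mem_image_of_mem _ ((hT u).mpr hu)
    have hle := card_orthogonal_le O.finrank (T.image fun u => cj u e) ?_ ?_ ?_
    · omega
    · intro f hf
      obtain ⟨u, hu, rfl⟩ := Finset.mem_image.mp hf
      exact (hprops u ((hT u).mp hu)).2.1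
    · intro f hf
      obtain ⟨u, hu, rfl⟩ := Finset.mem_image.mp hf
      exact (hprops u ((hT u).mp hu)).1
    · intro f hf g hg hfg
      obtain ⟨u, hu, rfl⟩ := Finset.mem_image.mp hf
      obtain ⟨v, hv, rfl⟩ := Finset.mem_image.mp hg
      obtain ⟨hf1, hf2, -, hf4⟩ := hprops u ((hT u).mp hu)
      obtain ⟨hg1, hg2, -, hg4⟩ := hprops v ((hT v).mp hv)
      set f := cj u e
      set g := cj v e
      have hfA : f ∈ A := hinv u ((hT u).mp hu) e heA
      have hgA : g ∈ A := hinv v ((hT v).mp hv) e heA
      by_contra hfg0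
      have hfgid : f * g * (f * g) = f * g := by
        rw [mul_assoc, ← mul_assoc g f, ← hcomm f hfA g hgA, mul_assoc, ← mul_assoc f f, hf1, hg1]
      -- the product has the range of each factor, hence equals each
      have key : ∀ p q : Module.End F L, p ∈ A → q ∈ A → p * p = p → q * q = q →
          finrank F (LinearMap.range p) = finrank F (LinearMap.range e) → p * q = f * g → p = p * q := by
        intro p q hpA hqA hp hq hr hpq
        have hne1 : f * g ≠ 1 := by
          intro h1
          have h2 : finrank F (LinearMap.range p) = 7 := by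
            refine le_antisymm (O.finrank ▸ Submodule.finrank_le _) ?_
            rw [← O.finrank, ← finrank_top F L]
            refine Submodule.finrank_mono fun x _ => ⟨q x, ?_⟩
            rw [← Module.End.mul_apply, hpq, h1]; rfl
          have h3 : LinearMap.range e = ⊤ := Submodule.eq_top_of_finrank_eq (by rw [← hr, h2, O.finrank])
          refine he1 (LinearMap.ext fun x => ?_)
          obtain ⟨y, rfl⟩ : x ∈ LinearMap.range e := h3 ▸ Submodule.mem_top
          rw [← Module.End.mul_apply, hee]; rfl
        have hm := hmin (f * g) ⟨A.mul_mem hfA hgA, hfgid, hfg0, hne1⟩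
        have heq : LinearMap.range (p * q) = LinearMap.range p := by
          refine Submodule.eq_of_le_of_finrank_le ?_ (by rw [hpq, hr]; exact hm)
          rintro _ ⟨x, rfl⟩
          exact LinearMap.mem_range_self p (q x)
        refine LinearMap.ext fun x => ?_
        obtain ⟨y, hy⟩ : p x ∈ LinearMap.range (p * q) := heq ▸ LinearMap.mem_range_self p x
        have hidpq : (p * q) * p = p * q := by rw [mul_assoc, hcomm q hqA p hpA, ← mul_assoc, hp]
        calc p x = (p * q) y := hy.symm
          _ = (p * q) ((p * q) y) := by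
            rw [← Module.End.mul_apply, hpq, hfgid]
          _ = (p * q) x := by rw [hy, ← Module.End.mul_apply, hidpq]
      have e1 : f = f * g := key f g hfA hgA hf1 hg1 hf4 rfl
      have e2 : g = g * f := key g f hgA hfA hg1 hf1 hg4 (hcomm g hgA f hfA)
      exact hfg (by rw [e1, hcomm f hfA g hgA, ← e2])
  -- every element is zero, nilpotent or invertible in the algebra
  have hunit : ∀ a ∈ A, (∃ k, a ^ k = 0) ∨ ∃ b ∈ A, b * a = 1 := by
    intro a ha
    obtain ⟨i, j, hij, heq⟩ := Finite.exists_ne_map_eq_of_infinite fun k : ℕ => a ^ k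
    wlog hlt : i < j generalizing i j
    · exact this j i (Ne.symm hij) heq.symm (by omega)
    have hper : ∀ t k, i ≤ k → a ^ (k + t * (j - i)) = a ^ k := by
      intro t
      induction t with
      | zero => intro k _; simp
      | succ t ih =>
        intro k hk
        rw [show k + (t + 1) * (j - i) = j + (k - i + t * (j - i)) by rw [Nat.succ_mul]; omega, pow_add,
          ← show a ^ i = a ^ j from heq, ← pow_add, ← Nat.add_assoc, Nat.add_sub_cancel' hk]
        exact ih k hk
    set k0 := (i + 1) * (j - i) with hk0def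
    have hd : i + 1 ≤ k0 := Nat.le_mul_of_pos_right _ (by omega)
    have hidk : a ^ k0 * a ^ k0 = a ^ k0 := by
      rw [← pow_add]
      exact hper (i + 1) k0 (by omega)
    rcases hidem _ (A.pow_mem ha _) hidk with h | h
    · exact Or.inl ⟨_, h⟩
    · exact Or.inr ⟨a ^ (k0 - 1), A.pow_mem ha _, by rw [← pow_succ, Nat.sub_add_cancel (by omega)]; exact h⟩
  -- there are no nilpotent elements
  have hnil : ∀ a ∈ A, (∃ k, a ^ k = 0) → a = 0 := by
    let W : Submodule F L := ⨅ (b : Module.End F L) (_ : b ∈ A ∧ ∃ k, b ^ k = 0), LinearMap.ker b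
    have hW : W ≠ ⊥ := by
      let P : Finset (Submodule F L) := (Set.toFinite {U : Submodule F L | U ≠ ⊥ ∧ ∀ b ∈ A, ∀ x ∈ U, b x ∈ U}).toFinset
      haveI : Finite (Submodule F L) := Finite.of_injective _ (SetLike.coe_injective (A := Submodule F L))
      obtain ⟨U, hU, hUmin⟩ := Finset.exists_min_image P (fun U => finrank F U) ⟨⊤, by
        simp only [P, Set.Finite.mem_toFinset, Set.mem_ofPred_eq]
        exact ⟨top_ne_bot, fun _ _ _ _ => Submodule.mem_top⟩⟩
      simp only [P, Set.Finite.mem_toFinset, Set.mem_ofPred_eq] at hU hUmin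
      refine fun hbot => hU.1 (eq_bot_iff.mpr (le_trans ?_ hbot.le))
      refine le_iInf fun b => le_iInf fun hb => ?_
      obtain ⟨hbA, k, hk⟩ := hb
      by_contra hnot
      have hker : U ⊓ LinearMap.ker b = ⊥ := by
        by_contra hne
        have h1 := hUmin (U ⊓ LinearMap.ker b) ⟨hne, fun c hc x hx => ⟨hU.2 c hc x hx.1, by
          show b (c x) = 0
          rw [← Module.End.mul_apply, hcomm b hbA c hc, Module.End.mul_apply, show b x = 0 from hx.2, map_zero]⟩⟩
        exact hnot (inf_eq_left.mp (Submodule.eq_of_le_of_finrank_le inf_le_left h1))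
      refine hU.1 (eq_bot_iff.mpr fun x hx => ?_)
      have key : ∀ l, ∀ y ∈ U, (b ^ l) y = 0 → y = 0 := by
        intro l
        induction l with
        | zero => intro y _ h; simpa using h
        | succ l ih =>
          intro y hy h
          rw [pow_succ, Module.End.mul_apply] at h
          have : y ∈ U ⊓ LinearMap.ker b := ⟨hy, ih _ (hU.2 b hbA y hy) h⟩
          rw [hker] at this
          simpa using this
      exact key k x hx (by rw [hk]; rfl)
    intro a ha hk
    have htop : W = ⊤ := by
      obtain ⟨x, hx, hx0⟩ := Submodule.exists_mem_ne_zero_of_ne_bot hW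
      obtain ⟨t, ht⟩ : ∃ t : normOne F L, ((t : Lˣ) : L) ∉ Set.range (algebraMap F L) := by
        by_contra hall
        push Not at hall
        have h1 : (O.tor : Subgroup _) = ⊥ := (Subgroup.eq_bot_iff_forall _).mpr fun s hs => by
          obtain ⟨u, hu⟩ := O.mem_tor.mp hs
          exact Subtype.ext (Equiv.ext fun P => by rw [hu, smul_eq_of_range (hall u)]; rfl)
        rw [h1, Subgroup.card_bot] at hbig
        omega
      let St : Subalgebra F L :=
        { carrier := {c | ∀ y ∈ W, c * y ∈ W}
          one_mem' := fun y hy => by simpa using hy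
          mul_mem' := fun {c d} hc hd y hy => by rw [mul_assoc]; exact hc _ (hd y hy)
          zero_mem' := fun y _ => by simp
          add_mem' := fun {c d} hc hd y hy => by rw [add_mul]; exact W.add_mem (hc y hy) (hd y hy)
          algebraMap_mem' := fun c y hy => by rw [← Algebra.smul_def]; exact W.smul_mem c hy }
      have hmem : ((t : Lˣ) : L) ∈ St := fun y hy => by
        simp only [W, Submodule.mem_iInf, LinearMap.mem_ker] at hy ⊢
        rintro b ⟨hb, k, hk⟩
        have h1 := hy (cj (t : Lˣ)⁻¹ b) ⟨hinv _ (inv_mem t.2) b hb, k, by rw [cj_pow, hk, cj_zero]⟩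
        rw [cj_apply, inv_inv, mul_eq_zero] at h1
        exact h1.resolve_left (Units.ne_zero _)
      have hSt : St = ⊤ := ((Subalgebra.isSimpleOrder_of_finrank_prime F L
        (by rw [O.finrank]; norm_num)).eq_bot_or_eq_top St).resolve_left fun hbot => ht (by
          rw [hbot, Algebra.mem_bot] at hmem; exact hmem)
      refine eq_top_iff.mpr fun y _ => ?_
      have := (hSt ▸ Algebra.mem_top : y / x ∈ St) x hx
      rwa [div_mul_cancel₀ _ hx0] at this
    refine LinearMap.ext fun y => ?_
    have : y ∈ W := htop ▸ Submodule.mem_top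
    simp only [W, Submodule.mem_iInf, LinearMap.mem_ker] at this
    exact this a ⟨ha, hk⟩
  intro a ha
  refine (mulEnd_or_many O hbig a).resolve_right fun hmany => ?_
  -- the conjugates are roots of the minimal polynomial in the field `A`
  have hfield : IsField A := by
    refine ⟨⟨0, 1, fun h => zero_ne_one (congrArg Subtype.val h)⟩, fun x y => Subtype.ext (hcomm _ x.2 _ y.2),
      fun {x} hx => ?_⟩
    rcases hunit x x.2 with h | ⟨b, hb, hbx⟩
    · exact absurd (Subtype.ext (hnil x x.2 h)) hx
    · exact ⟨⟨b, hb⟩, Subtype.ext (by rw [Subalgebra.coe_mul, hcomm x x.2 b hb]; exact hbx)⟩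
  letI : Field A := hfield.toField
  let P := minpoly F a
  have hroot : ∀ (u : Lˣ) (hu : u ∈ normOne F L), Polynomial.aeval (⟨cj u a, hinv u hu a ha⟩ : A) P = 0 := fun u hu => by
    refine Subtype.ext ?_
    rw [Polynomial.aeval_subalgebra_coe]
    show Polynomial.aeval (cj u a) P = 0
    have hP := minpoly.aeval F a
    rw [Polynomial.aeval_eq_sum_range] at hP ⊢
    have h2 : ∑ i ∈ Finset.range (P.natDegree + 1), P.coeff i • cj u a ^ i =
        cj u (∑ i ∈ Finset.range (P.natDegree + 1), P.coeff i • a ^ i) := by
      simp only [cj, Finset.mul_sum, Finset.sum_mul]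
      exact Finset.sum_congr rfl fun i _ => by
        rw [← show cj u a = mulEnd (u : L) * a * mulEnd ((u⁻¹ : Lˣ) : L) from rfl, cj_pow, cj, mul_smul_comm,
          smul_mul_assoc]
    rw [h2, hP, cj_zero]
  have h41 := hmany ((P.aroots A).toFinset.image (fun x : A => (x : Module.End F L))) fun u hu => by
    refine Finset.mem_image.mpr ⟨⟨cj u a, hinv u hu a ha⟩, Multiset.mem_toFinset.mpr ?_, rfl⟩
    rw [Polynomial.mem_aroots]
    exact ⟨minpoly.ne_zero (IsIntegral.of_finite F a), hroot u hu⟩
  have hdeg : P.natDegree ≤ 49 := by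
    refine (minpoly.natDegree_le a).trans ?_
    rw [Module.finrank_linearMap, O.finrank]
  have h3 := h41.trans (Finset.card_image_le.trans (Multiset.toFinset_card_le _))
  have h4 : (P.aroots A).card ≤ P.natDegree := (Polynomial.card_roots' _).trans (Polynomial.natDegree_map_le)
  omega

end CfsgLib.SingerSeven
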