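/-
Either every element is semilinear or translation pairs in an invariant relation are equidistributed.
-/
import Cfsg.Agent.Lib.SingerSeven.CommAlg
import Cfsg.Agent.Lib.SingerFive.CharKill
import Cfsg.Agent.Lib.Coprime

set_option autoImplicit false
set_option linter.unusedSectionVars false
set_option linter.style.haveILetI false

namespace CfsgLib.SingerSeven

open Module
open CfsgLib.SingerFive
open scoped commutatorElement

variable {F L : Type*} [Field F] [Field L] [Algebra F L] [Finite L] {M : Subgroup (L ≃ₗ[F] L)}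

instance : Finite (L ≃ₗ[F] L) :=
  Finite.of_injective (fun g : L ≃ₗ[F] L => (g : L → L)) DFunLike.coe_injective

/-- Two elements with the same action on points differ by a scalar. -/
theorem exists_smul_of_onPts_eq {g h : M} (e : onPts M g = onPts M h) :
    ∃ c : F, c ≠ 0 ∧ ∀ x, (g : L ≃ₗ[F] L) x = c • (h : L ≃ₗ[F] L) x := by
  have h1 : onPts M (g * h⁻¹) = 1 := by rw [map_mul, map_inv, e, mul_inv_cancel]
  obtain ⟨c, hc⟩ := scalar_of_trivial h1
  have key : ∀ x, (g : L ≃ₗ[F] L) x = c • (h : L ≃ₗ[F] L) x := fun x => by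
    have := hc ((h : L ≃ₗ[F] L) x)
    rw [show ((g * h⁻¹ : M) : L ≃ₗ[F] L) = (g : L ≃ₗ[F] L) * (h : L ≃ₗ[F] L)⁻¹ from rfl, LinearEquiv.mul_apply,
      inv_eq_symm, LinearEquiv.symm_apply_apply] at this
    exact this
  refine ⟨c, fun h0 => ?_, key⟩
  have := key 1
  rw [h0, zero_smul] at this
  simp at this

theorem Over.tor_le_cent (O : Over M) {x : (onPts M).range} (hbig : 72 ≤ Nat.card O.tor) {τ : L ≃ₐ[F] L}
    (hτ : τ ≠ 1) (h : ∀ t ∈ O.tor, x * t = t * x) : x ∈ O.tor := by
  obtain ⟨a, ha, ha1⟩ : ∃ a ∈ O.tor, a ≠ 1 := by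
    by_contra hc
    push Not at hc
    rw [(Subgroup.eq_bot_iff_forall _).mpr hc, Subgroup.card_bot] at hbig
    omega
  exact (O.ccData hτ hbig).cc a ha ha1 x (h a ha)

/-- A normal subgroup containing the torus with derived subgroup off the torus forces semilinearity. -/
theorem Over.semi_of_normal (O : Over M) (hbig : 72 ≤ Nat.card O.tor) {τ : L ≃ₐ[F] L} (hτ : τ ≠ 1)
    {K : Subgroup (onPts M).range} (hKn : K.Normal) (hTK : O.tor ≤ K) (hK : ⁅K, K⁆ ⊓ O.tor = ⊥) :
    ∀ g ∈ M, IsSemi g := by
  classical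
  have D := O.ccData hτ hbig
  set X := ⁅K, K⁆ with hX
  haveI : X.Normal := by rw [hX]; infer_instance
  -- the derived subgroup is trivial
  have hbot : X = ⊥ := by
    by_contra hne
    have hcop : (Nat.card O.tor).Coprime (Nat.card X) := by
      refine Nat.coprime_of_dvd fun r hr hrT hrX => ?_
      haveI := Fact.mk hr
      obtain ⟨a, ha⟩ := exists_prime_orderOf_dvd_card' r hrT
      obtain ⟨y, hy⟩ := exists_prime_orderOf_dvd_card' r hrX
      have ha' : orderOf (a : (onPts M).range) = r := by rw [Subgroup.orderOf_coe, ha]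
      have hy' : orderOf (y : (onPts M).range) = r := by rw [Subgroup.orderOf_coe, hy]
      have hpg : IsPGroup r (Subgroup.zpowers (a : (onPts M).range)) :=
        IsPGroup.of_card (n := 1) (by rw [Nat.card_zpowers, ha', pow_one])
      obtain ⟨S, hS⟩ := hpg.exists_le_sylow
      have hST : (S : Subgroup (onPts M).range) ≤ O.tor := by
        have hS1 : Nontrivial S := by
          refine ⟨⟨⟨a, hS (Subgroup.mem_zpowers _)⟩, 1, fun h => ?_⟩⟩
          have h1 : (a : (onPts M).range) = 1 := congrArg Subtype.val h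
          rw [h1, orderOf_one] at ha'
          exact hr.one_lt.ne ha'
        haveI := hS1
        have hzc := S.2.center_nontrivial
        obtain ⟨⟨z, hz⟩, hz1⟩ := exists_ne (1 : Subgroup.center S)
        have hzT : (z : (onPts M).range) ∈ O.tor := D.cc _ a.2 (fun h => by
          rw [h, orderOf_one] at ha'; exact hr.one_lt.ne ha') _
          (congrArg Subtype.val (Subgroup.mem_center_iff.mp hz ⟨a, hS (Subgroup.mem_zpowers _)⟩)).symm
        intro s hs
        exact D.cc _ hzT (fun h => hz1 (Subtype.ext (Subtype.ext h))) s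
          (congrArg Subtype.val (Subgroup.mem_center_iff.mp hz ⟨s, hs⟩))
      have hpy : IsPGroup r (Subgroup.zpowers (y : (onPts M).range)) :=
        IsPGroup.of_card (n := 1) (by rw [Nat.card_zpowers, hy', pow_one])
      obtain ⟨S', hS'⟩ := hpy.exists_le_sylow
      obtain ⟨g, hg⟩ := MulAction.exists_smul_eq (onPts M).range S' S
      have hgy : g * y * g⁻¹ ∈ (S : Subgroup (onPts M).range) := by
        rw [← hg, Sylow.coe_subgroup_smul]
        exact ⟨y, hS' (Subgroup.mem_zpowers _), rfl⟩
      have : g * y * g⁻¹ ∈ X ⊓ O.tor := ⟨Subgroup.Normal.conj_mem ‹X.Normal› y y.2 g, hST hgy⟩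
      rw [hK, Subgroup.mem_bot] at this
      have h1 : (y : (onPts M).range) = 1 := conj_eq_one_iff.mp this
      rw [h1, orderOf_one] at hy'
      exact hr.one_lt.ne hy'
    obtain ⟨r, hr, hrX⟩ := Nat.exists_prime_and_dvd (n := Nat.card X) fun h => hne (Subgroup.card_eq_one.mp h)
    haveI := Fact.mk hr
    haveI : Group.IsSolvable O.tor := Group.isSolvable_of_comm fun a b => Subtype.ext (D.comm a a.2 b b.2)
    obtain ⟨P, hP⟩ := CfsgLib.coprime_exists_invariant_sylow (A := O.tor) (K := X)
      (Subgroup.le_normalizer_of_normal ..) hcop (Or.inl inferInstance) r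
    set R : Subgroup (onPts M).range := (P : Subgroup X).map X.subtype with hR
    have hRX : R ≤ X := Subgroup.map_subtype_le _
    have hR1 : Nontrivial R := by
      have hp : r ∣ Nat.card R := by
        rw [hR, Subgroup.card_map_of_injective X.subtype_injective]
        exact P.dvd_card_of_dvd_card hrX
      exact Finite.one_lt_card_iff_nontrivial.mp (lt_of_lt_of_le hr.one_lt (Nat.le_of_dvd Nat.card_pos hp))
    have hRp : IsPGroup r R := P.2.map _
    haveI := hR1
    haveI := hRp.center_nontrivial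
    set Y : Subgroup (onPts M).range := (Subgroup.center R).map R.subtype with hY
    have hYR : Y ≤ R := Subgroup.map_subtype_le _
    have hYc : ∀ y ∈ Y, ∀ s ∈ R, s * y = y * s := by
      rintro _ ⟨y, hy, rfl⟩ s hs
      exact congrArg Subtype.val (Subgroup.mem_center_iff.mp hy ⟨s, hs⟩)
    have hYinv : ∀ t ∈ O.tor, ∀ y ∈ Y, t * y * t⁻¹ ∈ Y := by
      rintro t ht _ ⟨y, hy, rfl⟩
      have hmem : t * y * t⁻¹ ∈ R := (Subgroup.mem_normalizer_iff.mp (hP ht) y).mp y.2
      refine ⟨⟨_, hmem⟩, Subgroup.mem_center_iff.mpr fun s => Subtype.ext ?_, rfl⟩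
      have hs : t⁻¹ * s * t ∈ R := by
        have := (Subgroup.mem_normalizer_iff.mp (hP (inv_mem ht)) s).mp s.2
        rwa [inv_inv] at this
      have h1 : t⁻¹ * (s : (onPts M).range) * t * y = y * (t⁻¹ * s * t) :=
        congrArg Subtype.val (Subgroup.mem_center_iff.mp hy ⟨_, hs⟩)
      show (s : (onPts M).range) * (t * y * t⁻¹) = t * y * t⁻¹ * s
      calc (s : (onPts M).range) * (t * y * t⁻¹) = t * (t⁻¹ * s * t * y) * t⁻¹ := by group
        _ = _ := by rw [h1]; group
    obtain ⟨⟨c₀, hc₀⟩, hc₁⟩ := exists_ne (1 : Subgroup.center R)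
    have hy₀ : (c₀ : (onPts M).range) ∈ Y := ⟨c₀, hc₀, rfl⟩
    have hy₁ : (c₀ : (onPts M).range) ≠ 1 := fun h => hc₁ (Subtype.ext (Subtype.ext h))
    have hYT : ∀ y ∈ Y, y ∈ O.tor → y = 1 := fun y hy hyT => by
      have : y ∈ X ⊓ O.tor := ⟨hRX (hYR hy), hyT⟩
      rw [hK] at this
      exact Subgroup.mem_bot.mp this
    -- the centre is large
    have hYbig : 72 ≤ Nat.card Y := by
      refine hbig.trans (Nat.card_le_card_of_injective (fun t : O.tor => (⟨_, hYinv t t.2 _ hy₀⟩ : Y)) ?_)
      intro t t' h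
      have h1 : (t : (onPts M).range) * c₀ * (t : (onPts M).range)⁻¹ = t' * c₀ * (t' : (onPts M).range)⁻¹ :=
        congrArg Subtype.val h
      by_contra hne'
      refine hy₁ (hYT _ hy₀ (D.cc _ (O.tor.mul_mem (O.tor.inv_mem t'.2) t.2) (fun h2 => hne' (Subtype.ext
        (inv_mul_eq_one.mp h2).symm)) _ ?_))
      calc (c₀ : (onPts M).range) * ((t' : (onPts M).range)⁻¹ * t) =
          (t' : (onPts M).range)⁻¹ * (t' * c₀ * (t' : (onPts M).range)⁻¹) * t := by group
        _ = _ := by rw [← h1]; group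
    -- lifts
    choose G hG using fun y : Y => MonoidHom.mem_range.mp (y : (onPts M).range).2
    let E : Y → Module.End F L := fun y => ((G y : L ≃ₗ[F] L) : L →ₗ[F] L)
    have hGeq : ∀ (g : M) (y : Y), onPts M g = ((y : (onPts M).range) : Equiv.Perm _) →
        ∃ c : F, c ≠ 0 ∧ ((g : L ≃ₗ[F] L) : L →ₗ[F] L) = c • E y := fun g y e => by
      obtain ⟨c, hc, h⟩ := exists_smul_of_onPts_eq (e.trans (hG y).symm)
      exact ⟨c, hc, LinearMap.ext fun x => h x⟩
    have hEmul : ∀ a b : Y, ∃ c : F, c ≠ 0 ∧ E a * E b = c • E (a * b) := fun a b => by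
      obtain ⟨c, hc, h⟩ := hGeq (G a * G b) (a * b) (by rw [map_mul, hG, hG]; rfl)
      exact ⟨c, hc, h⟩
    have hEne : ∀ a : Y, E a ≠ 0 := fun a h => by
      have := LinearMap.congr_fun h 1
      simp [E] at this
    have hYcomm : ∀ a b : Y, a * b = b * a := fun a b => Subtype.ext (hYc b b.2 a (hYR a.2))
    have hε : ∀ a b : Y, ∃ c : F, c ≠ 0 ∧ E a * E b = c • (E b * E a) := fun a b => by
      obtain ⟨c, hc, h⟩ := hEmul a b
      obtain ⟨c', hc', h'⟩ := hEmul b a
      refine ⟨c * c'⁻¹, mul_ne_zero hc (inv_ne_zero hc'), ?_⟩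
      rw [h, h', hYcomm b a, smul_smul, mul_assoc, inv_mul_cancel₀ hc', mul_one]
    have hEinv : ∀ a : Y, ∀ x, E a ((G a : L ≃ₗ[F] L).symm x) = x := fun a x =>
      (G a : L ≃ₗ[F] L).apply_symm_apply x
    have hcancel : ∀ (a : Y) (p q : Module.End F L), p * E a = q * E a → p = q := fun a p q h =>
      LinearMap.ext fun x => by
        have := LinearMap.congr_fun h ((G a : L ≃ₗ[F] L).symm x)
        simpa only [Module.End.mul_apply, hEinv] using this
    have hconj : ∀ (u : normOne F L) (y : Y), ∃ (c : F) (y' : Y), c ≠ 0 ∧ cj (u : Lˣ) (E y) = c • E y' ∧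
        (y' : (onPts M).range) = (onPts M).rangeRestrict (O.incl u) * y * ((onPts M).rangeRestrict (O.incl u))⁻¹ := by
      intro u y
      obtain ⟨c, hc, h⟩ := hGeq (O.incl u * G y * (O.incl u)⁻¹)
        (⟨(onPts M).rangeRestrict (O.incl u) * y * ((onPts M).rangeRestrict (O.incl u))⁻¹,
          hYinv _ ⟨u, rfl⟩ y y.2⟩ : Y) (by rw [map_mul, map_mul, map_inv, hG]; rfl)
      exact ⟨c, _, hc, by rw [← h]; rfl, rfl⟩
    by_cases hZ : ∃ a : Y, a ≠ 1 ∧ ∀ b : Y, E a * E b = E b * E a
    · obtain ⟨a, ha1, ha⟩ := hZ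
      let Z : Set (Module.End F L) := {p | ∃ y : Y, p = E y ∧ ∀ b : Y, E y * E b = E b * E y}
      have hZc : ∀ p ∈ Z, ∀ q ∈ Z, p * q = q * p := by
        rintro _ ⟨y, rfl, hy⟩ _ ⟨z, rfl, -⟩
        exact hy z
      have hAc : ∀ p ∈ Algebra.adjoin F Z, ∀ q ∈ Algebra.adjoin F Z, p * q = q * p := by
        intro p hp q hq
        have h1 : ∀ z ∈ Z, Commute q z := fun z hz => by
          refine (Algebra.commute_of_mem_adjoin_of_forall_mem_commute hq fun w hw => ?_).symm
          exact hZc z hz w hw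
        exact (Algebra.commute_of_mem_adjoin_of_forall_mem_commute hp h1).symm.eq
      have hinv : ∀ u ∈ normOne F L, ∀ p ∈ Algebra.adjoin F Z, cj u p ∈ Algebra.adjoin F Z := by
        intro u hu p hp
        induction hp using Algebra.adjoin_induction with
        | mem z hz =>
          obtain ⟨y, rfl, hy⟩ := hz
          obtain ⟨c, y', hc, hcy, hy'⟩ := hconj ⟨u, hu⟩ y
          rw [show cj u (E y) = c • E y' from hcy]
          refine Subalgebra.smul_mem _ (Algebra.subset_adjoin (show E y' ∈ Z from ⟨y', rfl, fun b => ?_⟩)) c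
          obtain ⟨c', b', hc', hb', hbeq⟩ := hconj (⟨u, hu⟩ : normOne F L)⁻¹ b
          obtain ⟨c'', b'', hc'', hb'', hbeq'⟩ := hconj ⟨u, hu⟩ b'
          have hbb : b'' = b := by
            refine Subtype.ext ?_
            rw [hbeq', hbeq, map_inv, map_inv]
            group
          rw [hbb] at hb''
          have h2 : (c • E y') * (c'' • E b) = (c'' • E b) * (c • E y') := by
            rw [← hcy, ← hb'', cj_mul, cj_mul, hy b']
          rw [smul_mul_smul_comm, smul_mul_smul_comm, mul_comm c'' c] at h2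
          exact smul_right_injective _ (mul_ne_zero hc hc'') h2
        | algebraMap c =>
          rw [Algebra.algebraMap_eq_smul_one, cj_scalar]
          refine Subalgebra.smul_mem _ ?_ c
          have h1 : cj u (1 : Module.End F L) = 1 := by
            have := cj_pow u (1 : Module.End F L) 0
            simpa using this.symm
          rw [h1]
          exact Subalgebra.one_mem _
        | add p q _ _ hp hq =>
          rw [show cj u (p + q) = cj u p + cj u q by simp [cj, mul_add, add_mul]]
          exact Subalgebra.add_mem _ hp hq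
        | mul p q _ _ hp hq =>
          rw [← cj_mul]
          exact Subalgebra.mul_mem _ hp hq
      obtain ⟨c, hc⟩ := exists_mulEnd_of_comm O hbig _ hAc hinv (E a) (Algebra.subset_adjoin ⟨a, rfl, ha⟩)
      refine ha1 (Subtype.ext (hYT a a.2 (O.tor_le_cent hbig hτ fun t ht => ?_)))
      obtain ⟨u, rfl⟩ := ht
      refine Subtype.ext ?_
      show ((a : (onPts M).range) : Equiv.Perm _) * onPts M (O.incl u) = onPts M (O.incl u) * ((a : (onPts M).range) : Equiv.Perm _)
      rw [← hG a, ← map_mul, ← map_mul]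
      congr 1
      refine Subtype.ext (LinearEquiv.ext fun x => ?_)
      show E a ((u : Lˣ) * x) = (u : Lˣ) * E a x
      rw [hc, mulEnd_apply, mulEnd_apply, mul_left_comm]
    · push Not at hZ
      haveI : Fintype Y := Fintype.ofFinite Y
      have hli : LinearIndependent F E := by
        rw [Fintype.linearIndependent_iff]
        by_contra hbad
        push Not at hbad
        obtain ⟨g₀, hg₀, i₀, hi₀⟩ := hbad
        have hex : ∃ n, ∃ g : Y → F, ∑ y, g y • E y = 0 ∧ (Finset.univ.filter fun y => g y ≠ 0).card = n ∧ 0 < n :=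
          ⟨_, g₀, hg₀, rfl, Finset.card_pos.mpr ⟨i₀, by simp [hi₀]⟩⟩
        obtain ⟨g, hg, hn, hpos⟩ := Nat.find_spec hex
        obtain ⟨y₁, hy₁⟩ := Finset.card_pos.mp (hn ▸ hpos)
        have hy₁g : g y₁ ≠ 0 := (Finset.mem_filter.mp hy₁).2
        obtain ⟨y₂, hy₂, hne'⟩ : ∃ y₂, g y₂ ≠ 0 ∧ y₂ ≠ y₁ := by
          by_contra hc
          push Not at hc
          rw [Finset.sum_eq_single y₁ (fun y _ hy => by
            rw [show g y = 0 from not_not.mp fun h => hy (hc y h), zero_smul]) (by simp)] at hg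
          exact hy₁g ((smul_eq_zero.mp hg).resolve_right (hEne y₁))
        obtain ⟨z, hz⟩ := hZ (y₂ * y₁⁻¹) (by simpa [mul_inv_eq_one] using hne')
        choose ε hε0 hεeq using fun y => hε z y
        have hdiff : ε y₂ ≠ ε y₁ := fun heq => hz (by
          obtain ⟨c, hc, h⟩ := hEmul (y₂ * y₁⁻¹) y₁
          rw [inv_mul_cancel_right] at h
          have h1 := hεeq y₂
          have h1' := hεeq y₁
          have h2 : E y₂ = c⁻¹ • (E (y₂ * y₁⁻¹) * E y₁) := by rw [h, smul_smul, inv_mul_cancel₀ hc, one_smul]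
          rw [h2, mul_smul_comm, smul_mul_assoc, smul_comm (ε y₂)] at h1
          have h3 := smul_right_injective _ (inv_ne_zero hc) h1
          rw [← mul_assoc, mul_assoc (E (y₂ * y₁⁻¹)) (E y₁) (E z), heq, ← mul_smul_comm, ← h1', ← mul_assoc] at h3
          exact (hcancel y₁ _ _ h3).symm)
        let g' : Y → F := fun y => g y * (ε y - ε y₁)
        have hsum : ∑ y, g' y • E y = 0 := by
          refine hcancel z _ _ ?_
          have h1 : ∑ y, (g y * ε y) • (E y * E z) = 0 := by
            have : E z * ∑ y, g y • E y = 0 := by rw [hg, mul_zero]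
            rw [Finset.mul_sum] at this
            rw [← this]
            exact Finset.sum_congr rfl fun y _ => by rw [mul_smul_comm, hεeq y, smul_smul]
          have h2 : ∑ y, (g y * ε y₁) • (E y * E z) = 0 := by
            have : ε y₁ • ((∑ y, g y • E y) * E z) = 0 := by rw [hg, zero_mul, smul_zero]
            rw [Finset.sum_mul, Finset.smul_sum] at this
            rw [← this]
            exact Finset.sum_congr rfl fun y _ => by rw [smul_mul_assoc, smul_smul, mul_comm]
          rw [zero_mul, Finset.sum_mul]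
          simp only [g', smul_mul_assoc, mul_sub]
          rw [Finset.sum_congr rfl fun y _ => sub_smul (g y * ε y) (g y * ε y₁) (E y * E z),
            Finset.sum_sub_distrib, h1, h2, sub_zero]
        refine Nat.find_min hex (m := (Finset.univ.filter fun y => g' y ≠ 0).card) ?_ ⟨g', hsum, rfl,
          Finset.card_pos.mpr ⟨y₂, by simp [g', hy₂, sub_ne_zero.mpr hdiff]⟩⟩
        rw [← hn]
        refine Finset.card_lt_card (Finset.ssubset_iff_of_subset (fun y hy => ?_) |>.mpr ⟨y₁, hy₁, by simp [g']⟩)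
        simp only [Finset.mem_filter, Finset.mem_univ, true_and] at hy ⊢
        exact left_ne_zero_of_mul hy
      haveI : FiniteDimensional F L := finiteDim
      have h25 := hli.fintype_card_le_finrank
      rw [Module.finrank_linearMap, O.finrank, ← Nat.card_eq_fintype_card] at h25
      omega
  -- so the torus is normal
  intro g hg
  set x : (onPts M).range := (onPts M).rangeRestrict ⟨g, hg⟩
  obtain ⟨a, ha, ha1⟩ : ∃ a ∈ O.tor, a ≠ 1 := by
    by_contra hc
    push Not at hc
    rw [(Subgroup.eq_bot_iff_forall _).mpr hc, Subgroup.card_bot] at hbig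
    omega
  have hKc : ∀ k ∈ K, ∀ k' ∈ K, k * k' = k' * k := fun k hk k' hk' => by
    have : ⁅k, k'⁆ ∈ X := Subgroup.commutator_mem_commutator hk hk'
    rw [hbot, Subgroup.mem_bot] at this
    exact commutatorElement_eq_one_iff_mul_comm.mp this
  have hxa : x * a * x⁻¹ ∈ O.tor := O.tor_le_cent hbig hτ fun t ht =>
    hKc _ (hKn.conj_mem a (hTK ha) x) t (hTK ht)
  obtain ⟨i, -, s, hs, hxs⟩ := D.fus x a ha ha1 hxa
  obtain ⟨u, rfl⟩ := hs
  obtain ⟨z, hz0, hz⟩ := exists_smul_of_onPts_eq (g := ⟨g, hg⟩) (h := O.incl u * ⟨autE (τ ^ i), O.aut _⟩) (by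
    refine Equiv.ext fun P => ?_
    have := congrArg (fun v : (onPts M).range => (v : Equiv.Perm (Sub F L 1)) P) hxs
    change onPts M ⟨g, hg⟩ P = onPts M (O.incl u) (((O.frob τ ^ i : (onPts M).range) : Equiv.Perm _) P) at this
    rw [this, O.frob_pow, map_mul]
    rfl)
  refine ⟨Units.map (algebraMap F L : F →* L) (Units.mk0 z hz0) * (u : Lˣ), τ ^ i, LinearEquiv.ext fun x => ?_⟩
  rw [hz x, LinearEquiv.mul_apply, mulE_apply, Units.val_mul, mul_assoc, Algebra.smul_def]
  rfl

/-- The number of translation pairs in an invariant relation. -/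
def Equidistributed (_O : Over M) : Prop :=
  ∀ S : Sub F L 1 → Sub F L 1 → Prop, (∀ g ∈ M, ∀ P Q, S P Q → S (g • P) (g • Q)) →
    ∀ t t' : Lˣ, t ∈ normOne F L → t' ∈ normOne F L → (t : L) ∉ Set.range (algebraMap F L) →
      (t' : L) ∉ Set.range (algebraMap F L) →
      Nat.card {P : Sub F L 1 // S P ((mulE t : L ≃ₗ[F] L) • P)} =
        Nat.card {P : Sub F L 1 // S P ((mulE t' : L ≃ₗ[F] L) • P)}

/-- Either every element is semilinear or translation pairs are equidistributed. -/
theorem Over.semi_or_equidistributed (O : Over M) :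
    (∀ g ∈ M, IsSemi g) ∨ Equidistributed O := by
  classical
  obtain ⟨τ, hτ⟩ := exists_aut_ne_one (F := F) (L := L) O.finrank
  obtain ⟨hbig, hpts⟩ := O.tor_big
  have D := O.ccData hτ hbig
  haveI : Fintype (onPts M).range := Fintype.ofFinite _
  haveI : Fintype (Sub F L 1) := Fintype.ofFinite _
  haveI : Fintype O.tor := Fintype.ofFinite _
  by_cases hsmall : ∃ χ l, D.Small (χ : (onPts M).range → ℂ) l
  · obtain ⟨χ, l, hsm⟩ := hsmall
    obtain ⟨K, hKn, hTK, hK⟩ := D.exists_normal_of_small (by omega) hsm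
    exact Or.inl (O.semi_of_normal hbig hτ hKn hTK hK)
  · push Not at hsmall
    refine Or.inr fun S hS t t' ht ht' hne hne' => ?_
    have hbound : 7 * Fintype.card (Sub F L 1) + (Nat.card O.tor - 1) * (7 + 1) <
        (Nat.card O.tor - 1) * Nat.card O.tor := by
      rw [← Nat.card_eq_fintype_card]
      obtain ⟨k, hk⟩ : ∃ k, Nat.card O.tor = k + 1 := ⟨Nat.card O.tor - 1, by omega⟩
      rw [hk] at hbig hpts ⊢
      rw [Nat.add_sub_cancel]
      nlinarith [Nat.mul_le_mul_left k (show 71 ≤ k by omega)]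
    refine D.trace_const (Ω := Sub F L 1) (fun s hs hs1 P => O.semiregular s hs hs1 P) hsmall hbound S
      (fun x P Q h => ?_) (t := (onPts M).rangeRestrict (O.incl ⟨t, ht⟩))
      (t' := (onPts M).rangeRestrict (O.incl ⟨t', ht'⟩)) ⟨_, rfl⟩ ?_ ⟨_, rfl⟩ ?_
    · obtain ⟨_, g, rfl⟩ := x
      exact hS g g.2 P Q h
    · intro h
      exact hne ((trivial_iff_range t).mp fun P =>
        congrArg (fun v : (onPts M).range => (v : Equiv.Perm (Sub F L 1)) P) h)
    · intro h
      exact hne' ((trivial_iff_range t').mp fun P =>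
        congrArg (fun v : (onPts M).range => (v : Equiv.Perm (Sub F L 1)) P) h)

end CfsgLib.SingerSeven
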