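/-
The class of a point: its norm modulo seventh powers.
-/
import Cfsg.Agent.Lib.SingerSeven.Lines

set_option autoImplicit false
set_option linter.unusedSectionVars false
set_option linter.style.haveILetI false

namespace CfsgLib.SingerSeven

open Module
open CfsgLib.SingerFive

/-- The classes of `F`-units modulo seventh powers. -/
abbrev Cls (F : Type*) [Field F] : Type _ := Fˣ ⧸ (powMonoidHom 7 : Fˣ →* Fˣ).range

variable {F L : Type*} [Field F] [Field L] [Algebra F L]

/-- The norm class of a unit of `L`. -/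
noncomputable def ncls : Lˣ →* Cls F :=
  (QuotientGroup.mk' _).comp (Units.map (Algebra.norm F : L →* F))

variable [Finite L]

theorem ncls_surjective : Function.Surjective (ncls : Lˣ →* Cls F) := by
  intro c
  obtain ⟨e, rfl⟩ := QuotientGroup.mk'_surjective _ c
  obtain ⟨a, rfl⟩ := FiniteField.unitsMap_norm_surjective F L e
  exact ⟨a, rfl⟩

theorem ncls_scalar (hn : finrank F L = 7) {c : F} (hc : c ≠ 0) :
    ncls (Units.map (algebraMap F L : F →* L) (Units.mk0 c hc)) = (1 : Cls F) := by
  refine (QuotientGroup.eq_one_iff _).mpr ⟨Units.mk0 c hc, Units.ext ?_⟩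
  simpa using (norm_algebraMap' hn c).symm

theorem ncls_normOne {u : Lˣ} (h : u ∈ normOne F L) : ncls u = (1 : Cls F) := by
  show (QuotientGroup.mk' _) (Units.map (Algebra.norm F : L →* F) u) = 1
  rw [MonoidHom.mem_ker.mp h, map_one]

/-- The class of a point. -/
noncomputable def pcls (P : Sub F L 1) : Cls F :=
  ncls (Units.mk0 (exists_pt P).choose (exists_pt P).choose_spec.choose)

theorem pcls_pt (hn : finrank F L = 7) (a : Lˣ) : pcls (pt (a : L) a.ne_zero : Sub F L 1) = ncls a := by
  obtain ⟨z, hz, he⟩ := pt_eq_pt a.ne_zero _ (exists_pt (pt (a : L) a.ne_zero : Sub F L 1)).choose_spec.choose_spec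
  show ncls _ = _
  rw [show Units.mk0 _ (exists_pt (pt (a : L) a.ne_zero : Sub F L 1)).choose_spec.choose =
    Units.map (algebraMap F L : F →* L) (Units.mk0 z hz) * a from Units.ext (by rw [Units.val_mul]; simp [he, Algebra.smul_def]),
    map_mul, ncls_scalar hn hz]
  exact one_mul (ncls a : Cls F)

/-- Two vectors of the same class differ by the torus up to a scalar. -/
theorem exists_tor_of_ncls (hn : finrank F L = 7) {x y : Lˣ} (hxy : LinearIndependent F ![(x : L), (y : L)])
    (h : ncls x = (ncls y : Cls F)) :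
    ∃ t ∈ normOne F L, (t : L) ∉ Set.range (algebraMap F L) ∧ ∀ W : Submodule F L, (y : L) ∈ W → (t : L) * x ∈ W := by
  obtain ⟨e, he⟩ := QuotientGroup.eq.mp h
  refine exists_tor_of_norm hn x.ne_zero y.ne_zero hxy (e : F) ?_
  have he' : (Units.map (Algebra.norm F : L →* F)) x * e ^ 7 = (Units.map (Algebra.norm F : L →* F)) y := by
    rw [show e ^ 7 = powMonoidHom 7 e from rfl, he, mul_inv_cancel_left]
  have := congrArg Units.val he'
  simp only [Units.val_mul, Units.val_pow_eq_pow_val, Units.coe_map] at this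
  rw [mul_comm, ← this]

/-- Every point of the line has another of its class on the line. -/
def Mated (W : Sub F L 2) : Prop :=
  ∀ P : Sub F L 1, P.1 ≤ W.1 → ∃ Q : Sub F L 1, Q.1 ≤ W.1 ∧ Q ≠ P ∧ pcls Q = pcls P

/-- A predicate invariant under the torus and the scalars holds on a multiple of the torus. -/
theorem Over.card_invariant {M : Subgroup (L ≃ₗ[F] L)} (O : Over M) (p : Lˣ → Prop)
    (hT : ∀ u ∈ normOne F L, ∀ a, p a → p (u * a))
    (hF : ∀ (c : F) (hc : c ≠ 0) a, p a → p (Units.map (algebraMap F L : F →* L) (Units.mk0 c hc) * a)) :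
    ∃ k, Nat.card {a : Lˣ // p a} = Nat.card O.tor * Nat.card Fˣ * k ∧
      Nat.card O.tor * k ≤ Nat.card (Sub F L 1) := by
  classical
  let q : Sub F L 1 → Prop := fun P => p (Units.mk0 (exists_pt P).choose (exists_pt P).choose_spec.choose)
  have hqa : ∀ a : Lˣ, q (pt (a : L) a.ne_zero) ↔ p a := by
    intro a
    obtain ⟨z, hz, he⟩ := pt_eq_pt a.ne_zero _ (exists_pt (pt (a : L) a.ne_zero : Sub F L 1)).choose_spec.choose_spec
    show p _ ↔ _
    rw [show Units.mk0 _ (exists_pt (pt (a : L) a.ne_zero : Sub F L 1)).choose_spec.choose =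
      Units.map (algebraMap F L : F →* L) (Units.mk0 z hz) * a from Units.ext (by rw [Units.val_mul]; simp [he, Algebra.smul_def])]
    refine ⟨fun h => ?_, hF z hz a⟩
    have h1 := hF z⁻¹ (inv_ne_zero hz) _ h
    rwa [← mul_assoc, ← map_mul, show Units.mk0 z⁻¹ (inv_ne_zero hz) * Units.mk0 z hz = 1 from
      Units.ext (inv_mul_cancel₀ hz), map_one, one_mul] at h1
  have hcnt : Nat.card {a : Lˣ // p a} = Nat.card {P // q P} * Nat.card Fˣ := by
    rw [← card_units_filter q]
    exact Nat.card_congr (Equiv.subtypeEquivRight fun a => (hqa a).symm)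
  letI : MulAction O.tor {P : Sub F L 1 // q P} :=
    { smul := fun t P => ⟨(t : (onPts M).range) • P.1, by
        obtain ⟨u, hu⟩ := O.mem_tor.mp t.2
        obtain ⟨v, hv, hPv⟩ := exists_pt P.1
        have h := P.2
        rw [hPv, show (pt v hv : Sub F L 1) = pt ((Units.mk0 v hv : Lˣ) : L) (Units.ne_zero _) from rfl, hqa] at h
        show q (((t : (onPts M).range) : Equiv.Perm (Sub F L 1)) P.1)
        rw [hu, hPv, mulE_pt, show (pt ((((u : Lˣ) : L)) * v) _ : Sub F L 1) =
          pt (((u : Lˣ) * Units.mk0 v hv : Lˣ) : L) (Units.ne_zero _) from rfl, hqa]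
        exact hT _ u.2 _ h⟩
      one_smul := fun P => Subtype.ext (one_smul _ P.1)
      mul_smul := fun s t P => Subtype.ext (mul_smul (s : (onPts M).range) t P.1) }
  have hst : ∀ P : {P : Sub F L 1 // q P}, MulAction.stabilizer O.tor P = ⊥ := fun P => by
    rw [eq_bot_iff]
    intro t ht
    by_contra hne
    exact O.semiregular t t.2 (fun h => hne (Subgroup.mem_bot.mpr (Subtype.ext h))) P.1
      (congrArg Subtype.val (MulAction.mem_stabilizer_iff.mp ht))
  have hdvd : Nat.card O.tor ∣ Nat.card {P // q P} := by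
    rw [Nat.card_congr (MulAction.selfEquivOrbitsQuotientProd hst), Nat.card_prod]
    exact dvd_mul_left _ _
  obtain ⟨k, hk⟩ := hdvd
  refine ⟨k, by rw [hcnt, hk]; ring, hk ▸ Nat.card_le_card_of_injective Subtype.val Subtype.val_injective⟩

/-- Multiplication by a non-zero element of `F` fixes every subspace. -/
theorem smul_scalar {k : ℕ} {c : F} (hc : c ≠ 0) (W : Sub F L k) :
    (mulE (Units.map (algebraMap F L : F →* L) (Units.mk0 c hc)) : L ≃ₗ[F] L) • W = W := by
  refine Subtype.ext (le_antisymm ?_ ?_)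
  · rintro _ ⟨x, hx, rfl⟩
    show algebraMap F L c * x ∈ _
    rw [← Algebra.smul_def]
    exact Submodule.smul_mem _ c hx
  · intro x hx
    exact ⟨c⁻¹ • x, Submodule.smul_mem _ _ hx, by
      show algebraMap F L c * (c⁻¹ • x) = x
      rw [← Algebra.smul_def, smul_smul, mul_inv_cancel₀ hc, one_smul]⟩

end CfsgLib.SingerSeven
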