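/-
The fields with eight, twenty-nine and forty-three elements.
-/
import Cfsg.Agent.Lib.SingerSeven.Mates

set_option autoImplicit false
set_option linter.unusedSectionVars false
set_option linter.style.haveILetI false
set_option linter.unusedSimpArgs false

namespace CfsgLib.SingerSeven

open Module Polynomial
open CfsgLib.SingerFive

variable {F L : Type*} [Field F] [Field L] [Algebra F L] [Finite L]

/-- A non seventh power has a seventh root in `L`. -/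
theorem exists_seventh_root (hn : finrank F L = 7) {c : F} (hc : ∀ b : F, b ^ 7 ≠ c) :
    ∃ β : L, β ^ 7 = algebraMap F L c := by
  haveI := finite_base F L
  haveI : Fintype F := Fintype.ofFinite F
  haveI : FiniteDimensional F L := finiteDim
  have hirr := X_pow_sub_C_irreducible_of_prime (by norm_num : Nat.Prime 7) hc
  haveI := Fact.mk hirr
  haveI : FiniteDimensional F (AdjoinRoot (X ^ 7 - C c)) := (AdjoinRoot.powerBasis hirr.ne_zero).finite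
  have hK : finrank F (AdjoinRoot (X ^ 7 - C c)) = 7 := by
    rw [(AdjoinRoot.powerBasis hirr.ne_zero).finrank, AdjoinRoot.powerBasis_dim, natDegree_X_pow_sub_C]
  obtain ⟨φ⟩ := FiniteField.nonempty_algHom_of_finrank_dvd (F := F) (K := AdjoinRoot (X ^ 7 - C c)) (L := L)
    (by rw [hK, hn])
  refine ⟨φ (AdjoinRoot.root _), ?_⟩
  have h0 : aeval (AdjoinRoot.root (X ^ 7 - C c)) (X ^ 7 - C c) = 0 := by
    rw [AdjoinRoot.aeval_eq, AdjoinRoot.mk_self]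
  have := congrArg φ h0
  rw [← Polynomial.aeval_algHom_apply, map_zero, map_sub, map_pow, aeval_X, aeval_C] at this
  exact sub_eq_zero.mp this

theorem table_twentynine :
    (∀ b : ZMod 29, b ^ 7 ≠ 2) ∧ (∀ a : ZMod 29, a ^ 7 + 15 * a ^ 3 + a ^ 2 + 15 * a + 23 ≠ 0) ∧
    (∃ a c : ZMod 29, a ^ 7 + 15 * a ^ 3 + a ^ 2 + 15 * a + 23 = c ^ 7) ∧
    (∀ a : ZMod 29, (∃ c, a ^ 7 + 15 * a ^ 3 + a ^ 2 + 15 * a + 23 = c ^ 7) ∨
      ∃ b c, b ≠ a ∧ b ^ 7 + 15 * b ^ 3 + b ^ 2 + 15 * b + 23 = c ^ 7 * (a ^ 7 + 15 * a ^ 3 + a ^ 2 + 15 * a + 23)) := by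
  decide +kernel

theorem table_fortythree :
    (∀ b : ZMod 43, b ^ 7 ≠ 2) ∧ (∀ a : ZMod 43, a ^ 7 + 29 * a ^ 3 + 15 * a ^ 2 + 29 * a + 37 ≠ 0) ∧
    (∃ a c : ZMod 43, a ^ 7 + 29 * a ^ 3 + 15 * a ^ 2 + 29 * a + 37 = c ^ 7) ∧
    (∀ a : ZMod 43, (∃ c, a ^ 7 + 29 * a ^ 3 + 15 * a ^ 2 + 29 * a + 37 = c ^ 7) ∨
      ∃ b c, b ≠ a ∧ b ^ 7 + 29 * b ^ 3 + 15 * b ^ 2 + 29 * b + 37 = c ^ 7 * (a ^ 7 + 29 * a ^ 3 + 15 * a ^ 2 + 29 * a + 37)) := by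
  decide +kernel

/-- A prime field with a table has a mated line through one and `β + β ^ 2`. -/
theorem exists_mated_prime (hn : finrank F L = 7) (p : ℕ) [Fact p.Prime] (hF : Nat.card F = p)
    (c u v w : ZMod p) (hu : u = -(7 * c)) (hv : v = -(14 * c)) (hw : w = -(c + c ^ 2))
    (t0 : ∀ b : ZMod p, b ^ 7 ≠ c) (t1 : ∀ a : ZMod p, a ^ 7 + u * a ^ 3 + v * a ^ 2 + u * a + w ≠ 0)
    (t2 : ∃ a d : ZMod p, a ^ 7 + u * a ^ 3 + v * a ^ 2 + u * a + w = d ^ 7)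
    (t3 : ∀ a : ZMod p, (∃ d, a ^ 7 + u * a ^ 3 + v * a ^ 2 + u * a + w = d ^ 7) ∨
      ∃ b d, b ≠ a ∧ b ^ 7 + u * b ^ 3 + v * b ^ 2 + u * b + w = d ^ 7 * (a ^ 7 + u * a ^ 3 + v * a ^ 2 + u * a + w)) :
    ∃ W : Sub F L 2, Mated W := by
  haveI := finite_base F L
  haveI : Fintype F := Fintype.ofFinite F
  rw [Nat.card_eq_fintype_card] at hF
  haveI : CharP F p := charP_of_card_eq_prime hF
  let e : ZMod p ≃+* F := RingEquiv.ofBijective (ZMod.castHom (dvd_refl p) F) ((Fintype.bijective_iff_injective_and_card _).mpr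
    ⟨(ZMod.castHom (dvd_refl p) F).injective, by rw [ZMod.card, hF]⟩)
  obtain ⟨β, hβ⟩ := exists_seventh_root (L := L) hn (c := e c) fun b hb => t0 (e.symm b) (by
    rw [← map_pow, hb, RingEquiv.symm_apply_apply])
  set f : F[X] := X ^ 7 + (C (e u) * X ^ 3 + C (e v) * X ^ 2 + C (e u) * X + C (e w)) with hf
  have hev : ∀ a, f.eval (e a) = e (a ^ 7 + u * a ^ 3 + v * a ^ 2 + u * a + w) := fun a => by
    rw [hf]
    simp only [eval_add, eval_mul, eval_pow, eval_X, eval_C, map_add, map_mul, map_pow]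
    ring
  refine mated_of_table hn (x := β + β ^ 2) (f := f) ?_ ?_ ?_ (fun a => ?_) ?_ (fun a => ?_)
  · rw [hf]; monicity!
  · rw [hf]; compute_degree!
  · rw [hf, hu, hv, hw]
    simp only [map_add, map_mul, map_pow, map_neg, map_ofNat, aeval_X, aeval_C]
    generalize algebraMap F L (e c) = z at hβ
    linear_combination (1 + z + 7 * β + 21 * β ^ 2 + 35 * β ^ 3 + 35 * β ^ 4 + 21 * β ^ 5 + 7 * β ^ 6 + β ^ 7) * hβ
  · obtain ⟨a, rfl⟩ := e.surjective a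
    rw [hev, Ne, map_eq_zero_iff _ e.injective]
    exact t1 a
  · obtain ⟨a, d, h⟩ := t2
    exact ⟨e a, e d, by rw [hev, h, map_pow]⟩
  · obtain ⟨a, rfl⟩ := e.surjective a
    rcases t3 a with ⟨d, h⟩ | ⟨b, d, hb, h⟩
    · exact Or.inl ⟨e d, by rw [hev, h, map_pow]⟩
    · exact Or.inr ⟨e b, e d, fun he => hb (e.injective he), by rw [hev, hev, h, map_mul, map_pow]⟩

theorem exists_mated_twentynine (hn : finrank F L = 7) (hF : Nat.card F = 29) : ∃ W : Sub F L 2, Mated W := by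
  haveI : Fact (Nat.Prime 29) := ⟨by norm_num⟩
  obtain ⟨t0, t1, t2, t3⟩ := table_twentynine
  exact exists_mated_prime hn 29 hF 2 15 1 23 (by decide +kernel +revert) (by decide +kernel +revert) (by decide +kernel +revert) t0
    (fun a => by simpa using t1 a) (by simpa using t2) (fun a => by simpa using t3 a)

theorem exists_mated_fortythree (hn : finrank F L = 7) (hF : Nat.card F = 43) : ∃ W : Sub F L 2, Mated W := by
  haveI : Fact (Nat.Prime 43) := ⟨by norm_num⟩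
  obtain ⟨t0, t1, t2, t3⟩ := table_fortythree
  exact exists_mated_prime hn 43 hF 2 29 15 37 (by decide +kernel +revert) (by decide +kernel +revert) (by decide +kernel +revert) t0
    (fun a => by simpa using t1 a) (by simpa using t2) (fun a => by simpa using t3 a)

/-- The field with eight elements. -/
theorem exists_mated_eight (hn : finrank F L = 7) (hF : Nat.card F = 8) : ∃ W : Sub F L 2, Mated W := by
  classical
  haveI := finite_base F L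
  haveI : Fintype F := Fintype.ofFinite F
  haveI : Fact (Nat.Prime 2) := ⟨Nat.prime_two⟩
  rw [Nat.card_eq_fintype_card] at hF
  haveI : CharP F 2 := charP_of_card_eq_prime_pow (f := 3) hF
  have h2 : (2 : F) = 0 := by exact_mod_cast CharP.cast_eq_zero F 2
  have h2L : (2 : L) = 0 := by rw [← map_ofNat (algebraMap F L) 2, h2, map_zero]
  obtain ⟨w, hw⟩ : ∃ w : F, w ^ 3 + w + 1 = 0 := by
    obtain ⟨g, hg⟩ := IsCyclic.exists_generator (α := Fˣ)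
    have hog : orderOf g = 7 := by
      rw [orderOf_eq_card_of_forall_mem_zpowers hg, Nat.card_units, Nat.card_eq_fintype_card, hF]
    have h7 : (g : F) ^ 7 = 1 := by rw [← Units.val_pow_eq_pow_val, ← hog, pow_orderOf_eq_one, Units.val_one]
    have hg1 : (g : F) ≠ 1 := fun h => by
      rw [show g = 1 from Units.ext h, orderOf_one] at hog
      norm_num at hog
    have hu : ((g : F) ^ 3 + g + 1) * ((g : F) ^ 3 + (g : F) ^ 2 + 1) * ((g : F) - 1) = 0 := by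
      linear_combination h7 + (-(g : F) ^ 3 + (g : F) ^ 4) * h2
    rcases mul_eq_zero.mp hu with h | h
    · rcases mul_eq_zero.mp h with h | h
      · exact ⟨g, h⟩
      · refine ⟨(g : F)⁻¹, ?_⟩
        have : (g : F) ≠ 0 := g.ne_zero
        field_simp
        linear_combination h
    · exact absurd (sub_eq_zero.mp h) hg1
  have hw0 : w ≠ 0 := fun h => by rw [h] at hw; norm_num at hw
  have hw1 : w ≠ 1 := fun h => one_ne_zero (α := F) (by rw [h] at hw; linear_combination hw - h2)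
  have hw2 : w ^ 2 ≠ 1 := fun h => hw1 (by linear_combination (w - 1) * hw - (w - 1) * w * h - (w - 1) * w * h2)
  have hall : ∀ a : F, a = 0 ∨ a = 1 ∨ a = w ∨ a = 1 + w ∨ a = w ^ 2 ∨ a = 1 + w ^ 2 ∨ a = w + w ^ 2 ∨
      a = 1 + w + w ^ 2 := by
    intro a
    by_cases ha : a = 0
    · exact Or.inl ha
    obtain ⟨i, hi, rfl⟩ : ∃ i < 7, w ^ i = a := by
      let z := Units.mk0 w hw0
      have hz : orderOf z = 7 := by
        haveI : Fact (Nat.Prime 7) := ⟨by norm_num⟩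
        refine orderOf_eq_prime (Units.ext ?_) fun h => hw1 (congrArg Units.val h)
        show w ^ 7 = 1
        linear_combination (w ^ 4 - w ^ 2 - w + 1) * hw + (w ^ 2 - 1) * h2
      obtain ⟨i, hi⟩ := (Submonoid.mem_powers_iff _ _).mp ((mem_powers_iff_mem_zpowers).mpr (mem_zpowers_of_prime_card
        (p := 7) (g' := Units.mk0 a ha) (g := z) (hp := ⟨by norm_num⟩) (by rw [Nat.card_units, Nat.card_eq_fintype_card, hF])
        fun h => hw1 (congrArg Units.val h)))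
      refine ⟨i % 7, Nat.mod_lt _ (by norm_num), ?_⟩
      have := congrArg Units.val ((pow_mod_orderOf z i).trans hi)
      rwa [hz, Units.val_pow_eq_pow_val] at this
    interval_cases i
    · exact Or.inr (Or.inl (pow_zero w))
    · exact Or.inr (Or.inr (Or.inl (pow_one w)))
    · exact Or.inr (Or.inr (Or.inr (Or.inr (Or.inl rfl))))
    · exact Or.inr (Or.inr (Or.inr (Or.inl (by linear_combination hw - (1 + w) * h2))))
    · exact Or.inr (Or.inr (Or.inr (Or.inr (Or.inr (Or.inr (Or.inl (by linear_combination w * hw - (w + w ^ 2) * h2)))))))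
    · exact Or.inr (Or.inr (Or.inr (Or.inr (Or.inr (Or.inr (Or.inr
        (by linear_combination (w ^ 2 - 1) * hw - w ^ 2 * h2)))))))
    · exact Or.inr (Or.inr (Or.inr (Or.inr (Or.inr (Or.inl
        (by linear_combination (w ^ 3 - w - 1) * hw + w * h2))))))
  have hwc : ∀ b : F, b ^ 7 ≠ w := fun b hb => by
    by_cases h0 : b = 0
    · exact hw0 (by rw [← hb, h0, zero_pow (by norm_num)])
    · refine hw1 ?_
      rw [← hb, show (7 : ℕ) = Fintype.card F - 1 by rw [hF], FiniteField.pow_card_sub_one_eq_one b h0]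
  obtain ⟨β, hβ⟩ := exists_seventh_root (L := L) hn hwc
  set f : F[X] := X ^ 7 + (C (1 + w + w ^ 2) * X ^ 5 + C (1 + w) * X ^ 4 + C (w + w ^ 2) * X ^ 3 + C w * X ^ 2 + C (1 + w))
    with hf
  have hev : ∀ a, f.eval a = a ^ 7 + (1 + w + w ^ 2) * a ^ 5 + (1 + w) * a ^ 4 + (w + w ^ 2) * a ^ 3 + w * a ^ 2 + (1 + w) := fun a => by
    rw [hf]
    simp only [eval_add, eval_mul, eval_pow, eval_X, eval_C]
    ring
  have v0 : f.eval (0 : F) = 1 + w := by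
    rw [hev]
    linear_combination (0) * hw + (0) * h2
  have v1 : f.eval (1 : F) = w := by
    rw [hev]
    linear_combination (0) * hw + (2 + 2 * w + w ^ 2) * h2
  have v2 : f.eval (w : F) = w := by
    rw [hev]
    linear_combination (-1 - w + w ^ 2 + w ^ 3 + 2 * w ^ 4) * hw + (1 + w) * h2
  have v3 : f.eval (1 + w : F) = 1 := by
    rw [hev]
    linear_combination (27 + 54 * w + 37 * w ^ 2 + 13 * w ^ 3 + 2 * w ^ 4) * hw + (-12 - 30 * w - 19 * w ^ 2) * h2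
  have v4 : f.eval (w ^ 2 : F) = w := by
    rw [hev]
    linear_combination (1 + 3 * w + w ^ 2 - 2 * w ^ 3 - w ^ 4 + w ^ 5 + w ^ 6 + w ^ 7 + w ^ 11) * hw + (-2 * w - 2 * w ^ 2) * h2
  have v5 : f.eval (1 + w ^ 2 : F) = 1 := by
    rw [hev]
    linear_combination (-9 + 18 * w - 8 * w ^ 2 + 31 * w ^ 3 - 4 * w ^ 4 + 32 * w ^ 5 - w ^ 6 + 20 * w ^ 7 + 7 * w ^ 9 + w ^ 11) * hw + (6 - 2 * w + 4 * w ^ 2) * h2
  have v6 : f.eval (w + w ^ 2 : F) = 1 + w := by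
    rw [hev]
    linear_combination (-60 - 58 * w + 14 * w ^ 2 + 47 * w ^ 3 + 15 * w ^ 4 - 18 * w ^ 5 - 7 * w ^ 6 + 23 * w ^ 7 + 33 * w ^ 8 + 21 * w ^ 9 + 7 * w ^ 10 + w ^ 11) * hw + (30 + 59 * w + 22 * w ^ 2) * h2
  have v7 : f.eval (1 + w + w ^ 2 : F) = 1 + w := by
    rw [hev]
    linear_combination (43 + 37 * w + 34 * w ^ 2 + 88 * w ^ 3 + 176 * w ^ 4 + 231 * w ^ 5 + 214 * w ^ 6 + 147 * w ^ 7 + 75 * w ^ 8 + 28 * w ^ 9 + 7 * w ^ 10 + w ^ 11) * hw + (-20 - 30 * w - w ^ 2) * h2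
  have h1w : (1 + w : F) ≠ 0 := fun h => hw1 (by linear_combination h - h2)
  refine mated_of_table hn (x := β ^ 2 + β ^ 3 + β ^ 4 + β ^ 4 * algebraMap F L w + β ^ 4 * algebraMap F L w ^ 2 + β ^ 5) (f := f) ?_ ?_ ?_ (fun a => ?_) ⟨1 + w, 1, by rw [v3, one_pow]⟩ (fun a => ?_)
  · rw [hf]; monicity!
  · rw [hf]; compute_degree!
  · rw [hf]
    simp only [map_add, map_mul, map_pow, map_one, aeval_X, aeval_C]
    have hwL : algebraMap F L w ^ 3 + algebraMap F L w + 1 = 0 := by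
      have := congrArg (algebraMap F L) hw
      simpa using this
    generalize algebraMap F L w = w at hβ hwL
    generalize hx : β ^ 2 + β ^ 3 + β ^ 4 + β ^ 4 * w + β ^ 4 * w ^ 2 + β ^ 5 = x
    replace hx := hx.symm
    have e1 : x ^ 1 = β ^ 2 + β ^ 3 + β ^ 4 + β ^ 4 * w + β ^ 4 * w ^ 2 + β ^ 5 := by rw [pow_one, hx]
    have e2 : x ^ 2 = β * w + β * w ^ 2 + β ^ 3 * w + β ^ 4 + β ^ 6 := by
      rw [pow_succ, e1, hx]
      linear_combination (4 + 2 * w + 2 * w ^ 2 + 3 * β + 2 * β * w + 3 * β * w ^ 2 + 2 * β * w ^ 3 + β * w ^ 4 + 2 * β ^ 2 + 2 * β ^ 2 * w + 2 * β ^ 2 * w ^ 2 + β ^ 3) * hβ + (2 + 2 * β + 2 * β * w + β * w ^ 2 + 2 * β ^ 2) * hwL + (-1 + w + w ^ 2 - β - β * w - β * w ^ 2 - β ^ 2 + β ^ 2 * w ^ 2 + β ^ 5 + β ^ 6 + β ^ 6 * w + β ^ 6 * w ^ 2) * h2L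
    have e3 : x ^ 3 = 1 + w + β + β * w + β ^ 3 + β ^ 3 * w + β ^ 4 * w ^ 2 + β ^ 5 * w + β ^ 5 * w ^ 2 + β ^ 6 + β ^ 6 * w ^ 2 := by
      rw [pow_succ, e2, hx]
      linear_combination (1 + w + w ^ 2 + w ^ 3 + 2 * β + 2 * β * w + β * w ^ 2 + 2 * β ^ 2 + β ^ 3 + β ^ 3 * w + β ^ 3 * w ^ 2 + β ^ 4) * hβ + (1 + w + β + β ^ 3 + 2 * β ^ 5 + β ^ 5 * w) * hwL + (-1 - w - β + β * w ^ 2 + β ^ 2 * w - β ^ 3 + β ^ 3 * w ^ 2 + β ^ 4 * w - β ^ 5 - β ^ 5 * w + β ^ 6 * w) * h2L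
    have e4 : x ^ 4 = β * w + β ^ 2 * w + β ^ 5 * w + β ^ 6 * w ^ 2 := by
      rw [pow_succ, e3, hx]
      linear_combination (1 + 3 * w + 4 * w ^ 2 + w ^ 3 + 2 * β + 2 * β * w + 3 * β * w ^ 2 + β * w ^ 3 + β * w ^ 4 + β ^ 2 + β ^ 2 * w + 4 * β ^ 2 * w ^ 2 + 2 * β ^ 2 * w ^ 3 + β ^ 2 * w ^ 4 + β ^ 3 + 2 * β ^ 3 * w + 3 * β ^ 3 * w ^ 2 + β ^ 3 * w ^ 3 + β ^ 3 * w ^ 4 + β ^ 4 + β ^ 4 * w ^ 2) * hβ + (4 + w + 2 * β + β * w + β * w ^ 2 + 3 * β ^ 2 + 2 * β ^ 2 * w + β ^ 2 * w ^ 2 + 2 * β ^ 3 + β ^ 3 * w + β ^ 3 * w ^ 2 + 2 * β ^ 4 + β ^ 5) * hwL + (-2 - 2 * w + w ^ 2 - β - β * w - β ^ 2 - 2 * β ^ 2 * w - β ^ 2 * w ^ 2 + β ^ 4 * w + β ^ 4 * w ^ 2 + β ^ 5 + β ^ 5 * w + β ^ 5 * w ^ 2 + β ^ 6 + β ^ 6 * w) * h2L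
    have e5 : x ^ 5 = β + β * w + β * w ^ 2 + β ^ 2 * w + β ^ 3 * w ^ 2 + β ^ 4 + β ^ 4 * w + β ^ 5 + β ^ 5 * w + β ^ 5 * w ^ 2 + β ^ 6 + β ^ 6 * w + β ^ 6 * w ^ 2 := by
      rw [pow_succ, e4, hx]
      linear_combination (2 * w + β * w + β * w ^ 2 + β ^ 2 * w + 2 * β ^ 2 * w ^ 2 + β ^ 2 * w ^ 3 + β ^ 3 * w + β ^ 3 * w ^ 2 + β ^ 3 * w ^ 3 + β ^ 3 * w ^ 4 + β ^ 4 * w ^ 2) * hβ + (β + 2 * β ^ 2 + β ^ 2 * w + β ^ 3 * w + β ^ 3 * w ^ 2 + β ^ 4 + β ^ 5 + β ^ 6) * hwL + (w ^ 2 - β - β * w - β ^ 2 - 2 * β ^ 2 * w - β ^ 3 * w ^ 2 - β ^ 4 - β ^ 5 - β ^ 6) * h2L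
    have e6 : x ^ 6 = 1 + w ^ 2 + β + β * w + β * w ^ 2 + β ^ 2 + β ^ 2 * w ^ 2 + β ^ 3 * w ^ 2 + β ^ 5 + β ^ 5 * w ^ 2 + β ^ 6 + β ^ 6 * w ^ 2 := by
      rw [pow_succ, e5, hx]
      linear_combination (2 + 3 * w + 2 * w ^ 2 + w ^ 3 + w ^ 4 + 3 * β + 4 * β * w + 5 * β * w ^ 2 + β * w ^ 3 + 3 * β ^ 2 + 4 * β ^ 2 * w + 4 * β ^ 2 * w ^ 2 + 2 * β ^ 2 * w ^ 3 + β ^ 2 * w ^ 4 + 2 * β ^ 3 + 3 * β ^ 3 * w + 4 * β ^ 3 * w ^ 2 + 2 * β ^ 3 * w ^ 3 + β ^ 3 * w ^ 4 + β ^ 4 + β ^ 4 * w + β ^ 4 * w ^ 2) * hβ + (1 + w + w ^ 2 + 5 * β + β * w + 3 * β ^ 2 + 2 * β ^ 2 * w + β ^ 2 * w ^ 2 + 3 * β ^ 3 + 2 * β ^ 3 * w + β ^ 3 * w ^ 2 + β ^ 4 + 2 * β ^ 5 + β ^ 5 * w + β ^ 6) * hwL + (-1 - 3 * β - 2 * β * w + β * w ^ 2 - 2 * β ^ 2 - β ^ 2 * w - β ^ 3 - β ^ 3 * w + β ^ 4 * w + β ^ 4 * w ^ 2 - β ^ 5 + β ^ 5 * w ^ 2 + β ^ 6 * w + β ^ 6 * w ^ 2) * h2L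
    have e7 : x ^ 7 = w + β + β * w + β ^ 2 + β ^ 2 * w + β ^ 3 * w ^ 2 + β ^ 4 + β ^ 4 * w ^ 2 + β ^ 5 + β ^ 5 * w + β ^ 5 * w ^ 2 + β ^ 6 + β ^ 6 * w ^ 2 := by
      rw [pow_succ, e6, hx]
      linear_combination (2 + 3 * w ^ 2 + w ^ 3 + w ^ 4 + 2 * β + 3 * β * w ^ 2 + 2 * β ^ 2 + β ^ 2 * w + 3 * β ^ 2 * w ^ 2 + β ^ 2 * w ^ 3 + β ^ 2 * w ^ 4 + 2 * β ^ 3 + β ^ 3 * w + 3 * β ^ 3 * w ^ 2 + β ^ 3 * w ^ 3 + β ^ 3 * w ^ 4 + β ^ 4 + β ^ 4 * w ^ 2) * hβ + (2 + w + w ^ 2 + 3 * β + 2 * β ^ 2 + β ^ 2 * w + β ^ 2 * w ^ 2 + 2 * β ^ 3 + β ^ 3 * w + β ^ 3 * w ^ 2 + 2 * β ^ 4 + β ^ 4 * w + 2 * β ^ 5 + β ^ 5 * w + β ^ 6 + β ^ 6 * w) * hwL + (-1 - w - w ^ 2 - 2 * β - β * w - β ^ 2 - β ^ 2 * w + β ^ 4 * w ^ 2 - β ^ 5 * w + 2 * β ^ 5 * w ^ 2 + β ^ 6 * w ^ 2) * h2L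
    rw [e2, e3, e4, e5, e7]
    linear_combination (0) * hβ + (1 + 4 * β + β * w + β ^ 2 + 2 * β ^ 3 + β ^ 3 * w + 2 * β ^ 4 + β ^ 4 * w + 4 * β ^ 5 + 2 * β ^ 5 * w + 4 * β ^ 6 + 2 * β ^ 6 * w) * hwL + (w + w ^ 2 - β + 3 * β * w ^ 2 + β ^ 2 * w + β ^ 2 * w ^ 2 - β ^ 3 - β ^ 3 * w + 2 * β ^ 3 * w ^ 2 + β ^ 4 * w ^ 2 - β ^ 5 - β ^ 5 * w + 2 * β ^ 5 * w ^ 2 - β ^ 6 - β ^ 6 * w + 2 * β ^ 6 * w ^ 2) * h2L
  · rcases hall a with rfl | rfl | rfl | rfl | rfl | rfl | rfl | rfl <;>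
      simp only [v0, v1, v2, v3, v4, v5, v6, v7] <;> first | exact one_ne_zero | exact hw0 | exact h1w
  · rcases hall a with rfl | rfl | rfl | rfl | rfl | rfl | rfl | rfl
    · exact Or.inr ⟨w + w ^ 2, 1, fun h => hw1 (by linear_combination (w - 1) * hw - (w - 1) ^ 2 * h - (w - 1) * w * h2), by rw [v0, v6, one_pow, one_mul]⟩
    · exact Or.inr ⟨w, 1, hw1, by rw [v1, v2, one_pow, one_mul]⟩
    · exact Or.inr ⟨1, 1, fun h => hw1 h.symm, by rw [v1, v2, one_pow, one_mul]⟩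
    · exact Or.inl ⟨1, by rw [v3, one_pow]⟩
    · exact Or.inr ⟨1, 1, fun h => hw2 h.symm, by rw [v1, v4, one_pow, one_mul]⟩
    · exact Or.inl ⟨1, by rw [v5, one_pow]⟩
    · exact Or.inr ⟨0, 1, fun h => h1w ((mul_eq_zero.mp (show w * (1 + w) = 0 by linear_combination -h)).resolve_left hw0), by rw [v0, v6, one_pow, one_mul]⟩
    · exact Or.inr ⟨0, 1, fun h => hw0 (by linear_combination hw + (w - 1) * h - h2), by rw [v0, v7, one_pow, one_mul]⟩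

end CfsgLib.SingerSeven
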