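/-
Overgroups of the Singer normaliser in dimension seven are semilinear or doubly transitive on points.
-/
import Cfsg.Agent.Lib.SingerSeven.Pairs

set_option autoImplicit false
set_option linter.unusedSectionVars false
set_option linter.style.haveILetI false

namespace CfsgLib.SingerSeven

open Module
open CfsgLib.SingerFive

variable {F L : Type*} [Field F] [Field L] [Algebra F L] [Finite L] {M : Subgroup (L ≃ₗ[F] L)}

/-- An overgroup of the Singer normaliser is semilinear or doubly transitive on points. -/
theorem Over.semi_or_pairs (O : Over M) : (∀ g ∈ M, IsSemi g) ∨ PairTrans M :=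
  O.semi_or_equidistributed.imp id fun hE P Q P' Q' hne hne' => O.pairs_transitive hE P Q P' Q' hne hne'

end CfsgLib.SingerSeven
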