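/-
Orbits of a linear group on points and on dual points are equal in number.
-/
import Cfsg.Agent.Lib.SingerFive.Hyper

set_option autoImplicit false
set_option linter.unusedSectionVars false
set_option linter.style.haveILetI false

namespace CfsgLib.SingerSeven

open Module
open CfsgLib.SingerFive (Sub pt exists_pt smul_pt pt_eq_pt dualE dualE_apply card_fixed_dual sub_smul_val finite_field)

variable {F U : Type*} [Field F] [AddCommGroup U] [Module F U] [Finite U]

/-- The scalar maps. -/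
def sc : Fˣ →* (U ≃ₗ[F] U) where
  toFun := LinearEquiv.smulOfUnit
  map_one' := LinearEquiv.ext fun x => one_smul F x
  map_mul' a b := LinearEquiv.ext fun x => mul_smul (a : F) (b : F) x

theorem sc_apply (c : Fˣ) (x : U) : (sc c : U ≃ₗ[F] U) x = (c : F) • x := rfl

theorem sc_comm (c : Fˣ) (g : U ≃ₗ[F] U) : sc c * g = g * sc c :=
  LinearEquiv.ext fun x => (map_smul g (c : F) x).symm

theorem sc_smul {k : ℕ} (c : Fˣ) (W : Sub F U k) : (sc c : U ≃ₗ[F] U) • W = W := by
  refine Subtype.ext (le_antisymm ?_ fun x hx => ?_)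
  · rintro _ ⟨x, hx, rfl⟩
    exact Submodule.smul_mem _ _ hx
  · exact ⟨(c⁻¹ : F) • x, Submodule.smul_mem _ _ hx, by
      show (c : F) • ((c⁻¹ : F) • x) = x
      rw [smul_smul, mul_inv_cancel₀ c.ne_zero, one_smul]⟩

theorem dualE_sc (c : Fˣ) (φ : Dual F U) : dualE (sc c : U ≃ₗ[F] U) φ = ((c⁻¹ : Fˣ) : F) • φ := by
  refine LinearMap.ext fun x => ?_
  rw [dualE_apply, LinearMap.smul_apply, ← map_smul]
  congr 1

/-- A fixed point is an eigenvector. -/
theorem smul_pt_eq_iff (g : U ≃ₗ[F] U) (P : Sub F U 1) {v : U} (hv : v ≠ 0) (hP : v ∈ P.1) :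
    g • P = P ↔ ∃ c : F, g v = c • v := by
  have hPv : P = pt v hv := Subtype.ext (Eq.symm (Submodule.eq_of_le_of_finrank_le
    ((Submodule.span_singleton_le_iff_mem _ _).mpr hP) (by
      haveI : FiniteDimensional F U := Module.Finite.of_finite
      rw [P.2, (pt v hv : Sub F U 1).2])))
  rw [hPv, smul_pt]
  constructor
  · intro h
    obtain ⟨c, -, hc⟩ := pt_eq_pt hv _ h.symm
    exact ⟨c, hc⟩
  · rintro ⟨c, hc⟩
    have hc0 : c ≠ 0 := fun h0 => hv (g.map_eq_zero_iff.mp (by rw [hc, h0, zero_smul]))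
    refine Subtype.ext ?_
    show F ∙ g v = F ∙ v
    rw [hc, Submodule.span_singleton_smul_eq hc0.isUnit]

/-- Fixed vectors of the multiples of a map count its fixed points. -/
theorem card_fixed_pts [Nontrivial U] [Fintype Fˣ] (g : U ≃ₗ[F] U) :
    ∑ c : Fˣ, Nat.card {x : U // (sc c * g : U ≃ₗ[F] U) x = x} =
      Fintype.card Fˣ + Fintype.card Fˣ * Nat.card {P : Sub F U 1 // g • P = P} := by
  classical
  haveI : Finite F := finite_field (V := U)
  choose r hr hP using fun P : Sub F U 1 => exists_pt P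
  have hrP : ∀ P, r P ∈ P.1 := fun P => by
    have := congrArg Subtype.val (hP P)
    rw [this]; exact Submodule.mem_span_singleton_self _
  have hz : ∀ c : Fˣ, Nat.card {x : U // (sc c * g : U ≃ₗ[F] U) x = x} =
      Nat.card {x : U // x ≠ 0 ∧ (sc c * g : U ≃ₗ[F] U) x = x} + 1 := by
    intro c
    rw [← Finite.card_option]
    refine (Nat.card_eq_of_bijective (fun o : Option {x : U // x ≠ 0 ∧ (sc c * g : U ≃ₗ[F] U) x = x} =>
      (match o with
        | none => ⟨0, map_zero _⟩
        | some x => ⟨x.1, x.2.2⟩ : {x : U // (sc c * g : U ≃ₗ[F] U) x = x})) ⟨?_, ?_⟩).symm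
    · rintro (_ | a) (_ | b) h
      · rfl
      · exact absurd (congrArg Subtype.val h).symm b.2.1
      · exact absurd (congrArg Subtype.val h) a.2.1
      · exact congrArg some (Subtype.ext (congrArg Subtype.val h : (_ : U) = _))
    · rintro ⟨x, hx⟩
      by_cases h0 : x = 0
      · exact ⟨none, Subtype.ext h0.symm⟩
      · exact ⟨some ⟨x, h0, hx⟩, rfl⟩
  rw [Finset.sum_congr rfl fun c _ => hz c, Finset.sum_add_distrib, Finset.sum_const, smul_eq_mul, mul_one,
    Finset.card_univ, add_comm, ← Nat.card_sigma]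
  congr 1
  rw [← Nat.card_eq_fintype_card, ← Nat.card_prod]
  -- a point and a multiple of its chosen vector
  symm
  have hfix : ∀ P : {P : Sub F U 1 // g • P = P}, ∃ e : Fˣ, g (r P.1) = (e : F) • r P.1 := fun P => by
    obtain ⟨c, hc⟩ := (smul_pt_eq_iff g P.1 (hr P.1) (hrP P.1)).mp P.2
    exact ⟨Units.mk0 c (fun h0 => hr P.1 (g.map_eq_zero_iff.mp (by rw [hc, h0, zero_smul]))), hc⟩
  choose e he using hfix
  refine Nat.card_eq_of_bijective (fun x : Fˣ × {P : Sub F U 1 // g • P = P} =>
    (⟨(e x.2)⁻¹, (x.1 : F) • r x.2.1, smul_ne_zero x.1.ne_zero (hr _), by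
      show (((e x.2)⁻¹ : Fˣ) : F) • g ((x.1 : F) • r x.2.1) = _
      rw [map_smul, he, smul_smul, smul_smul]
      congr 1
      rw [mul_right_comm, ← Units.val_mul, inv_mul_cancel, Units.val_one, one_mul]⟩ :
        Σ c : Fˣ, {x : U // x ≠ 0 ∧ (sc c * g : U ≃ₗ[F] U) x = x})) ⟨?_, ?_⟩
  · rintro ⟨a, P⟩ ⟨a', P'⟩ h
    have h1 : (a : F) • r P.1 = (a' : F) • r P'.1 := congrArg (fun y : Σ c : Fˣ, {x : U // x ≠ 0 ∧ _} => (y.2 : U)) h
    have hPP : P = P' := by
      refine Subtype.ext ?_
      rw [hP P.1, hP P'.1]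
      refine Subtype.ext ?_
      show F ∙ r P.1 = F ∙ r P'.1
      rw [← Submodule.span_singleton_smul_eq a.isUnit (r P.1), h1, Submodule.span_singleton_smul_eq a'.isUnit]
    subst hPP
    rw [Units.ext (smul_left_injective F (hr P.1) h1)]
  · rintro ⟨c, x, hx0, hx⟩
    have hgx : g x = ((c⁻¹ : Fˣ) : F) • x := by
      have h1 : (c : F) • g x = x := hx
      conv_rhs => rw [← h1]
      rw [smul_smul, ← Units.val_mul, inv_mul_cancel, Units.val_one, one_smul]
    have hfx : g • (pt x hx0 : Sub F U 1) = pt x hx0 :=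
      (smul_pt_eq_iff g _ hx0 (Submodule.mem_span_singleton_self x)).mpr ⟨_, hgx⟩
    let P : {P : Sub F U 1 // g • P = P} := ⟨pt x hx0, hfx⟩
    obtain ⟨a, ha, hxa⟩ := pt_eq_pt (hr P.1) hx0 (hP P.1).symm
    have hec : e P = c⁻¹ := by
      refine Units.ext (smul_left_injective F hx0 ?_)
      show (e P : F) • x = ((c⁻¹ : Fˣ) : F) • x
      conv_lhs => rw [hxa, smul_comm, ← he P, ← map_smul, ← hxa]
      exact hgx
    refine ⟨(Units.mk0 a ha, P), ?_⟩
    obtain rfl : c = (e P)⁻¹ := by rw [hec, inv_inv]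
    exact congrArg (Sigma.mk _) (Subtype.ext hxa.symm)

theorem dual_nontrivial [Nontrivial U] : Nontrivial (Dual F U) := by
  obtain ⟨v, hv⟩ := exists_ne (0 : U)
  haveI : FiniteDimensional F U := Module.Finite.of_finite
  obtain ⟨f, hf⟩ := Module.Projective.exists_dual_ne_zero F hv
  exact ⟨f, 0, fun h => hf (by rw [h]; rfl)⟩

theorem finite_dual : Finite (Dual F U) := by
  rcases subsingleton_or_nontrivial U with hV | hV
  · haveI : Subsingleton (Dual F U) := ⟨fun a b => LinearMap.ext fun x => by rw [Subsingleton.elim x 0, map_zero, map_zero]⟩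
    exact Finite.of_subsingleton
  · haveI : Finite F := finite_field (V := U)
    haveI : FiniteDimensional F U := Module.Finite.of_finite
    exact Module.finite_of_finite F

/-- A map fixes as many dual points as points. -/
theorem card_fixed_pts_dual [Nontrivial U] (g : U ≃ₗ[F] U) :
    Nat.card {Φ : Sub F (Dual F U) 1 // dualE g • Φ = Φ} = Nat.card {P : Sub F U 1 // g • P = P} := by
  classical
  haveI : Finite F := finite_field (V := U)
  haveI : Finite (Dual F U) := finite_dual
  haveI := dual_nontrivial (F := F) (U := U)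
  haveI : Fintype Fˣ := Fintype.ofFinite _
  have h1 := card_fixed_pts g
  have h2 := card_fixed_pts (dualE g)
  rw [← Equiv.sum_comp (Equiv.inv Fˣ)] at h2
  have h3 : ∀ c : Fˣ, Nat.card {φ : Dual F U // (sc c⁻¹ * dualE g : Dual F U ≃ₗ[F] Dual F U) φ = φ} =
      Nat.card {x : U // (sc c * g : U ≃ₗ[F] U) x = x} := fun c => by
    rw [← card_fixed_dual (sc c * g)]
    refine Nat.card_congr (Equiv.subtypeEquivRight fun φ => ?_)
    rw [map_mul]
    show ((c⁻¹ : Fˣ) : F) • dualE g φ = φ ↔ dualE (sc c : U ≃ₗ[F] U) (dualE g φ) = φ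
    rw [dualE_sc]
  simp only [Equiv.inv_apply] at h2
  rw [Finset.sum_congr rfl fun c _ => h3 c, h1] at h2
  exact (Nat.eq_of_mul_eq_mul_left Fintype.card_pos (Nat.add_left_cancel h2)).symm

/-- A group has as many orbits on dual points as on points. -/
theorem card_orbits_dual [Nontrivial U] {H : Type*} [Group H] [Finite H] (ρ : H →* (U ≃ₗ[F] U)) :
    letI := MulAction.compHom (Sub F U 1) ρ
    letI := MulAction.compHom (Sub F (Dual F U) 1) (dualE.comp ρ)
    Nat.card (MulAction.orbitRel.Quotient H (Sub F U 1)) =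
      Nat.card (MulAction.orbitRel.Quotient H (Sub F (Dual F U) 1)) := by
  classical
  letI := MulAction.compHom (Sub F U 1) ρ
  letI := MulAction.compHom (Sub F (Dual F U) 1) (dualE.comp ρ)
  haveI : Finite (Dual F U) := finite_dual
  haveI : Fintype H := Fintype.ofFinite H
  haveI : Fintype (Sub F U 1) := Fintype.ofFinite _
  haveI : Fintype (Sub F (Dual F U) 1) := Fintype.ofFinite _
  have hB1 := MulAction.sum_card_fixedBy_eq_card_orbits_mul_card_group H (Sub F U 1)
  have hB2 := MulAction.sum_card_fixedBy_eq_card_orbits_mul_card_group H (Sub F (Dual F U) 1)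
  rw [Finset.sum_congr rfl (fun h _ => show Fintype.card (MulAction.fixedBy (Sub F (Dual F U) 1) h) =
    Fintype.card (MulAction.fixedBy (Sub F U 1) h) by
      rw [← Nat.card_eq_fintype_card, ← Nat.card_eq_fintype_card]
      exact card_fixed_pts_dual (ρ h)), hB1] at hB2
  rw [Nat.card_eq_fintype_card, Nat.card_eq_fintype_card]
  exact Nat.eq_of_mul_eq_mul_right (Fintype.card_pos (α := H)) hB2

end CfsgLib.SingerSeven
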