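/-
A group on a quotient, the double dual, and the lemma on orbits relative to a fixed subspace.
-/
import Cfsg.Agent.Lib.SingerSeven.Brauer

set_option autoImplicit false
set_option linter.unusedSectionVars false
set_option linter.style.haveILetI false

namespace CfsgLib.SingerSeven

open Module
open CfsgLib.SingerFive (Sub pt exists_pt smul_pt pt_eq_pt pt_le_iff dualE dualE_apply sub_smul_val finite_field)

variable {F U : Type*} [Field F] [AddCommGroup U] [Module F U]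

theorem pt_eq_of_mem [FiniteDimensional F U] {P : Sub F U 1} {v : U} (hv : v ≠ 0) (h : v ∈ P.1) : P = pt v hv :=
  Subtype.ext (Eq.symm (Submodule.eq_of_le_of_finrank_le ((Submodule.span_singleton_le_iff_mem _ _).mpr h)
    (by rw [P.2, (pt v hv : Sub F U 1).2])))

theorem le_iff_of_mem [FiniteDimensional F U] {P : Sub F U 1} {v : U} (hv : v ≠ 0) (h : v ∈ P.1) (L : Submodule F U) :
    P.1 ≤ L ↔ v ∈ L := by
  rw [pt_eq_of_mem hv h]
  exact Submodule.span_singleton_le_iff_mem v L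

theorem exists_mem (P : Sub F U 1) : ∃ v : U, v ≠ 0 ∧ v ∈ P.1 := by
  obtain ⟨v, hv, rfl⟩ := exists_pt P
  exact ⟨v, hv, Submodule.mem_span_singleton_self v⟩

theorem map_le_smul (g : U ≃ₗ[F] U) (P : Sub F U 1) (L : Submodule F U) :
    (g • P).1 ≤ L.map (g : U →ₗ[F] U) ↔ P.1 ≤ L :=
  Submodule.map_le_map_iff_of_injective g.injective P.1 L

/-- The subgroup of a stabiliser of a point. -/
def fixer (X : Subgroup (U ≃ₗ[F] U)) (a : Sub F U 1) : Subgroup (U ≃ₗ[F] U) :=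
  X ⊓ MulAction.stabilizer (U ≃ₗ[F] U) a

theorem mem_fixer {X : Subgroup (U ≃ₗ[F] U)} {a : Sub F U 1} {g : U ≃ₗ[F] U} :
    g ∈ fixer X a ↔ g ∈ X ∧ g • a = a := Iff.rfl

/-- A group stabilising `L` on the quotient by `L`. -/
noncomputable def quotHom (S : Subgroup (U ≃ₗ[F] U)) (L : Submodule F U)
    (h : ∀ g ∈ S, L.map (g : U →ₗ[F] U) = L) : S →* ((U ⧸ L) ≃ₗ[F] (U ⧸ L)) where
  toFun g := Submodule.Quotient.equiv L L (g : U ≃ₗ[F] U) (h g g.2)
  map_one' := LinearEquiv.ext fun x => by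
    obtain ⟨y, rfl⟩ := L.mkQ_surjective x
    rfl
  map_mul' a b := LinearEquiv.ext fun x => by
    obtain ⟨y, rfl⟩ := L.mkQ_surjective x
    rfl

@[simp] theorem quotHom_mk (S : Subgroup (U ≃ₗ[F] U)) (L : Submodule F U)
    (h : ∀ g ∈ S, L.map (g : U →ₗ[F] U) = L) (g : S) (x : U) :
    quotHom S L h g (L.mkQ x) = L.mkQ ((g : U ≃ₗ[F] U) x) := rfl

/-- The point in the quotient of a point off `L`. -/
noncomputable def qpt (L : Submodule F U) (P : Sub F U 1) (h : ¬ P.1 ≤ L) : Sub F (U ⧸ L) 1 :=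
  ⟨P.1.map L.mkQ, by
    obtain ⟨v, hv, rfl⟩ := exists_pt P
    have hv' : L.mkQ v ≠ 0 := fun h0 => h ((Submodule.span_singleton_le_iff_mem _ _).mpr ((Submodule.Quotient.mk_eq_zero L).mp h0))
    rw [show (pt v hv : Sub F U 1).1.map L.mkQ = F ∙ L.mkQ v from
      (Submodule.map_span L.mkQ {v}).trans (by rw [Set.image_singleton]), finrank_span_singleton hv']⟩

theorem qpt_val (L : Submodule F U) (P : Sub F U 1) (h : ¬ P.1 ≤ L) : (qpt L P h).1 = P.1.map L.mkQ := rfl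

theorem exists_qpt [FiniteDimensional F U] (L : Submodule F U) (Q : Sub F (U ⧸ L) 1) :
    ∃ P h, qpt L P h = Q := by
  obtain ⟨x, hx, rfl⟩ := exists_pt Q
  obtain ⟨v, rfl⟩ := L.mkQ_surjective x
  have hv : v ≠ 0 := fun h0 => hx (by rw [h0, map_zero])
  have h : ¬ (pt v hv : Sub F U 1).1 ≤ L := fun h0 => hx
    ((Submodule.Quotient.mk_eq_zero L).mpr (h0 (Submodule.mem_span_singleton_self v)))
  exact ⟨pt v hv, h, Subtype.ext ((Submodule.map_span L.mkQ {v}).trans (by rw [Set.image_singleton]; rfl))⟩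

theorem qpt_smul (S : Subgroup (U ≃ₗ[F] U)) (L : Submodule F U)
    (h : ∀ g ∈ S, L.map (g : U →ₗ[F] U) = L) (g : S) (P : Sub F U 1) (hP : ¬ P.1 ≤ L)
    (hP' : ¬ ((g : U ≃ₗ[F] U) • P).1 ≤ L) :
    quotHom S L h g • qpt L P hP = qpt L ((g : U ≃ₗ[F] U) • P) hP' := by
  refine Subtype.ext ?_
  show (P.1.map L.mkQ).map (quotHom S L h g : (U ⧸ L) →ₗ[F] (U ⧸ L)) = (P.1.map ((g : U ≃ₗ[F] U) : U →ₗ[F] U)).map L.mkQ
  rw [← Submodule.map_comp, ← Submodule.map_comp]
  rfl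

/-- The functional point as a functional on the quotient. -/
theorem exists_dual_quot [FiniteDimensional F U] (L : Submodule F U) (Φ : Sub F (Dual F U) 1)
    (hΦ : Φ.1 ≤ L.dualAnnihilator) : ∃ Ψ : Sub F (Dual F (U ⧸ L)) 1, Ψ.1.map L.mkQ.dualMap = Φ.1 := by
  have e : (Φ.1.comap L.mkQ.dualMap).map L.mkQ.dualMap = Φ.1 :=
    Submodule.map_comap_eq_self (by rw [Submodule.range_dualMap_mkQ_eq]; exact hΦ)
  have hh := (Submodule.equivMapOfInjective L.mkQ.dualMap
    (LinearMap.dualMap_injective_of_surjective L.mkQ_surjective) (Φ.1.comap L.mkQ.dualMap)).finrank_eq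
  rw [e] at hh
  exact ⟨⟨_, hh.trans Φ.2⟩, e⟩

variable [Finite U]

/-- A group transitive on the points off `L` is transitive on the dual points killing `L`. -/
theorem trans_ann (S : Subgroup (U ≃ₗ[F] U)) (L : Submodule F U) (hL : ∀ g ∈ S, L.map (g : U →ₗ[F] U) = L)
    (htr : ∀ P Q : Sub F U 1, ¬ P.1 ≤ L → ¬ Q.1 ≤ L → ∃ g ∈ S, (g : U ≃ₗ[F] U) • P = Q)
    (Φ Φ' : Sub F (Dual F U) 1) (hΦ : Φ.1 ≤ L.dualAnnihilator) (hΦ' : Φ'.1 ≤ L.dualAnnihilator) :
    ∃ g ∈ S, dualE g • Φ = Φ' := by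
  classical
  haveI : FiniteDimensional F U := Module.Finite.of_finite
  by_cases htop : L = ⊤
  · obtain ⟨φ, hφ, hmem⟩ := exists_mem Φ
    have := hΦ hmem
    rw [htop, Submodule.dualAnnihilator_top, Submodule.mem_bot] at this
    exact absurd this hφ
  haveI : Nontrivial (U ⧸ L) := Submodule.Quotient.nontrivial_iff.mpr htop
  haveI : Finite (U ⧸ L) := Quotient.finite _
  haveI : Finite (Dual F (U ⧸ L)) := finite_dual
  haveI : Finite S := Finite.of_injective (fun g : S => ((g : U ≃ₗ[F] U) : U → U))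
    (DFunLike.coe_injective.comp Subtype.val_injective)
  let ρ := quotHom S L hL
  letI := MulAction.compHom (Sub F (U ⧸ L) 1) ρ
  letI := MulAction.compHom (Sub F (Dual F (U ⧸ L)) 1) (dualE.comp ρ)
  have h1 : Nat.card (MulAction.orbitRel.Quotient S (Sub F (U ⧸ L) 1)) ≤ 1 := by
    refine Finite.card_le_one_iff_subsingleton.mpr ⟨?_⟩
    rintro ⟨A⟩ ⟨B⟩
    obtain ⟨P, hP, rfl⟩ := exists_qpt L A
    obtain ⟨Q, hQ, rfl⟩ := exists_qpt L B
    obtain ⟨g, hg, rfl⟩ := htr Q P hQ hP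
    exact Quotient.sound (MulAction.orbitRel_apply.mpr ⟨⟨g, hg⟩, qpt_smul S L hL ⟨g, hg⟩ Q hQ hP⟩)
  rw [card_orbits_dual ρ] at h1
  haveI := Finite.card_le_one_iff_subsingleton.mp h1
  obtain ⟨Ψ, hΨ⟩ := exists_dual_quot L Φ hΦ
  obtain ⟨Ψ', hΨ'⟩ := exists_dual_quot L Φ' hΦ'
  obtain ⟨g, hg⟩ := MulAction.orbitRel_apply.mp (Quotient.exact
    (Subsingleton.elim (Quotient.mk'' Ψ' : MulAction.orbitRel.Quotient S (Sub F (Dual F (U ⧸ L)) 1)) (Quotient.mk'' Ψ)))
  refine ⟨g, g.2, Subtype.ext ?_⟩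
  show Φ.1.map (dualE (g : U ≃ₗ[F] U) : Dual F U →ₗ[F] Dual F U) = Φ'.1
  rw [← hΨ, ← hΨ', ← Submodule.map_comp, ← hg]
  show _ = (Ψ.1.map (dualE (ρ g) : Dual F (U ⧸ L) →ₗ[F] Dual F (U ⧸ L))).map L.mkQ.dualMap
  rw [← Submodule.map_comp]
  congr 1

/-- The double dual. -/
theorem dualE_dualE (g : U ≃ₗ[F] U) (v : U) : dualE (dualE g) (Dual.eval F U v) = Dual.eval F U (g v) := by
  refine LinearMap.ext fun φ => ?_
  show (dualE g).symm φ v = φ (g v)
  have h : (dualE g).symm φ = dualE g⁻¹ φ := by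
    rw [LinearEquiv.symm_apply_eq, ← LinearEquiv.mul_apply, ← map_mul, mul_inv_cancel, map_one]
    rfl
  rw [h]
  rfl

/-- Points transported by an equivalence. -/
noncomputable def subEquiv {W : Type*} [AddCommGroup W] [Module F W] (e : U ≃ₗ[F] W) : Sub F U 1 ≃ Sub F W 1 where
  toFun P := ⟨P.1.map (e : U →ₗ[F] W), (e.finrank_map_eq P.1).trans P.2⟩
  invFun Q := ⟨Q.1.map (e.symm : W →ₗ[F] U), (e.symm.finrank_map_eq Q.1).trans Q.2⟩
  left_inv P := Subtype.ext (by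
    show (P.1.map (e : U →ₗ[F] W)).map (e.symm : W →ₗ[F] U) = P.1
    rw [← Submodule.map_comp, LinearEquiv.comp_coe, LinearEquiv.self_trans_symm, LinearEquiv.refl_toLinearMap,
      Submodule.map_id])
  right_inv Q := Subtype.ext (by
    show (Q.1.map (e.symm : W →ₗ[F] U)).map (e : U →ₗ[F] W) = Q.1
    rw [← Submodule.map_comp, LinearEquiv.comp_coe, LinearEquiv.symm_trans_self, LinearEquiv.refl_toLinearMap,
      Submodule.map_id])

theorem subEquiv_val {W : Type*} [AddCommGroup W] [Module F W] (e : U ≃ₗ[F] W) (P : Sub F U 1) :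
    (subEquiv e P).1 = P.1.map (e : U →ₗ[F] W) := rfl

/-- A point in the double dual. -/
noncomputable def ePt [FiniteDimensional F U] : Sub F U 1 ≃ Sub F (Dual F (Dual F U)) 1 :=
  subEquiv (Module.evalEquiv F U)

theorem ePt_val [FiniteDimensional F U] (P : Sub F U 1) :
    (ePt P).1 = P.1.map (Module.evalEquiv F U : U →ₗ[F] Dual F (Dual F U)) := rfl

theorem ePt_smul [FiniteDimensional F U] (g : U ≃ₗ[F] U) (P : Sub F U 1) :
    dualE (dualE g) • ePt P = ePt (g • P) := by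
  refine Subtype.ext ?_
  rw [sub_smul_val, ePt_val, ePt_val, sub_smul_val, ← Submodule.map_comp, ← Submodule.map_comp]
  congr 1

theorem ePt_le [FiniteDimensional F U] (P : Sub F U 1) (L : Submodule F (Dual F U)) :
    (ePt P).1 ≤ L.dualAnnihilator ↔ P.1 ≤ L.dualCoannihilator := by
  rw [ePt_val, Submodule.map_le_iff_le_comap]
  rfl

/-- A group transitive on the dual points off `L` is transitive on the points killed by `L`. -/
theorem trans_coann (S : Subgroup (U ≃ₗ[F] U)) (L : Submodule F (Dual F U))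
    (hL : ∀ g ∈ S, L.map (dualE g : Dual F U →ₗ[F] Dual F U) = L)
    (htr : ∀ P Q : Sub F (Dual F U) 1, ¬ P.1 ≤ L → ¬ Q.1 ≤ L → ∃ g ∈ S, dualE g • P = Q)
    (P Q : Sub F U 1) (hP : P.1 ≤ L.dualCoannihilator) (hQ : Q.1 ≤ L.dualCoannihilator) :
    ∃ g ∈ S, (g : U ≃ₗ[F] U) • P = Q := by
  haveI : FiniteDimensional F U := Module.Finite.of_finite
  haveI : Finite (Dual F U) := finite_dual
  obtain ⟨_, ⟨g, hg, rfl⟩, e⟩ := trans_ann (S.map dualE) L
    (by rintro _ ⟨g, hg, rfl⟩; exact hL g hg)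
    (fun A B hA hB => by
      obtain ⟨g, hg, e⟩ := htr A B hA hB
      exact ⟨_, ⟨g, hg, rfl⟩, e⟩)
    (ePt P) (ePt Q) ((ePt_le P L).mpr hP) ((ePt_le Q L).mpr hQ)
  refine ⟨g, hg, ePt.injective ?_⟩
  rw [← ePt_smul, e]

/-- If a group fixing a point is transitive on the hyperplanes off it, two other points whose lines through it are
in one orbit are themselves in one orbit. -/
theorem smul_of_line (S : Subgroup (U ≃ₗ[F] U)) (a : Sub F U 1) (ha : ∀ g ∈ S, (g : U ≃ₗ[F] U) • a = a)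
    (hoff : ∀ Φ Φ' : Sub F (Dual F U) 1, ¬ Φ.1 ≤ a.1.dualAnnihilator → ¬ Φ'.1 ≤ a.1.dualAnnihilator →
      ∃ g ∈ S, dualE g • Φ = Φ')
    (P Q : Sub F U 1) (hP : P ≠ a) (hQ : Q ≠ a)
    (h : ∃ g ∈ S, ((g : U ≃ₗ[F] U) • P).1 ≤ Q.1 ⊔ a.1) : ∃ g ∈ S, (g : U ≃ₗ[F] U) • P = Q := by
  classical
  haveI : FiniteDimensional F U := Module.Finite.of_finite
  obtain ⟨u, hu, hua⟩ := exists_mem a
  haveI : Nontrivial U := ⟨u, 0, hu⟩
  haveI : Finite F := finite_field (V := U)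
  haveI : Finite (Dual F U) := finite_dual
  haveI : Finite S := Finite.of_injective (fun g : S => ((g : U ≃ₗ[F] U) : U → U))
    (DFunLike.coe_injective.comp Subtype.val_injective)
  have hmap : ∀ g ∈ S, a.1.map (g : U →ₗ[F] U) = a.1 := fun g hg => congrArg Subtype.val (ha g hg)
  have hne : ∀ R : Sub F U 1, ¬ R.1 ≤ a.1 ↔ R ≠ a := fun R => not_congr
    ⟨fun hle => Subtype.ext (Submodule.eq_of_le_of_finrank_le hle (by rw [R.2, a.2])), fun e => e ▸ le_rfl⟩
  have hne' : ∀ (g : S) (R : Sub F U 1), R ≠ a → (g : U ≃ₗ[F] U) • R ≠ a := fun g R hR e =>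
    hR (MulAction.injective (g : U ≃ₗ[F] U) (e.trans (ha g g.2).symm))
  have hnt : a.1 ≠ ⊤ := fun htop => (hne P).mpr hP (htop ▸ le_top)
  haveI : Nontrivial (U ⧸ a.1) := Submodule.Quotient.nontrivial_iff.mpr hnt
  haveI : Finite (U ⧸ a.1) := Quotient.finite _
  haveI : Finite (Dual F (U ⧸ a.1)) := finite_dual
  let ρ := quotHom S a.1 hmap
  letI := MulAction.compHom (Sub F (U ⧸ a.1) 1) ρ
  letI := MulAction.compHom (Sub F (Dual F (U ⧸ a.1)) 1) (dualE.comp ρ)
  letI := MulAction.compHom (Sub F (Dual F U) 1) (dualE.comp S.subtype)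
  haveI : Finite (Option (MulAction.orbitRel.Quotient S (Sub F (U ⧸ a.1) 1))) := inferInstance
  let f : MulAction.orbitRel.Quotient S (Sub F U 1) → Option (MulAction.orbitRel.Quotient S (Sub F (U ⧸ a.1) 1)) :=
    Quotient.lift (fun R => if hR : R = a then none else some (Quotient.mk'' (qpt a.1 R ((hne R).mpr hR)))) (by
      intro R R' hRR
      obtain ⟨g, rfl⟩ := MulAction.orbitRel_apply.mp hRR
      by_cases hR : R' = a
      · have h' : g • R' = a := by rw [hR]; exact ha g g.2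
        rw [dif_pos hR, dif_pos h']
      · have h' : g • R' ≠ a := hne' g R' hR
        rw [dif_neg hR, dif_neg h']
        exact congrArg some (Quotient.sound (MulAction.orbitRel_apply.mpr
          ⟨g, qpt_smul S a.1 hmap g R' ((hne R').mpr hR) ((hne _).mpr h')⟩)))
  have hf : Function.Surjective f := by
    rintro (_ | A)
    · exact ⟨Quotient.mk'' a, dif_pos rfl⟩
    · induction A using Quotient.inductionOn' with | _ A => ?_
      obtain ⟨R, hR, rfl⟩ := exists_qpt a.1 A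
      exact ⟨Quotient.mk'' R, dif_neg ((hne R).mp hR)⟩
  obtain ⟨Φ₀, hΦ₀⟩ : ∃ Φ : Sub F (Dual F U) 1, ¬ Φ.1 ≤ a.1.dualAnnihilator := by
    obtain ⟨φ, hφ⟩ := Module.Projective.exists_dual_ne_zero F hu
    have hφ0 : φ ≠ 0 := fun e => hφ (by rw [e]; rfl)
    refine ⟨pt φ hφ0, fun hle => hφ ?_⟩
    exact (Submodule.mem_dualAnnihilator φ).mp (hle (Submodule.mem_span_singleton_self φ)) u hua
  let lift : Sub F (Dual F (U ⧸ a.1)) 1 → Sub F (Dual F U) 1 := fun Ψ => ⟨Ψ.1.map a.1.mkQ.dualMap,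
    (Submodule.equivMapOfInjective _ (LinearMap.dualMap_injective_of_surjective a.1.mkQ_surjective) _).finrank_eq.symm.trans Ψ.2⟩
  let g' : Option (MulAction.orbitRel.Quotient S (Sub F (Dual F (U ⧸ a.1)) 1)) →
      MulAction.orbitRel.Quotient S (Sub F (Dual F U) 1) := fun o => match o with
    | none => Quotient.mk'' Φ₀
    | some A => Quotient.lift (fun Ψ => (Quotient.mk'' (lift Ψ) : MulAction.orbitRel.Quotient S (Sub F (Dual F U) 1))) (by
        intro A B hAB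
        obtain ⟨g, rfl⟩ := MulAction.orbitRel_apply.mp hAB
        refine Quotient.sound (MulAction.orbitRel_apply.mpr ⟨g, Subtype.ext ?_⟩)
        show (B.1.map a.1.mkQ.dualMap).map (dualE (g : U ≃ₗ[F] U) : Dual F U →ₗ[F] Dual F U) =
          (B.1.map (dualE (ρ g) : Dual F (U ⧸ a.1) →ₗ[F] Dual F (U ⧸ a.1))).map a.1.mkQ.dualMap
        rw [← Submodule.map_comp, ← Submodule.map_comp]
        congr 1) A
  have hg' : Function.Surjective g' := by
    rintro ⟨Φ⟩
    by_cases hΦ : Φ.1 ≤ a.1.dualAnnihilator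
    · obtain ⟨Ψ, hΨ⟩ := exists_dual_quot a.1 Φ hΦ
      exact ⟨some (Quotient.mk'' Ψ), congrArg Quotient.mk'' (Subtype.ext hΨ)⟩
    · obtain ⟨g, hg, e⟩ := hoff Φ Φ₀ hΦ hΦ₀
      exact ⟨none, Quotient.sound (MulAction.orbitRel_apply.mpr ⟨⟨g, hg⟩, e⟩)⟩
  haveI : Finite (MulAction.orbitRel.Quotient S (Sub F U 1)) := Quotient.finite _
  haveI : Finite (MulAction.orbitRel.Quotient S (Sub F (Dual F (U ⧸ a.1)) 1)) := Quotient.finite _
  haveI : Finite (MulAction.orbitRel.Quotient S (Sub F (U ⧸ a.1) 1)) := Quotient.finite _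
  have hle : Nat.card (MulAction.orbitRel.Quotient S (Sub F U 1)) ≤
      Nat.card (Option (MulAction.orbitRel.Quotient S (Sub F (U ⧸ a.1) 1))) := by
    have hU : Nat.card (MulAction.orbitRel.Quotient S (Sub F U 1)) =
        Nat.card (MulAction.orbitRel.Quotient S (Sub F (Dual F U) 1)) := card_orbits_dual S.subtype
    rw [hU, Finite.card_option, card_orbits_dual ρ, ← Finite.card_option]
    exact Nat.card_le_card_of_surjective g' hg'
  have hbij := (Nat.bijective_iff_surjective_and_card f).mpr ⟨hf, le_antisymm hle (Nat.card_le_card_of_surjective f hf)⟩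
  obtain ⟨g, hg, hgP⟩ := h
  have hgne : g • P ≠ a := hne' ⟨g, hg⟩ P hP
  have hmk : f (Quotient.mk'' (g • P)) = f (Quotient.mk'' Q) := by
    show (if hR : g • P = a then _ else _) = (if hR : Q = a then _ else _)
    rw [dif_neg hgne, dif_neg hQ]
    congr 2
    refine Subtype.ext (Submodule.eq_of_le_of_finrank_le ?_ (by rw [(qpt a.1 _ _).2, (qpt a.1 _ _).2]))
    rw [qpt_val, qpt_val]
    refine (Submodule.map_mono hgP).trans ?_
    rw [Submodule.map_sup, Submodule.mkQ_map_self, sup_bot_eq]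
  obtain ⟨k, hk⟩ := MulAction.orbitRel_apply.mp (Quotient.exact (hbij.1 hmk))
  refine ⟨(k : U ≃ₗ[F] U)⁻¹ * g, mul_mem (inv_mem k.2) hg, ?_⟩
  rw [mul_smul, inv_smul_eq_iff]
  exact hk.symm

end CfsgLib.SingerSeven
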