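/-
Groups transitive on antiflags: the subspace at a point outside which the point stabiliser is transitive.
-/
import Cfsg.Agent.Lib.SingerSeven.Quot

set_option autoImplicit false
set_option linter.unusedSectionVars false
set_option linter.style.haveILetI false
set_option maxHeartbeats 1000000

namespace CfsgLib.SingerSeven

open Module
open CfsgLib.SingerFive (Sub pt exists_pt smul_pt pt_eq_pt dualE dualE_apply sub_smul_val finite_field card_pts_space)

variable {F U : Type*} [Field F] [AddCommGroup U] [Module F U]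

/-- A point in a hyperplane. -/
def Inc (P : Sub F U 1) (Φ : Sub F (Dual F U) 1) : Prop := P.1 ≤ Φ.1.dualCoannihilator

theorem le_ann_iff (L : Submodule F U) (M : Submodule F (Dual F U)) :
    M ≤ L.dualAnnihilator ↔ L ≤ M.dualCoannihilator :=
  ⟨fun h x hx => (Submodule.mem_dualCoannihilator x).mpr fun φ hφ => (Submodule.mem_dualAnnihilator φ).mp (h hφ) x hx,
    fun h φ hφ => (Submodule.mem_dualAnnihilator φ).mpr fun x hx => (Submodule.mem_dualCoannihilator x).mp (h hx) φ hφ⟩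

theorem inc_iff (P : Sub F U 1) (Φ : Sub F (Dual F U) 1) : Inc P Φ ↔ Φ.1 ≤ P.1.dualAnnihilator :=
  (le_ann_iff P.1 Φ.1).symm

theorem inc_pt [FiniteDimensional F U] {P : Sub F U 1} {Φ : Sub F (Dual F U) 1} {v : U} {φ : Dual F U}
    (hv : v ≠ 0) (hvP : v ∈ P.1) (hφ : φ ≠ 0) (hφΦ : φ ∈ Φ.1) : Inc P Φ ↔ φ v = 0 := by
  rw [Inc, le_iff_of_mem hv hvP, Submodule.mem_dualCoannihilator, pt_eq_of_mem hφ hφΦ]
  refine ⟨fun h => h φ (Submodule.mem_span_singleton_self φ), fun h ψ hψ => ?_⟩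
  obtain ⟨c, rfl⟩ := Submodule.mem_span_singleton.mp hψ
  rw [LinearMap.smul_apply, h, smul_zero]

theorem inc_smul [Finite U] (g : U ≃ₗ[F] U) (P : Sub F U 1) (Φ : Sub F (Dual F U) 1) :
    Inc (g • P) (dualE g • Φ) ↔ Inc P Φ := by
  simp only [Inc, SetLike.le_def, Submodule.mem_dualCoannihilator]
  constructor
  · intro h x hx φ hφ
    have := h (Submodule.mem_map_of_mem (f := (g : U →ₗ[F] U)) hx) (dualE g φ) (Submodule.mem_map_of_mem hφ)
    rwa [LinearEquiv.coe_coe, dualE_apply, g.symm_apply_apply] at this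
  · rintro h _ ⟨x, hx, rfl⟩ _ ⟨φ, hφ, rfl⟩
    rw [LinearEquiv.coe_coe, LinearEquiv.coe_coe, dualE_apply, g.symm_apply_apply]
    exact h hx φ hφ

/-- The hyperplane of a dual point. -/
theorem finrank_hyp [FiniteDimensional F U] (Φ : Sub F (Dual F U) 1) :
    finrank F Φ.1.dualCoannihilator + 1 = finrank F U := by
  have h2 := Submodule.finrank_le Φ.1
  rw [Subspace.dual_finrank_eq] at h2
  have h4 := Subspace.finrank_add_finrank_dualAnnihilator_eq Φ.1
  rw [Subspace.dual_finrank_eq, Φ.2] at h4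
  rw [Φ.2] at h2
  rw [Subspace.finrank_dualCoannihilator_eq]
  omega

/-- A vector outside two proper subspaces. -/
theorem exists_not_mem_two {L L' : Submodule F U} (hL : L ≠ ⊤) (hL' : L' ≠ ⊤) : ∃ x, x ∉ L ∧ x ∉ L' := by
  obtain ⟨x, hx⟩ := SetLike.exists_not_mem_of_ne_top L hL rfl
  obtain ⟨y, hy⟩ := SetLike.exists_not_mem_of_ne_top L' hL' rfl
  by_cases h1 : x ∈ L'
  · by_cases h2 : y ∈ L
    · exact ⟨x + y, fun h => hx (by simpa using L.sub_mem h h2), fun h => hy (by simpa using L'.sub_mem h h1)⟩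
    · exact ⟨y, h2, hy⟩
  · exact ⟨x, hx, h1⟩

theorem exists_pt_not_le_two [FiniteDimensional F U] {L L' : Submodule F U} (hL : L ≠ ⊤) (hL' : L' ≠ ⊤) :
    ∃ P : Sub F U 1, ¬ P.1 ≤ L ∧ ¬ P.1 ≤ L' := by
  obtain ⟨x, h1, h2⟩ := exists_not_mem_two hL hL'
  have hx : x ≠ 0 := fun h => h1 (h ▸ zero_mem _)
  exact ⟨pt x hx, fun h => h1 (h (Submodule.mem_span_singleton_self x)), fun h => h2 (h (Submodule.mem_span_singleton_self x))⟩

theorem le_of_pts [FiniteDimensional F U] {L L' : Submodule F U} (h : ∀ P : Sub F U 1, P.1 ≤ L → P.1 ≤ L') : L ≤ L' :=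
  fun x hx => by
    by_cases hx0 : x = 0
    · rw [hx0]; exact zero_mem _
    · exact h (pt x hx0) ((Submodule.span_singleton_le_iff_mem _ _).mpr hx) (Submodule.mem_span_singleton_self x)

variable [Finite U]

/-- The points of a subspace. -/
theorem card_pts_le (L : Submodule F U) :
    Nat.card {P : Sub F U 1 // P.1 ≤ L} * Nat.card Fˣ = Nat.card L - 1 := by
  rw [← card_pts_space (F := F) (V := L)]
  congr 1
  refine (Nat.card_eq_of_bijective (fun P : Sub F L 1 => (⟨⟨P.1.map L.subtype,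
    (Submodule.equivMapOfInjective L.subtype L.subtype_injective P.1).finrank_eq.symm.trans P.2⟩,
    Submodule.map_subtype_le L P.1⟩ : {P : Sub F U 1 // P.1 ≤ L})) ⟨?_, ?_⟩).symm
  · intro P Q h
    exact Subtype.ext (Submodule.map_injective_of_injective L.subtype_injective
      (congrArg (fun x : {P : Sub F U 1 // P.1 ≤ L} => x.1.1) h))
  · rintro ⟨P, hP⟩
    refine ⟨⟨P.1.comap L.subtype, (Submodule.comapSubtypeEquivOfLe hP).finrank_eq.trans P.2⟩, Subtype.ext (Subtype.ext ?_)⟩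
    show (P.1.comap L.subtype).map L.subtype = P.1
    rw [Submodule.map_comap_subtype, inf_eq_right.mpr hP]

theorem card_pts_not_le [Nontrivial U] (L : Submodule F U) :
    Nat.card {P : Sub F U 1 // ¬ P.1 ≤ L} * Nat.card Fˣ + Nat.card L = Nat.card U := by
  classical
  haveI : Fintype (Sub F U 1) := Fintype.ofFinite _
  have h1 := card_pts_space (F := F) (V := U)
  have h2 := card_pts_le L
  have h3 : Nat.card {P : Sub F U 1 // P.1 ≤ L} + Nat.card {P : Sub F U 1 // ¬ P.1 ≤ L} = Nat.card (Sub F U 1) := by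
    rw [← Nat.card_sum]
    exact Nat.card_congr (Equiv.sumCompl _)
  rw [← h3, add_mul, h2] at h1
  have h4 : 0 < Nat.card L := Nat.card_pos
  have h5 : 0 < Nat.card U := Nat.card_pos
  omega

/-- The points off a hyperplane. -/
theorem card_off [Nontrivial U] (Φ : Sub F (Dual F U) 1) :
    Nat.card {P : Sub F U 1 // ¬ Inc P Φ} = Nat.card F ^ (finrank F U - 1) := by
  haveI : Finite F := finite_field (V := U)
  haveI : FiniteDimensional F U := Module.Finite.of_finite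
  have h := card_pts_not_le (F := F) Φ.1.dualCoannihilator
  have hk := finrank_hyp Φ
  rw [Module.natCard_eq_pow_finrank (K := F) (V := U), Module.natCard_eq_pow_finrank (K := F)
    (V := Φ.1.dualCoannihilator), ← hk, pow_succ, Nat.card_units] at h
  obtain ⟨r, hr⟩ : ∃ r, Nat.card F = r + 2 := ⟨Nat.card F - 2, by have := Finite.one_lt_card (α := F); omega⟩
  rw [← hk, Nat.add_sub_cancel]
  rw [hr] at h ⊢
  show Nat.card {P : Sub F U 1 // ¬ P.1 ≤ Φ.1.dualCoannihilator} = _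
  refine Nat.eq_of_mul_eq_mul_right (show 0 < r + 1 by omega) ?_
  rw [show r + 2 - 1 = r + 1 by omega] at h
  rw [mul_add, mul_one] at h ⊢
  rw [mul_add ((r + 2) ^ _)] at h
  rw [mul_add, mul_one]
  omega

/-- A subgroup of index prime to `p` of a group transitive on a power of `p` points is transitive. -/
theorem trans_of_index {H Ω : Type*} [Group H] [Finite H] [MulAction H Ω] (p : ℕ) [Fact p.Prime] (S : Subgroup H)
    (hS : ¬ p ∣ S.index) (htr : ∀ x y : Ω, ∃ g : H, g • x = y) {m : ℕ} (hm : Nat.card Ω = p ^ m) (x y : Ω) :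
    ∃ s ∈ S, s • x = y := by
  classical
  haveI : Finite Ω := Finite.of_surjective (fun g : H => g • x) (fun y => htr x y)
  set K := MulAction.stabilizer H x
  have hK : K.index = p ^ m := by
    have hu : MulAction.orbit H x = Set.univ := Set.eq_univ_of_forall (fun y => htr x y)
    rw [← hm, MulAction.index_stabilizer, hu, Set.ncard_univ]
  have h1 : p ^ m ∣ S.index * (K.relIndex S) := by
    rw [← hK, mul_comm, ← Subgroup.inf_relIndex_right, Subgroup.relIndex_mul_index inf_le_right]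
    exact Subgroup.index_dvd_of_le inf_le_left
  have h2 : p ^ m ∣ K.relIndex S :=
    (Nat.Coprime.pow_left m ((Nat.Prime.coprime_iff_not_dvd Fact.out).mpr hS)).dvd_of_dvd_mul_left h1
  have h3 : K.relIndex S = Nat.card (MulAction.orbit S x) := by
    rw [Nat.card_coe_set_eq, ← MulAction.index_stabilizer]
    rfl
  rw [h3] at h2
  have h4 : MulAction.orbit S x = Set.univ := by
    refine Set.eq_of_subset_of_ncard_le (Set.subset_univ _) ?_ Set.finite_univ
    rw [Set.ncard_univ, hm, ← Nat.card_coe_set_eq]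
    exact Nat.le_of_dvd (Nat.card_pos_iff.mpr ⟨(MulAction.nonempty_orbit x).to_subtype, inferInstance⟩) h2
  obtain ⟨s, hs⟩ := (h4 ▸ Set.mem_univ y : y ∈ MulAction.orbit S x)
  exact ⟨s, s.2, hs⟩

/-- Transitive on antiflags. -/
def AntiTrans (X : Subgroup (U ≃ₗ[F] U)) : Prop :=
  ∀ (P P' : Sub F U 1) (Φ Φ' : Sub F (Dual F U) 1), ¬ Inc P Φ → ¬ Inc P' Φ' →
    ∃ g ∈ X, (g : U ≃ₗ[F] U) • P = P' ∧ dualE g • Φ = Φ'

variable {X : Subgroup (U ≃ₗ[F] U)}

theorem exists_off [FiniteDimensional F U] (P : Sub F U 1) : ∃ Φ : Sub F (Dual F U) 1, ¬ Inc P Φ := by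
  obtain ⟨v, hv, hvP⟩ := exists_mem P
  obtain ⟨φ, hφ⟩ := Module.Projective.exists_dual_ne_zero F hv
  have hφ0 : φ ≠ 0 := fun e => hφ (by rw [e]; rfl)
  exact ⟨pt φ hφ0, fun h => hφ ((inc_pt hv hvP hφ0 (Submodule.mem_span_singleton_self φ)).mp h)⟩

theorem exists_off' [FiniteDimensional F U] (Φ : Sub F (Dual F U) 1) : ∃ P : Sub F U 1, ¬ Inc P Φ := by
  obtain ⟨φ, hφ, hφΦ⟩ := exists_mem Φ
  obtain ⟨v, hv⟩ : ∃ v, φ v ≠ 0 := by
    by_contra h
    push Not at h
    exact hφ (LinearMap.ext h)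
  have hv0 : v ≠ 0 := fun e => hv (by rw [e, map_zero])
  exact ⟨pt v hv0, fun h => hv ((inc_pt hv0 (Submodule.mem_span_singleton_self v) hφ hφΦ).mp h)⟩

theorem AntiTrans.pts (h : AntiTrans X) (P P' : Sub F U 1) : ∃ g ∈ X, (g : U ≃ₗ[F] U) • P = P' := by
  haveI : FiniteDimensional F U := Module.Finite.of_finite
  obtain ⟨Φ, hΦ⟩ := exists_off P
  obtain ⟨Φ', hΦ'⟩ := exists_off P'
  obtain ⟨g, hg, e, -⟩ := h P P' Φ Φ' hΦ hΦ'
  exact ⟨g, hg, e⟩

theorem inc_ePt [FiniteDimensional F U] (P : Sub F U 1) (Φ : Sub F (Dual F U) 1) :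
    Inc Φ (ePt P) ↔ Inc P Φ := by
  rw [inc_iff Φ (ePt P), ePt_le]
  rfl

theorem AntiTrans.dual (h : AntiTrans X) : AntiTrans (X.map (dualE : (U ≃ₗ[F] U) →* _)) := by
  haveI : FiniteDimensional F U := Module.Finite.of_finite
  intro Φ Φ' A A' hA hA'
  obtain ⟨P, rfl⟩ := ePt.surjective A
  obtain ⟨P', rfl⟩ := ePt.surjective A'
  rw [inc_ePt] at hA hA'
  obtain ⟨g, hg, e1, e2⟩ := h P P' Φ Φ' hA hA'
  exact ⟨_, ⟨g, hg, rfl⟩, e2, by rw [ePt_smul, e1]⟩

/-- A Sylow subgroup with its point and hyperplane. -/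
structure SylData (X : Subgroup (U ≃ₗ[F] U)) (p : ℕ) (S : Subgroup (U ≃ₗ[F] U)) (a : Sub F U 1)
    (Φ : Sub F (Dual F U) 1) : Prop where
  le : S ≤ X
  pgroup : IsPGroup p S
  fix_pt : ∀ s ∈ S, (s : U ≃ₗ[F] U) • a = a
  fix_hyp : ∀ s ∈ S, dualE s • Φ = Φ
  off : ∀ P Q : Sub F U 1, ¬ Inc P Φ → ¬ Inc Q Φ → ∃ s ∈ S, (s : U ≃ₗ[F] U) • P = Q
  off' : ∀ A B : Sub F (Dual F U) 1, ¬ Inc a A → ¬ Inc a B → ∃ s ∈ S, dualE s • A = B

theorem card_pts_mod {V : Type*} [AddCommGroup V] [Module F V] [Finite V] [Nontrivial V] (p : ℕ) [Fact p.Prime]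
    [CharP F p] : ¬ p ∣ Nat.card (Sub F V 1) := by
  haveI : Finite F := finite_field (V := V)
  haveI : Fintype F := Fintype.ofFinite F
  haveI : FiniteDimensional F V := Module.Finite.of_finite
  intro hd
  have h := card_pts_space (F := F) (V := V)
  obtain ⟨n, hp, hn⟩ := FiniteField.card F p
  have hV : p ∣ Nat.card V := by
    rw [Module.natCard_eq_pow_finrank (K := F) (V := V), Nat.card_eq_fintype_card, hn, ← pow_mul]
    exact dvd_pow_self p (Nat.mul_ne_zero n.ne_zero (Module.finrank_pos (R := F) (M := V)).ne')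
  have h1 : p ∣ Nat.card V - 1 := h ▸ Dvd.dvd.mul_right hd _
  have h2 := Nat.dvd_sub hV h1
  rw [Nat.sub_sub_self (Nat.one_le_iff_ne_zero.mpr Nat.card_pos.ne')] at h2
  exact hp.one_lt.ne' (Nat.dvd_one.mp h2)

theorem AntiTrans.exists_sylData [Nontrivial U] (h : AntiTrans X) (p : ℕ) [Fact p.Prime] [CharP F p] :
    ∃ S a Φ, SylData X p S a Φ := by
  classical
  haveI : Finite F := finite_field (V := U)
  haveI : Fintype F := Fintype.ofFinite F
  haveI : FiniteDimensional F U := Module.Finite.of_finite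
  haveI : Finite (Dual F U) := finite_dual
  haveI := dual_nontrivial (F := F) (U := U)
  haveI : Finite X := Finite.of_injective (fun g : X => ((g : U ≃ₗ[F] U) : U → U))
    (DFunLike.coe_injective.comp Subtype.val_injective)
  obtain ⟨P⟩ := (inferInstance : Nonempty (Sylow p X))
  obtain ⟨a, ha⟩ := P.2.nonempty_fixed_point_of_prime_not_dvd_card (Sub F U 1) (card_pts_mod p)
  letI := MulAction.compHom (Sub F (Dual F U) 1) (dualE.comp X.subtype)
  obtain ⟨Φ, hΦ⟩ := P.2.nonempty_fixed_point_of_prime_not_dvd_card (Sub F (Dual F U) 1) (card_pts_mod p)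
  obtain ⟨n, -, hn⟩ := FiniteField.card F p
  have hP : ¬ p ∣ (P : Subgroup X).index := P.not_dvd_index
  refine ⟨(P : Subgroup X).map X.subtype, a, Φ, Subgroup.map_subtype_le _, P.2.map _, ?_, ?_, ?_, ?_⟩
  · rintro _ ⟨s, hs, rfl⟩
    exact MulAction.mem_fixedPoints.mp ha ⟨s, hs⟩
  · rintro _ ⟨s, hs, rfl⟩
    exact MulAction.mem_fixedPoints.mp hΦ ⟨s, hs⟩
  · intro A B hA hB
    let H := MulAction.stabilizer X Φ
    have hPH : (P : Subgroup X) ≤ H := fun s hs => MulAction.mem_fixedPoints.mp hΦ ⟨s, hs⟩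
    letI : MulAction H {R : Sub F U 1 // ¬ Inc R Φ} :=
      { smul := fun g R => ⟨((g : X) : U ≃ₗ[F] U) • R.1, fun hinc => R.2 ((inc_smul ((g : X) : U ≃ₗ[F] U) R.1 Φ).mp
          (by
            have : dualE ((g : X) : U ≃ₗ[F] U) • Φ = Φ := MulAction.mem_stabilizer_iff.mp g.2
            rwa [this]))⟩
        one_smul := fun R => Subtype.ext (one_smul _ R.1)
        mul_smul := fun g g' R => Subtype.ext (mul_smul ((g : X) : U ≃ₗ[F] U) ((g' : X) : U ≃ₗ[F] U) R.1) }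
    obtain ⟨s, hs, e⟩ := trans_of_index p ((P : Subgroup X).subgroupOf H) (fun hd => hP (hd.trans
      (Subgroup.relIndex_dvd_index_of_le hPH))) (fun R R' : {R : Sub F U 1 // ¬ Inc R Φ} => by
        obtain ⟨g, hg, e1, e2⟩ := h R.1 R'.1 Φ Φ R.2 R'.2
        exact ⟨⟨⟨g, hg⟩, e2⟩, Subtype.ext e1⟩)
      (m := (n : ℕ) * (finrank F U - 1)) (by rw [card_off, Nat.card_eq_fintype_card (α := F), hn, pow_mul]) ⟨A, hA⟩ ⟨B, hB⟩
    exact ⟨_, ⟨s, hs, rfl⟩, congrArg Subtype.val e⟩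
  · intro A B hA hB
    let H := MulAction.stabilizer X a
    have hPH : (P : Subgroup X) ≤ H := fun s hs => MulAction.mem_fixedPoints.mp ha ⟨s, hs⟩
    letI : MulAction H {R : Sub F (Dual F U) 1 // ¬ Inc a R} :=
      { smul := fun g R => ⟨dualE ((g : X) : U ≃ₗ[F] U) • R.1, fun hinc => R.2 ((inc_smul ((g : X) : U ≃ₗ[F] U) a R.1).mp
          (by
            have : ((g : X) : U ≃ₗ[F] U) • a = a := MulAction.mem_stabilizer_iff.mp g.2
            rwa [this]))⟩
        one_smul := fun R => Subtype.ext (by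
          show dualE (1 : U ≃ₗ[F] U) • R.1 = R.1
          rw [map_one, one_smul])
        mul_smul := fun g g' R => Subtype.ext (by
          show dualE (((g : X) : U ≃ₗ[F] U) * ((g' : X) : U ≃ₗ[F] U)) • R.1 = _
          rw [map_mul, mul_smul]
          rfl) }
    have hcard : Nat.card {R : Sub F (Dual F U) 1 // ¬ Inc a R} = Nat.card F ^ (finrank F U - 1) := by
      rw [← Subspace.dual_finrank_eq (K := F) (V := U), ← card_off (ePt a)]
      exact Nat.card_congr (Equiv.subtypeEquivRight fun R => not_congr (inc_ePt a R).symm)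
    obtain ⟨s, hs, e⟩ := trans_of_index p ((P : Subgroup X).subgroupOf H) (fun hd => hP (hd.trans
      (Subgroup.relIndex_dvd_index_of_le hPH))) (fun R R' : {R : Sub F (Dual F U) 1 // ¬ Inc a R} => by
        obtain ⟨g, hg, e1, e2⟩ := h a a R.1 R'.1 R.2 R'.2
        exact ⟨⟨⟨g, hg⟩, e1⟩, Subtype.ext e2⟩)
      (m := (n : ℕ) * (finrank F U - 1)) (by rw [hcard, Nat.card_eq_fintype_card (α := F), hn, pow_mul]) ⟨A, hA⟩ ⟨B, hB⟩
    exact ⟨_, ⟨s, hs, rfl⟩, congrArg Subtype.val e⟩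

theorem SylData.inc [Nontrivial U] {p : ℕ} {S : Subgroup (U ≃ₗ[F] U)} {a : Sub F U 1} {Φ : Sub F (Dual F U) 1}
    (D : SylData X p S a Φ) (hk : 2 ≤ finrank F U) : Inc a Φ := by
  haveI : Finite F := finite_field (V := U)
  by_contra hinc
  have h1 : Nat.card {P : Sub F U 1 // ¬ Inc P Φ} ≤ 1 := Finite.card_le_one_iff_subsingleton.mpr ⟨by
    rintro ⟨P, hP⟩ ⟨Q, hQ⟩
    obtain ⟨s, hs, rfl⟩ := D.off a P hinc hP
    obtain ⟨t, ht, rfl⟩ := D.off a Q hinc hQ
    exact Subtype.ext (by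
      show s • a = t • a
      rw [D.fix_pt s hs, D.fix_pt t ht])⟩
  rw [card_off] at h1
  have := Nat.one_lt_pow (show finrank F U - 1 ≠ 0 by omega) (Finite.one_lt_card (α := F))
  omega

/-- The property of the subspace at a point. -/
def Good (X : Subgroup (U ≃ₗ[F] U)) (a : Sub F U 1) (L : Submodule F U) : Prop :=
  a.1 ≤ L ∧ L ≠ ⊤ ∧ (∀ g ∈ X, (g : U ≃ₗ[F] U) • a = a → L.map (g : U →ₗ[F] U) = L) ∧
    ∀ P Q : Sub F U 1, ¬ P.1 ≤ L → ¬ Q.1 ≤ L → ∃ g ∈ X, (g : U ≃ₗ[F] U) • a = a ∧ (g : U ≃ₗ[F] U) • P = Q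

theorem Good.unique {a : Sub F U 1} {L L' : Submodule F U} (h : Good X a L) (h' : Good X a L') : L = L' := by
  haveI : FiniteDimensional F U := Module.Finite.of_finite
  have key : ∀ {L L' : Submodule F U}, Good X a L → Good X a L' → L' ≤ L := by
    intro L L' h h'
    obtain ⟨R, hR, hR'⟩ := exists_pt_not_le_two h.2.1 h'.2.1
    refine le_of_pts fun P hP => ?_
    by_contra hPL
    obtain ⟨g, hg, hga, rfl⟩ := h.2.2.2 R P hR hPL
    rw [← h'.2.2.1 g hg hga, map_le_smul] at hP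
    exact hR' hP
  exact le_antisymm (key h' h) (key h h')

theorem Good.smul {a : Sub F U 1} {L : Submodule F U} (h : Good X a L) {g : U ≃ₗ[F] U} (hg : g ∈ X) :
    Good X (g • a) (L.map (g : U →ₗ[F] U)) := by
  have hback : ∀ P : Sub F U 1, P.1 ≤ L.map (g : U →ₗ[F] U) ↔ (g⁻¹ • P).1 ≤ L := fun P => by
    conv_lhs => rw [← smul_inv_smul g P]
    exact map_le_smul g _ L
  refine ⟨Submodule.map_mono h.1, fun e => h.2.1 ?_, fun k hk hka => ?_, fun P Q hP hQ => ?_⟩
  · have := congrArg (Submodule.map (g.symm : U →ₗ[F] U)) e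
    rwa [← Submodule.map_comp, LinearEquiv.comp_coe, LinearEquiv.self_trans_symm, LinearEquiv.refl_toLinearMap,
      Submodule.map_id, Submodule.map_top, LinearEquiv.range] at this
  · have h1 := h.2.2.1 (g⁻¹ * k * g) (mul_mem (mul_mem (inv_mem hg) hk) hg) (by
      rw [mul_smul, mul_smul, hka, inv_smul_smul])
    conv_rhs => rw [← h1]
    rw [← Submodule.map_comp, ← Submodule.map_comp]
    congr 1
    refine LinearMap.ext fun x => ?_
    show k (g x) = g (g.symm (k (g x)))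
    rw [g.apply_symm_apply]
  · rw [hback] at hP hQ
    obtain ⟨k, hk, hka, e⟩ := h.2.2.2 _ _ hP hQ
    refine ⟨g * k * g⁻¹, mul_mem (mul_mem hg hk) (inv_mem hg), ?_, ?_⟩
    · rw [mul_smul, mul_smul, inv_smul_smul, hka]
    · rw [mul_smul, mul_smul, e, smul_inv_smul]

theorem SylData.good [Nontrivial U] {p : ℕ} {S : Subgroup (U ≃ₗ[F] U)} {a : Sub F U 1} {Φ : Sub F (Dual F U) 1}
    (D : SylData X p S a Φ) (hk : 2 ≤ finrank F U) :
    ∃ L, Good X a L ∧ L ≤ Φ.1.dualCoannihilator := by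
  haveI : FiniteDimensional F U := Module.Finite.of_finite
  let L : Submodule F U := ⨅ g : fixer X a, (dualE (g : U ≃ₗ[F] U) • Φ).1.dualCoannihilator
  have hle : L ≤ Φ.1.dualCoannihilator := (iInf_le _ (1 : fixer X a)).trans (le_of_eq (by
    rw [Subgroup.coe_one, map_one, one_smul]))
  refine ⟨L, ⟨le_iInf fun g => ?_, fun e => ?_, fun g hg hga => ?_, fun P Q hP hQ => ?_⟩, hle⟩
  · show Inc a _
    have h1 := (inc_smul (g : U ≃ₗ[F] U) a Φ).mpr (D.inc hk)
    rwa [show (g : U ≃ₗ[F] U) • a = a from g.2.2] at h1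
  · have h1 := finrank_hyp Φ
    rw [show Φ.1.dualCoannihilator = ⊤ from top_le_iff.mp (le_of_eq_of_le e.symm hle), finrank_top] at h1
    omega
  · have hmem : ∀ P : Sub F U 1, P.1 ≤ L ↔ ∀ k : fixer X a, Inc P (dualE (k : U ≃ₗ[F] U) • Φ) :=
      fun P => le_iInf_iff
    let g' : fixer X a := ⟨g, hg, hga⟩
    refine le_antisymm (le_of_pts fun P hP => ?_) (le_of_pts fun P hP => ?_)
    · refine (hmem P).mpr fun k => ?_
      obtain ⟨R, rfl⟩ : ∃ R, g • R = P := ⟨g⁻¹ • P, smul_inv_smul g P⟩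
      rw [map_le_smul] at hP
      have h1 := (hmem R).mp hP (g'⁻¹ * k)
      rw [← inc_smul g, ← mul_smul (dualE g), ← map_mul, Subgroup.coe_mul, Subgroup.coe_inv,
        show (g' : U ≃ₗ[F] U) = g from rfl, mul_inv_cancel_left] at h1
      exact h1
    · obtain ⟨R, rfl⟩ : ∃ R, g • R = P := ⟨g⁻¹ • P, smul_inv_smul g P⟩
      rw [map_le_smul]
      refine (hmem R).mpr fun k => ?_
      have h1 := (hmem (g • R)).mp hP (g' * k)
      rw [Subgroup.coe_mul, show (g' : U ≃ₗ[F] U) = g from rfl, map_mul, mul_smul, inc_smul] at h1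
      exact h1
  · obtain ⟨g, hgP⟩ : ∃ g : fixer X a, ¬ Inc P (dualE (g : U ≃ₗ[F] U) • Φ) := by
      by_contra hc
      push Not at hc
      exact hP (le_iInf hc)
    obtain ⟨k, hkQ⟩ : ∃ g : fixer X a, ¬ Inc Q (dualE (g : U ≃ₗ[F] U) • Φ) := by
      by_contra hc
      push Not at hc
      exact hQ (le_iInf hc)
    have hback : ∀ (g : U ≃ₗ[F] U) (R : Sub F U 1), Inc (g⁻¹ • R) Φ ↔ Inc R (dualE g • Φ) := fun g R => by
      rw [← inc_smul g, smul_inv_smul]
    obtain ⟨s, hs, e⟩ := D.off ((g : U ≃ₗ[F] U)⁻¹ • P) ((k : U ≃ₗ[F] U)⁻¹ • Q) ((hback _ _).not.mpr hgP)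
      ((hback _ _).not.mpr hkQ)
    refine ⟨(k : U ≃ₗ[F] U) * s * (g : U ≃ₗ[F] U)⁻¹, mul_mem (mul_mem k.2.1 (D.le hs)) (inv_mem g.2.1), ?_, ?_⟩
    · have hga : (g : U ≃ₗ[F] U)⁻¹ • a = a := inv_smul_eq_iff.mpr g.2.2.symm
      rw [mul_smul, mul_smul, hga, D.fix_pt s hs]
      exact k.2.2
    · rw [mul_smul, mul_smul, e, smul_inv_smul]

open Classical in
/-- The subspace at a point. -/
noncomputable def nb (X : Subgroup (U ≃ₗ[F] U)) (a : Sub F U 1) : Submodule F U :=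
  if h : ∃ L, Good X a L then h.choose else ⊥

theorem AntiTrans.exists_good (h : AntiTrans X) (hk : 2 ≤ finrank F U) (a : Sub F U 1) : ∃ L, Good X a L := by
  haveI : Nontrivial U := Module.nontrivial_of_finrank_pos (R := F) (by omega)
  haveI : Finite F := finite_field (V := U)
  haveI : Fintype F := Fintype.ofFinite F
  obtain ⟨p, hp⟩ := CharP.exists F
  haveI : Fact p.Prime := ⟨CharP.char_is_prime F p⟩
  obtain ⟨S, a₀, Φ₀, D⟩ := h.exists_sylData p
  obtain ⟨L, hL, -⟩ := D.good hk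
  obtain ⟨g, hg, rfl⟩ := h.pts a₀ a
  exact ⟨_, hL.smul hg⟩

theorem AntiTrans.good (h : AntiTrans X) (hk : 2 ≤ finrank F U) (a : Sub F U 1) : Good X a (nb X a) := by
  rw [nb, dif_pos (h.exists_good hk a)]
  exact (h.exists_good hk a).choose_spec

theorem AntiTrans.nb_eq (h : AntiTrans X) (hk : 2 ≤ finrank F U) {a : Sub F U 1} {L : Submodule F U}
    (hL : Good X a L) : nb X a = L := (h.good hk a).unique hL

theorem AntiTrans.nb_smul (h : AntiTrans X) (hk : 2 ≤ finrank F U) {g : U ≃ₗ[F] U} (hg : g ∈ X) (a : Sub F U 1) :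
    nb X (g • a) = (nb X a).map (g : U →ₗ[F] U) := h.nb_eq hk ((h.good hk a).smul hg)

theorem AntiTrans.self_le (h : AntiTrans X) (hk : 2 ≤ finrank F U) (a : Sub F U 1) : a.1 ≤ nb X a := (h.good hk a).1

theorem AntiTrans.finrank_nb (h : AntiTrans X) (hk : 2 ≤ finrank F U) (a b : Sub F U 1) :
    finrank F (nb X a) = finrank F (nb X b) := by
  obtain ⟨g, hg, rfl⟩ := h.pts a b
  rw [h.nb_smul hk hg, LinearEquiv.finrank_map_eq]

/-- The relation is symmetric. -/
theorem AntiTrans.nb_symm (h : AntiTrans X) (hk : 2 ≤ finrank F U) {a b : Sub F U 1} (hb : b.1 ≤ nb X a) :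
    a.1 ≤ nb X b := by
  classical
  haveI : Nontrivial U := Module.nontrivial_of_finrank_pos (R := F) (by omega)
  haveI : Finite F := finite_field (V := U)
  haveI : FiniteDimensional F U := Module.Finite.of_finite
  haveI : Fintype (Sub F U 1) := Fintype.ofFinite _
  by_contra hab
  let S : Sub F U 1 → Type _ := fun c => {d : Sub F U 1 // d.1 ≤ nb X c}
  let T : Sub F U 1 → Type _ := fun c => {d : Sub F U 1 // ¬ d.1 ≤ nb X c}
  have hT : ∀ c (d : T c), c.1 ≤ nb X d.1 := by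
    rintro c ⟨d, hd⟩
    obtain ⟨g, hg, rfl⟩ := h.pts b c
    obtain ⟨k, hk', hkb, hkd⟩ := (h.good hk (g • b)).2.2.2 (g • a) d (by
      rw [h.nb_smul hk hg, map_le_smul]; exact hab) hd
    have h1 : (g • b).1 ≤ nb X (g • a) := by rw [h.nb_smul hk hg, map_le_smul]; exact hb
    show (g • b).1 ≤ nb X d
    rw [← hkb, ← hkd, h.nb_smul hk hk', map_le_smul]
    exact h1
  have hle : Nat.card (Σ c, T c) ≤ Nat.card (Σ c, S c) :=
    Nat.card_le_card_of_injective (fun x => (⟨x.2.1, x.1, hT x.1 x.2⟩ : Σ c, S c)) (by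
      rintro ⟨c, d, hd⟩ ⟨c', d', hd'⟩ e
      obtain ⟨rfl, e2⟩ := Sigma.mk.inj_iff.mp e
      have := congrArg Subtype.val (eq_of_heq e2)
      subst this
      rfl)
  rw [Nat.card_sigma, Nat.card_sigma] at hle
  refine absurd hle (not_le.mpr (Finset.sum_lt_sum_of_nonempty ⟨a, Finset.mem_univ a⟩ fun c _ => ?_))
  have h1 := card_pts_le (nb X c)
  have h2 := card_pts_not_le (F := F) (nb X c)
  have h3 : Nat.card F * Nat.card (nb X c) ≤ Nat.card U := by
    rw [Module.natCard_eq_pow_finrank (K := F) (V := nb X c), Module.natCard_eq_pow_finrank (K := F) (V := U), mul_comm,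
      ← pow_succ]
    exact Nat.pow_le_pow_right Nat.card_pos (Submodule.finrank_lt (h.good hk c).2.1)
  have h4 : 2 * Nat.card (nb X c) ≤ Nat.card F * Nat.card (nb X c) :=
    Nat.mul_le_mul_right _ (Finite.one_lt_card (α := F))
  have h5 : 0 < Nat.card (nb X c) := Nat.card_pos
  show Nat.card {d : Sub F U 1 // d.1 ≤ nb X c} < Nat.card {d : Sub F U 1 // ¬ d.1 ≤ nb X c}
  refine Nat.lt_of_mul_lt_mul_right (a := Nat.card Fˣ) ?_
  omega

theorem AntiTrans.trans_hyps (h : AntiTrans X) (hk : 2 ≤ finrank F U) (a : Sub F U 1) (A B : Sub F (Dual F U) 1)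
    (hA : nb X a ≤ A.1.dualCoannihilator) (hB : nb X a ≤ B.1.dualCoannihilator) :
    ∃ g ∈ X, (g : U ≃ₗ[F] U) • a = a ∧ dualE g • A = B := by
  obtain ⟨g, hg, e⟩ := trans_ann (fixer X a) (nb X a) (fun g hg => (h.good hk a).2.2.1 g hg.1 hg.2)
    (fun P Q hP hQ => by
      obtain ⟨g, hg, hga, e⟩ := (h.good hk a).2.2.2 P Q hP hQ
      exact ⟨g, ⟨hg, hga⟩, e⟩) A B
    ((le_ann_iff _ _).mpr hA) ((le_ann_iff _ _).mpr hB)
  exact ⟨g, hg.1, hg.2, e⟩

end CfsgLib.SingerSeven
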