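/-
The subspaces of a group transitive on antiflags and of its dual correspond.
-/
import Cfsg.Agent.Lib.SingerSeven.Antiflag

set_option autoImplicit false
set_option linter.unusedSectionVars false
set_option linter.style.haveILetI false
set_option maxHeartbeats 1000000

namespace CfsgLib.SingerSeven

open Module
open CfsgLib.SingerFive (Sub pt exists_pt smul_pt dualE dualE_apply sub_smul_val finite_field card_pts_space)

variable {F U : Type*} [Field F] [AddCommGroup U] [Module F U] [Finite U] {X : Subgroup (U ≃ₗ[F] U)}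

local notation "X⋆" => Subgroup.map (dualE : (U ≃ₗ[F] U) →* (Dual F U ≃ₗ[F] Dual F U)) X

theorem ePt_coann [FiniteDimensional F U] (a : Sub F U 1) :
    (ePt a).1.dualCoannihilator = a.1.dualAnnihilator := by
  ext φ
  rw [Submodule.mem_dualCoannihilator, ePt_val, Submodule.mem_dualAnnihilator]
  exact ⟨fun h x hx => h _ (Submodule.mem_map_of_mem hx), by
    rintro h _ ⟨x, hx, rfl⟩
    exact h x hx⟩

theorem SylData.dual [FiniteDimensional F U] {p : ℕ} {S : Subgroup (U ≃ₗ[F] U)} {a : Sub F U 1}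
    {Φ : Sub F (Dual F U) 1} (D : SylData X p S a Φ) : SylData X⋆ p (S.map dualE) Φ (ePt a) where
  le := Subgroup.map_mono D.le
  pgroup := D.pgroup.map _
  fix_pt := by
    rintro _ ⟨s, hs, rfl⟩
    exact D.fix_hyp s hs
  fix_hyp := by
    rintro _ ⟨s, hs, rfl⟩
    rw [ePt_smul, D.fix_pt s hs]
  off A B hA hB := by
    rw [inc_ePt] at hA hB
    obtain ⟨s, hs, e⟩ := D.off' A B hA hB
    exact ⟨_, ⟨s, hs, rfl⟩, e⟩
  off' A B hA hB := by
    obtain ⟨P, rfl⟩ := ePt.surjective A
    obtain ⟨Q, rfl⟩ := ePt.surjective B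
    rw [inc_ePt] at hA hB
    obtain ⟨s, hs, e⟩ := D.off P Q hA hB
    exact ⟨_, ⟨s, hs, rfl⟩, by rw [ePt_smul, e]⟩

theorem map_coann (g : U ≃ₗ[F] U) (L : Submodule F (Dual F U)) :
    (L.map (dualE g : Dual F U →ₗ[F] Dual F U)).dualCoannihilator = L.dualCoannihilator.map (g : U →ₗ[F] U) := by
  ext x
  rw [Submodule.mem_dualCoannihilator, Submodule.mem_map]
  constructor
  · intro h
    refine ⟨g.symm x, (Submodule.mem_dualCoannihilator _).mpr fun φ hφ => ?_, g.apply_symm_apply x⟩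
    have := h _ (Submodule.mem_map_of_mem hφ)
    rwa [LinearEquiv.coe_coe, dualE_apply] at this
  · rintro ⟨y, hy, rfl⟩ _ ⟨φ, hφ, rfl⟩
    rw [LinearEquiv.coe_coe, LinearEquiv.coe_coe, dualE_apply, g.symm_apply_apply]
    exact (Submodule.mem_dualCoannihilator y).mp hy φ hφ

/-- The two kinds of small flags are the same. -/
theorem AntiTrans.flag_iff (h : AntiTrans X) (hk : 2 ≤ finrank F U) (a : Sub F U 1) (Φ : Sub F (Dual F U) 1) :
    nb X a ≤ Φ.1.dualCoannihilator ↔ nb X⋆ Φ ≤ a.1.dualAnnihilator := by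
  haveI : Nontrivial U := Module.nontrivial_of_finrank_pos (R := F) (by omega)
  haveI : FiniteDimensional F U := Module.Finite.of_finite
  haveI : Finite F := finite_field (V := U)
  haveI : Fintype F := Fintype.ofFinite F
  haveI : Finite (Dual F U) := finite_dual
  haveI := dual_nontrivial (F := F) (U := U)
  have hk' : 2 ≤ finrank F (Dual F U) := by rw [Subspace.dual_finrank_eq]; exact hk
  obtain ⟨p, hp⟩ := CharP.exists F
  haveI : Fact p.Prime := ⟨CharP.char_is_prime F p⟩
  obtain ⟨S, a₀, Φ₀, D⟩ := h.exists_sylData p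
  have h0 : nb X a₀ ≤ Φ₀.1.dualCoannihilator := by
    obtain ⟨L, hL, hle⟩ := D.good hk
    rwa [h.nb_eq hk hL]
  have h0' : nb X⋆ Φ₀ ≤ a₀.1.dualAnnihilator := by
    obtain ⟨L, hL, hle⟩ := D.dual.good hk'
    rw [h.dual.nb_eq hk' hL, ← ePt_coann]
    exact hle
  constructor
  · intro hle
    obtain ⟨g, hg, rfl⟩ := h.pts a₀ a
    have h1 : nb X (g • a₀) ≤ (dualE g • Φ₀).1.dualCoannihilator := by
      rw [h.nb_smul hk hg, sub_smul_val, map_coann]
      exact Submodule.map_mono h0
    obtain ⟨k, hk1, hka, rfl⟩ := h.trans_hyps hk _ _ _ h1 hle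
    rw [← mul_smul (dualE k), ← map_mul, h.dual.nb_smul hk' ⟨k * g, mul_mem hk1 hg, rfl⟩,
      Submodule.map_le_iff_le_comap]
    intro φ hφ
    show dualE (k * g) φ ∈ (g • a₀).1.dualAnnihilator
    rw [Submodule.mem_dualAnnihilator, ← hka, ← mul_smul k]
    rintro _ ⟨x, hx, rfl⟩
    rw [LinearEquiv.coe_coe, dualE_apply, LinearEquiv.symm_apply_apply]
    exact (Submodule.mem_dualAnnihilator φ).mp (h0' hφ) x hx
  · intro hle
    obtain ⟨_, ⟨g, hg, rfl⟩, rfl⟩ := h.dual.pts Φ₀ Φ
    have h1 : nb X⋆ (dualE g • Φ₀) ≤ (ePt (g • a₀)).1.dualCoannihilator := by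
      rw [h.dual.nb_smul hk' ⟨g, hg, rfl⟩, ePt_coann, Submodule.map_le_iff_le_comap]
      intro φ hφ
      show dualE g φ ∈ (g • a₀).1.dualAnnihilator
      rw [Submodule.mem_dualAnnihilator]
      rintro _ ⟨x, hx, rfl⟩
      rw [LinearEquiv.coe_coe, dualE_apply, LinearEquiv.symm_apply_apply]
      exact (Submodule.mem_dualAnnihilator φ).mp (h0' hφ) x hx
    rw [← ePt_coann] at hle
    obtain ⟨_, ⟨k, hk1, rfl⟩, hkΦ, hka⟩ := h.dual.trans_hyps hk' _ _ _ h1 hle
    rw [ePt_smul] at hka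
    rw [← hkΦ, ← ePt.injective hka, ← mul_smul k, ← mul_smul (dualE k), ← map_mul,
      h.nb_smul hk (mul_mem hk1 hg), sub_smul_val, map_coann]
    exact Submodule.map_mono h0

/-- The subspaces of the dual group have the same dimension. -/
theorem AntiTrans.finrank_nb_dual (h : AntiTrans X) (hk : 2 ≤ finrank F U) (a : Sub F U 1) (Φ : Sub F (Dual F U) 1) :
    finrank F (nb X⋆ Φ) = finrank F (nb X a) := by
  classical
  haveI : Nontrivial U := Module.nontrivial_of_finrank_pos (R := F) (by omega)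
  haveI : FiniteDimensional F U := Module.Finite.of_finite
  haveI : Finite F := finite_field (V := U)
  haveI : Finite (Dual F U) := finite_dual
  haveI := dual_nontrivial (F := F) (U := U)
  haveI : Fintype (Sub F U 1) := Fintype.ofFinite _
  haveI : Fintype (Sub F (Dual F U) 1) := Fintype.ofFinite _
  have hk' : 2 ≤ finrank F (Dual F U) := by rw [Subspace.dual_finrank_eq]; exact hk
  set w := finrank F (nb X a)
  set w' := finrank F (nb X⋆ Φ)
  have hw : w ≤ finrank F U := Submodule.finrank_le _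
  have hw' : w' ≤ finrank F U := (Submodule.finrank_le _).trans_eq Subspace.dual_finrank_eq
  have hF : 0 < Nat.card Fˣ := Nat.card_pos
  have h1 : ∀ b, Nat.card {Ψ : Sub F (Dual F U) 1 // nb X b ≤ Ψ.1.dualCoannihilator} * Nat.card Fˣ =
      Nat.card F ^ (finrank F U - w) - 1 := fun b => by
    rw [Nat.card_congr (Equiv.subtypeEquivRight fun Ψ : Sub F (Dual F U) 1 => (le_ann_iff (nb X b) Ψ.1).symm),
      card_pts_le, Module.natCard_eq_pow_finrank (K := F)]
    congr 2
    have := Subspace.finrank_add_finrank_dualAnnihilator_eq (nb X b)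
    rw [h.finrank_nb hk b a] at this
    omega
  have h2 : ∀ Ψ, Nat.card {b : Sub F U 1 // nb X⋆ Ψ ≤ b.1.dualAnnihilator} * Nat.card Fˣ =
      Nat.card F ^ (finrank F U - w') - 1 := fun Ψ => by
    rw [Nat.card_congr (Equiv.subtypeEquivRight fun b : Sub F U 1 => le_ann_iff b.1 (nb X⋆ Ψ)),
      card_pts_le, Module.natCard_eq_pow_finrank (K := F)]
    congr 2
    rw [Subspace.finrank_dualCoannihilator_eq]
    have h4 := Subspace.finrank_add_finrank_dualAnnihilator_eq (nb X⋆ Ψ)
    rw [Subspace.dual_finrank_eq, h.dual.finrank_nb hk' Ψ Φ] at h4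
    omega
  have hP : Nat.card (Sub F (Dual F U) 1) = Nat.card (Sub F U 1) := by
    refine Nat.eq_of_mul_eq_mul_right hF ?_
    rw [card_pts_space, card_pts_space, Module.natCard_eq_pow_finrank (K := F) (V := Dual F U),
      Module.natCard_eq_pow_finrank (K := F) (V := U), Subspace.dual_finrank_eq]
  have hsum : Nat.card (Σ b : Sub F U 1, {Ψ : Sub F (Dual F U) 1 // nb X b ≤ Ψ.1.dualCoannihilator}) =
      Nat.card (Σ Ψ : Sub F (Dual F U) 1, {b : Sub F U 1 // nb X⋆ Ψ ≤ b.1.dualAnnihilator}) :=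
    Nat.card_congr
      { toFun := fun x => ⟨x.2.1, x.1, (h.flag_iff hk x.1 x.2.1).mp x.2.2⟩
        invFun := fun x => ⟨x.2.1, x.1, (h.flag_iff hk x.2.1 x.1).mpr x.2.2⟩
        left_inv := fun _ => rfl
        right_inv := fun _ => rfl }
  rw [Nat.card_sigma, Nat.card_sigma] at hsum
  have h3 := congrArg (· * Nat.card Fˣ) hsum
  simp only [Finset.sum_mul, h1, h2, Finset.sum_const, smul_eq_mul, Finset.card_univ, ← Nat.card_eq_fintype_card, hP] at h3
  have h4 := Nat.eq_of_mul_eq_mul_left (Nat.card_pos_iff.mpr ⟨⟨a⟩, inferInstance⟩) h3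
  have h5 := Nat.one_le_pow (finrank F U - w) (Nat.card F) Nat.card_pos
  have h6 := Nat.one_le_pow (finrank F U - w') (Nat.card F) Nat.card_pos
  have h7 := Nat.pow_right_injective (Finite.one_lt_card (α := F)) (show Nat.card F ^ (finrank F U - w) =
    Nat.card F ^ (finrank F U - w') by omega)
  omega

end CfsgLib.SingerSeven
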