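/-
A doubly transitive linear group: its dual and its groups on the quotients by points.
-/
import Cfsg.Agent.Lib.SingerSeven.FlagIff

set_option autoImplicit false
set_option linter.unusedSectionVars false
set_option linter.style.haveILetI false
set_option maxHeartbeats 1000000

namespace CfsgLib.SingerSeven

open Module
open CfsgLib.SingerFive (Sub pt exists_pt smul_pt pt_eq_pt dualE dualE_apply sub_smul_val finite_field PairTrans
  hyper_transitive exists_point_ne)

variable {F V : Type*} [Field F] [AddCommGroup V] [Module F V] [Finite V] {G : Subgroup (V ≃ₗ[F] V)}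

theorem finite_quot (L : Submodule F V) : Finite (V ⧸ L) := Quotient.finite _

attribute [local instance] finite_quot

/-- A doubly transitive group maps a pair to any pair of the same incidence. -/
theorem exists_move (h2 : PairTrans G) (hn : 2 ≤ finrank F V) (P P' : Sub F V 1) (Φ Φ' : Sub F (Dual F V) 1)
    (hi : Inc P Φ ↔ Inc P' Φ') : ∃ g ∈ G, (g : V ≃ₗ[F] V) • P = P' ∧ dualE g • Φ = Φ' := by
  haveI : FiniteDimensional F V := Module.Finite.of_finite
  obtain ⟨Q, hQ⟩ := exists_point_ne hn P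
  obtain ⟨Q', hQ'⟩ := exists_point_ne hn P'
  obtain ⟨g, hg, e, -⟩ := h2 P Q P' Q' hQ.symm hQ'.symm
  rw [← inc_smul g P Φ, e] at hi
  obtain ⟨v, hv, hvP⟩ := exists_mem P'
  obtain ⟨φ, hφ, hφΦ⟩ := exists_mem (dualE g • Φ)
  obtain ⟨ψ, hψ, hψΦ⟩ := exists_mem Φ'
  rw [inc_pt hv hvP hφ hφΦ, inc_pt hv hvP hψ hψΦ] at hi
  obtain ⟨k, hk, hkP, d, hd, hkd⟩ := hyper_transitive h2 hn hv hφ hψ hi
  rw [← pt_eq_of_mem hv hvP] at hkP
  refine ⟨k * g, mul_mem hk hg, by rw [mul_smul, e, hkP], ?_⟩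
  rw [map_mul, mul_smul, pt_eq_of_mem hφ hφΦ, pt_eq_of_mem hψ hψΦ, smul_pt]
  refine Subtype.ext ?_
  show F ∙ dualE k φ = F ∙ ψ
  rw [hkd, Submodule.span_singleton_smul_eq hd.isUnit]

theorem antiTrans_of_pairs (h2 : PairTrans G) (hn : 2 ≤ finrank F V) : AntiTrans G := fun P P' Φ Φ' hP hP' =>
  exists_move h2 hn P P' Φ Φ' (iff_of_false hP hP')

/-- The stabiliser of an incident pair is transitive off the hyperplane. -/
theorem flag_off (h2 : PairTrans G) (hn : 2 ≤ finrank F V) (a : Sub F V 1) (Φ : Sub F (Dual F V) 1) (hi : Inc a Φ) :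
    (∀ P Q : Sub F V 1, ¬ Inc P Φ → ¬ Inc Q Φ →
      ∃ g ∈ G, (g : V ≃ₗ[F] V) • a = a ∧ dualE g • Φ = Φ ∧ (g : V ≃ₗ[F] V) • P = Q) ∧
    ∀ A B : Sub F (Dual F V) 1, ¬ Inc a A → ¬ Inc a B →
      ∃ g ∈ G, (g : V ≃ₗ[F] V) • a = a ∧ dualE g • Φ = Φ ∧ dualE g • A = B := by
  haveI : Nontrivial V := Module.nontrivial_of_finrank_pos (R := F) (by omega)
  obtain ⟨p, hp⟩ := CharP.exists F
  haveI : Finite F := finite_field (V := V)
  haveI : Fact p.Prime := ⟨CharP.char_is_prime F p⟩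
  obtain ⟨S, a₀, Φ₀, D⟩ := (antiTrans_of_pairs h2 hn).exists_sylData p
  obtain ⟨g, hg, rfl, rfl⟩ := exists_move h2 hn a₀ a Φ₀ Φ (iff_of_true (D.inc hn) hi)
  have hfix : ∀ s ∈ S, (g * s * g⁻¹ : V ≃ₗ[F] V) • (g • a₀) = g • a₀ ∧
      dualE (g * s * g⁻¹) • (dualE g • Φ₀) = dualE g • Φ₀ := fun s hs =>
    ⟨by rw [mul_smul, mul_smul, inv_smul_smul, D.fix_pt s hs],
      by rw [map_mul, map_mul, map_inv, mul_smul, mul_smul, inv_smul_smul, D.fix_hyp s hs]⟩
  constructor
  · intro P Q hP hQ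
    rw [← smul_inv_smul g P, inc_smul] at hP
    rw [← smul_inv_smul g Q, inc_smul] at hQ
    obtain ⟨s, hs, e⟩ := D.off _ _ hP hQ
    exact ⟨g * s * g⁻¹, mul_mem (mul_mem hg (D.le hs)) (inv_mem hg), (hfix s hs).1, (hfix s hs).2,
      by rw [mul_smul, mul_smul, e, smul_inv_smul]⟩
  · intro A B hA hB
    rw [← smul_inv_smul (dualE g) A, inc_smul] at hA
    rw [← smul_inv_smul (dualE g) B, inc_smul] at hB
    obtain ⟨s, hs, e⟩ := D.off' _ _ hA hB
    exact ⟨g * s * g⁻¹, mul_mem (mul_mem hg (D.le hs)) (inv_mem hg), (hfix s hs).1, (hfix s hs).2,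
      by rw [map_mul, map_mul, map_inv, mul_smul, mul_smul, e, smul_inv_smul]⟩

/-- The dual of a doubly transitive group is doubly transitive. -/
theorem pairTrans_dual (h2 : PairTrans G) (hn : 3 ≤ finrank F V) :
    PairTrans (G.map (dualE : (V ≃ₗ[F] V) →* _)) := by
  haveI : FiniteDimensional F V := Module.Finite.of_finite
  intro A B A' B' hAB hAB'
  obtain ⟨a₀, ha₀⟩ := exists_off' A
  obtain ⟨a₁, ha₁⟩ := exists_off' A'
  obtain ⟨g, hg, -, hgA⟩ := exists_move h2 (by omega) a₀ a₁ A A' (iff_of_false ha₀ ha₁)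
  have hB : dualE g • B ≠ A' := fun e => hAB (MulAction.injective (dualE g) (hgA.trans e.symm))
  -- a point of the common hyperplane off the two others
  have hproper : ∀ Ψ : Sub F (Dual F V) 1, Ψ ≠ A' → Ψ.1.dualCoannihilator.comap A'.1.dualCoannihilator.subtype ≠ ⊤ := by
    intro Ψ hne htop
    rw [Submodule.comap_subtype_eq_top] at htop
    refine hne (Subtype.ext (Submodule.eq_of_le_of_finrank_le ?_ (by rw [Ψ.2, A'.2])))
    rw [← Subspace.dualCoannihilator_dualAnnihilator_eq (W := A'.1), le_ann_iff]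
    exact htop
  obtain ⟨x, hx1, hx2⟩ := exists_not_mem_two (hproper _ hB) (hproper B' fun e => hAB' e.symm)
  have hx0 : (x : V) ≠ 0 := fun e => hx1 (by
    rw [show x = 0 from Subtype.ext e]; exact zero_mem _)
  have hspan : ∀ Ψ : Sub F (Dual F V) 1, Inc (pt (x : V) hx0) Ψ → (x : V) ∈ Ψ.1.dualCoannihilator := fun Ψ h =>
    h (Submodule.mem_span_singleton_self _)
  obtain ⟨k, hk, -, hkA, hkB⟩ := (flag_off h2 (by omega) (pt (x : V) hx0) A'
    ((Submodule.span_singleton_le_iff_mem _ _).mpr x.2)).2 (dualE g • B) B' (fun h => hx1 (hspan _ h))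
    (fun h => hx2 (hspan _ h))
  exact ⟨_, ⟨k * g, mul_mem hk hg, rfl⟩, by rw [map_mul, mul_smul, hgA, hkA], by rw [map_mul, mul_smul, hkB]⟩

/-- The group of a point stabiliser on the quotient by the point. -/
noncomputable def qgrp (G : Subgroup (V ≃ₗ[F] V)) (a : Sub F V 1) :
    Subgroup ((V ⧸ a.1) ≃ₗ[F] (V ⧸ a.1)) :=
  (quotHom (fixer G a) a.1 fun _ hg => congrArg Subtype.val hg.2).range

theorem mem_qgrp {a : Sub F V 1} {g : V ≃ₗ[F] V} (hg : g ∈ G) (hga : g • a = a) :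
    quotHom (fixer G a) a.1 (fun _ hg => congrArg Subtype.val hg.2) ⟨g, hg, hga⟩ ∈ qgrp G a := ⟨_, rfl⟩

/-- A hyperplane through a point from one of the quotient. -/
noncomputable def liftDual (a : Sub F V 1) (Ψ : Sub F (Dual F (V ⧸ a.1)) 1) : Sub F (Dual F V) 1 :=
  ⟨Ψ.1.map a.1.mkQ.dualMap, (Submodule.equivMapOfInjective a.1.mkQ.dualMap
    (LinearMap.dualMap_injective_of_surjective a.1.mkQ_surjective) Ψ.1).finrank_eq.symm.trans Ψ.2⟩

theorem inc_liftDual_self (a : Sub F V 1) (Ψ : Sub F (Dual F (V ⧸ a.1)) 1) : Inc a (liftDual a Ψ) := by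
  rw [inc_iff]
  exact LinearMap.map_le_range.trans (le_of_eq a.1.range_dualMap_mkQ_eq)

theorem liftDual_le (a : Sub F V 1) (Ψ : Sub F (Dual F (V ⧸ a.1)) 1) (P : Submodule F V) :
    P ≤ (liftDual a Ψ).1.dualCoannihilator ↔ P.map a.1.mkQ ≤ Ψ.1.dualCoannihilator := by
  simp only [SetLike.le_def, Submodule.mem_dualCoannihilator]
  constructor
  · rintro h _ ⟨x, hx, rfl⟩ ψ hψ
    exact h hx _ (Submodule.mem_map_of_mem hψ)
  · rintro h x hx _ ⟨ψ, hψ, rfl⟩
    exact h (Submodule.mem_map_of_mem hx) ψ hψ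

theorem inc_qpt (a P : Sub F V 1) (hP : ¬ P.1 ≤ a.1) (Ψ : Sub F (Dual F (V ⧸ a.1)) 1) :
    Inc (qpt a.1 P hP) Ψ ↔ Inc P (liftDual a Ψ) := (liftDual_le a Ψ P.1).symm

theorem liftDual_injective (a : Sub F V 1) : Function.Injective (liftDual a) := fun _ _ h =>
  Subtype.ext (Submodule.map_injective_of_injective
    (LinearMap.dualMap_injective_of_surjective a.1.mkQ_surjective) (congrArg Subtype.val h))

theorem liftDual_smul (a : Sub F V 1) {g : V ≃ₗ[F] V} (hg : g ∈ G) (hga : g • a = a)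
    (Ψ : Sub F (Dual F (V ⧸ a.1)) 1) :
    dualE g • liftDual a Ψ = liftDual a
      (dualE (quotHom (fixer G a) a.1 (fun _ hg => congrArg Subtype.val hg.2) ⟨g, hg, hga⟩) • Ψ) := by
  refine Subtype.ext ?_
  show (Ψ.1.map a.1.mkQ.dualMap).map (dualE g : Dual F V →ₗ[F] Dual F V) =
    (Ψ.1.map (_ : Dual F (V ⧸ a.1) →ₗ[F] Dual F (V ⧸ a.1))).map a.1.mkQ.dualMap
  rw [← Submodule.map_comp, ← Submodule.map_comp]
  congr 1

theorem qgrp_antiTrans (h2 : PairTrans G) (hn : 2 ≤ finrank F V) (a : Sub F V 1) : AntiTrans (qgrp G a) := by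
  haveI : FiniteDimensional F V := Module.Finite.of_finite
  intro A A' Ψ Ψ' hA hA'
  obtain ⟨P, hP, rfl⟩ := exists_qpt a.1 A
  obtain ⟨P', hP', rfl⟩ := exists_qpt a.1 A'
  rw [inc_qpt] at hA hA'
  obtain ⟨g, hg, hga, hgΦ⟩ := exists_move h2 hn a a (liftDual a Ψ) (liftDual a Ψ')
    (iff_of_true (inc_liftDual_self a Ψ) (inc_liftDual_self a Ψ'))
  have hgP : ¬ Inc (g • P) (liftDual a Ψ') := by rw [← hgΦ, inc_smul]; exact hA
  obtain ⟨k, hk, hka, hkΦ, hkP⟩ := (flag_off h2 hn a _ (inc_liftDual_self a Ψ')).1 _ _ hgP hA'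
  have hkga : (k * g) • a = a := by rw [mul_smul, hga, hka]
  have hkgP : (k * g) • P = P' := by rw [mul_smul, hkP]
  refine ⟨_, mem_qgrp (mul_mem hk hg) hkga, ?_, liftDual_injective a ?_⟩
  · rw [qpt_smul (hP' := by rw [hkgP]; exact hP')]
    exact Subtype.ext (by rw [qpt_val, qpt_val, hkgP])
  · rw [← liftDual_smul a (mul_mem hk hg) hkga, map_mul, mul_smul, hgΦ, hkΦ]

/-- The subspace at a point and a line through it. -/
def GoodL (G : Subgroup (V ≃ₗ[F] V)) (a b : Sub F V 1) (L : Submodule F V) : Prop :=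
  a.1 ≤ L ∧ b.1 ≤ L ∧ L ≠ ⊤ ∧
    (∀ g ∈ G, (g : V ≃ₗ[F] V) • a = a → ((g : V ≃ₗ[F] V) • b).1 ≤ a.1 ⊔ b.1 → L.map (g : V →ₗ[F] V) = L) ∧
    ∀ P Q : Sub F V 1, ¬ P.1 ≤ L → ¬ Q.1 ≤ L → ∃ g ∈ G, (g : V ≃ₗ[F] V) • a = a ∧
      ((g : V ≃ₗ[F] V) • b).1 ≤ a.1 ⊔ b.1 ∧ ((g : V ≃ₗ[F] V) • P).1 ≤ Q.1 ⊔ a.1

theorem GoodL.unique {a b : Sub F V 1} {L L' : Submodule F V} (h : GoodL G a b L) (h' : GoodL G a b L') : L = L' := by
  haveI : FiniteDimensional F V := Module.Finite.of_finite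
  have key : ∀ {L L' : Submodule F V}, GoodL G a b L → GoodL G a b L' → L' ≤ L := by
    intro L L' h h'
    obtain ⟨R, hR, hR'⟩ := exists_pt_not_le_two h.2.2.1 h'.2.2.1
    refine le_of_pts fun P hP => ?_
    by_contra hPL
    obtain ⟨g, hg, hga, hgb, hgR⟩ := h.2.2.2.2 R P hR hPL
    have h1 : (g • R).1 ≤ L' := hgR.trans (sup_le hP h'.1)
    rw [← h'.2.2.2.1 g hg hga hgb, map_le_smul] at h1
    exact hR' h1
  exact le_antisymm (key h' h) (key h h')

theorem GoodL.smul {a b : Sub F V 1} {L : Submodule F V} (h : GoodL G a b L) {g : V ≃ₗ[F] V} (hg : g ∈ G) :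
    GoodL G (g • a) (g • b) (L.map (g : V →ₗ[F] V)) := by
  have hback : ∀ P : Sub F V 1, P.1 ≤ L.map (g : V →ₗ[F] V) ↔ (g⁻¹ • P).1 ≤ L := fun P => by
    conv_lhs => rw [← smul_inv_smul g P]
    exact map_le_smul g _ L
  have hsup : ∀ P Q R : Sub F V 1, (g • P).1 ≤ (g • Q).1 ⊔ (g • R).1 ↔ P.1 ≤ Q.1 ⊔ R.1 := fun P Q R => by
    rw [sub_smul_val g Q, sub_smul_val g R, ← Submodule.map_sup, map_le_smul]
  refine ⟨Submodule.map_mono h.1, Submodule.map_mono h.2.1, fun e => h.2.2.1 ?_, fun k hk hka hkb => ?_, fun P Q hP hQ => ?_⟩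
  · have := congrArg (Submodule.map (g.symm : V →ₗ[F] V)) e
    rwa [← Submodule.map_comp, LinearEquiv.comp_coe, LinearEquiv.self_trans_symm, LinearEquiv.refl_toLinearMap,
      Submodule.map_id, Submodule.map_top, LinearEquiv.range] at this
  · have h1 := h.2.2.2.1 (g⁻¹ * k * g) (mul_mem (mul_mem (inv_mem hg) hk) hg) (by
      rw [mul_smul, mul_smul, hka, inv_smul_smul]) (by
      rw [← hsup, mul_smul, mul_smul, smul_inv_smul]; exact hkb)
    conv_rhs => rw [← h1]
    rw [← Submodule.map_comp, ← Submodule.map_comp]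
    congr 1
    refine LinearMap.ext fun x => ?_
    show k (g x) = g (g.symm (k (g x)))
    rw [g.apply_symm_apply]
  · rw [hback] at hP hQ
    obtain ⟨k, hk, hka, hkb, hkP⟩ := h.2.2.2.2 _ _ hP hQ
    refine ⟨g * k * g⁻¹, mul_mem (mul_mem hg hk) (inv_mem hg), ?_, ?_, ?_⟩
    · rw [mul_smul, mul_smul, inv_smul_smul, hka]
    · rw [mul_smul, mul_smul, inv_smul_smul]
      exact (hsup _ _ _).mpr hkb
    · rw [mul_smul, mul_smul]
      have := (hsup (k • g⁻¹ • P) (g⁻¹ • Q) a).mpr hkP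
      rwa [smul_inv_smul] at this

open Classical in
/-- The subspace at a point and a line through it. -/
noncomputable def wl (G : Subgroup (V ≃ₗ[F] V)) (a b : Sub F V 1) : Submodule F V :=
  if h : b = a then ⊥ else (nb (qgrp G a) (qpt a.1 b (fun hle => h (Subtype.ext
    (Submodule.eq_of_le_of_finrank_le hle (by rw [a.2, b.2])))))).comap a.1.mkQ

theorem wl_def (a b : Sub F V 1) (h : b ≠ a) (hb : ¬ b.1 ≤ a.1) :
    wl G a b = (nb (qgrp G a) (qpt a.1 b hb)).comap a.1.mkQ := dif_neg h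

theorem not_le_of_ne {a b : Sub F V 1} (h : b ≠ a) : ¬ b.1 ≤ a.1 := fun hle =>
  h (Subtype.ext (Submodule.eq_of_le_of_finrank_le hle (by rw [a.2, b.2])))

theorem finrank_quot (a : Sub F V 1) : finrank F (V ⧸ a.1) + 1 = finrank F V := by
  haveI : FiniteDimensional F V := Module.Finite.of_finite
  have := Submodule.finrank_quotient_add_finrank a.1
  rw [a.2] at this
  exact this

theorem comap_mkQ_finrank (a : Sub F V 1) (L : Submodule F (V ⧸ a.1)) :
    finrank F (L.comap a.1.mkQ) = finrank F L + 1 := by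
  haveI : FiniteDimensional F V := Module.Finite.of_finite
  let f : (L.comap a.1.mkQ) →ₗ[F] L := (a.1.mkQ.comp (L.comap a.1.mkQ).subtype).codRestrict L fun x => x.2
  have hf : Function.Surjective f := fun y => by
    obtain ⟨x, hx⟩ := a.1.mkQ_surjective y.1
    exact ⟨⟨x, by rw [Submodule.mem_comap, hx]; exact y.2⟩, Subtype.ext hx⟩
  have h := f.finrank_range_add_finrank_ker
  rw [LinearMap.range_eq_top.mpr hf, finrank_top] at h
  have hker : LinearMap.ker f = a.1.comap (L.comap a.1.mkQ).subtype := by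
    ext x
    rw [LinearMap.mem_ker, Submodule.mem_comap, ← Submodule.Quotient.mk_eq_zero]
    exact ⟨fun h => congrArg Subtype.val h, fun h => Subtype.ext h⟩
  rw [hker, (Submodule.comapSubtypeEquivOfLe (q := L.comap a.1.mkQ) (fun x hx => by
    rw [Submodule.mem_comap, show a.1.mkQ x = 0 from (Submodule.Quotient.mk_eq_zero _).mpr hx]
    exact zero_mem _)).finrank_eq, a.2] at h
  exact h.symm

theorem le_comap_iff (a P : Sub F V 1) (L : Submodule F (V ⧸ a.1)) :
    P.1 ≤ L.comap a.1.mkQ ↔ P.1.map a.1.mkQ ≤ L := Submodule.map_le_iff_le_comap.symm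

theorem self_le_comap (a : Sub F V 1) (L : Submodule F (V ⧸ a.1)) : a.1 ≤ L.comap a.1.mkQ := fun x hx => by
  rw [Submodule.mem_comap, show a.1.mkQ x = 0 from (Submodule.Quotient.mk_eq_zero _).mpr hx]
  exact zero_mem _

theorem qpt_le_iff (a P Q : Sub F V 1) (hP : ¬ P.1 ≤ a.1) (hQ : ¬ Q.1 ≤ a.1) :
    qpt a.1 P hP = qpt a.1 Q hQ ↔ P.1 ≤ Q.1 ⊔ a.1 := by
  haveI : FiniteDimensional F V := Module.Finite.of_finite
  constructor
  · intro h
    have h1 : P.1.map a.1.mkQ = Q.1.map a.1.mkQ := congrArg Subtype.val h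
    refine (Submodule.le_comap_map a.1.mkQ P.1).trans ?_
    rw [h1, Submodule.comap_map_eq, Submodule.ker_mkQ]
  · intro h
    refine Subtype.ext (Submodule.eq_of_le_of_finrank_le ?_ (by rw [(qpt a.1 P hP).2, (qpt a.1 Q hQ).2]))
    rw [qpt_val, qpt_val]
    refine (Submodule.map_mono h).trans ?_
    rw [Submodule.map_sup, Submodule.mkQ_map_self, sup_bot_eq]

theorem goodL_wl (h2 : PairTrans G) (hn : 3 ≤ finrank F V) {a b : Sub F V 1} (hne : b ≠ a) :
    GoodL G a b (wl G a b) := by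
  haveI : FiniteDimensional F V := Module.Finite.of_finite
  have hb := not_le_of_ne hne
  rw [wl_def a b hne hb]
  have hk : 2 ≤ finrank F (V ⧸ a.1) := by have := finrank_quot a; omega
  have h := (qgrp_antiTrans h2 (by omega) a).good hk (qpt a.1 b hb)
  refine ⟨self_le_comap a _, (le_comap_iff a b _).mpr h.1, fun e => h.2.1 ?_, fun g hg hga hgb => ?_, fun P Q hP hQ => ?_⟩
  · have := congrArg (Submodule.map a.1.mkQ) e
    rwa [Submodule.map_comap_eq_of_surjective a.1.mkQ_surjective, Submodule.map_top,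
      LinearMap.range_eq_top.mpr a.1.mkQ_surjective] at this
  · have hgb' : ¬ (g • b).1 ≤ a.1 := fun hle => hne (MulAction.injective g
      ((Subtype.ext (Submodule.eq_of_le_of_finrank_le hle (by rw [a.2, (g • b).2]))).trans hga.symm))
    have hfix := h.2.2.1 _ (mem_qgrp hg hga) (by
      rw [qpt_smul (hP' := hgb')]
      exact (qpt_le_iff a _ _ _ _).mpr (hgb.trans (le_of_eq (sup_comm _ _))))
    refine Submodule.eq_of_le_of_finrank_le ?_ (le_of_eq (g.finrank_map_eq _).symm)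
    rintro _ ⟨x, hx, rfl⟩
    rw [SetLike.mem_coe, Submodule.mem_comap] at hx
    rw [Submodule.mem_comap, ← hfix]
    exact ⟨_, hx, rfl⟩
  · have hPa : ¬ P.1 ≤ a.1 := fun hle => hP (hle.trans (self_le_comap a _))
    have hQa : ¬ Q.1 ≤ a.1 := fun hle => hQ (hle.trans (self_le_comap a _))
    rw [le_comap_iff] at hP hQ
    obtain ⟨_, ⟨⟨g, hg, hga⟩, rfl⟩, e1, e2⟩ := h.2.2.2 (qpt a.1 P hPa) (qpt a.1 Q hQa) hP hQ
    have hne' : ∀ R : Sub F V 1, ¬ R.1 ≤ a.1 → ¬ (g • R).1 ≤ a.1 := fun R hR hle => hR (by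
      rw [← map_le_smul g, show a.1.map (g : V →ₗ[F] V) = a.1 from congrArg Subtype.val hga]; exact hle)
    rw [qpt_smul (hP' := hne' b hb), qpt_le_iff] at e1
    rw [qpt_smul (hP' := hne' P hPa), qpt_le_iff] at e2
    exact ⟨g, hg, hga, e1.trans (le_of_eq (sup_comm _ _)), e2⟩

theorem wl_smul (h2 : PairTrans G) (hn : 3 ≤ finrank F V) {a b : Sub F V 1} (hne : b ≠ a) {g : V ≃ₗ[F] V}
    (hg : g ∈ G) : wl G (g • a) (g • b) = (wl G a b).map (g : V →ₗ[F] V) :=
  (goodL_wl h2 hn fun e => hne (MulAction.injective g e)).unique ((goodL_wl h2 hn hne).smul hg)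

theorem finrank_wl (h2 : PairTrans G) (hn : 3 ≤ finrank F V) {a b a' b' : Sub F V 1} (hne : b ≠ a) (hne' : b' ≠ a') :
    finrank F (wl G a b) = finrank F (wl G a' b') := by
  obtain ⟨g, hg, rfl, rfl⟩ := h2 a b a' b' hne.symm hne'.symm
  rw [wl_smul h2 hn hne hg, LinearEquiv.finrank_map_eq]

/-- The dimensions at different points agree. -/
theorem finrank_nb_qgrp (h2 : PairTrans G) (hn : 3 ≤ finrank F V) (a a' : Sub F V 1) (P : Sub F (V ⧸ a.1) 1)
    (P' : Sub F (V ⧸ a'.1) 1) : finrank F (nb (qgrp G a) P) = finrank F (nb (qgrp G a') P') := by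
  haveI : FiniteDimensional F V := Module.Finite.of_finite
  obtain ⟨b, hb, rfl⟩ := exists_qpt a.1 P
  obtain ⟨b', hb', rfl⟩ := exists_qpt a'.1 P'
  have hne : b ≠ a := fun e => hb (e ▸ le_rfl)
  have hne' : b' ≠ a' := fun e => hb' (e ▸ le_rfl)
  have := finrank_wl h2 hn hne hne'
  rw [wl_def a b hne hb, wl_def a' b' hne' hb', comap_mkQ_finrank, comap_mkQ_finrank] at this
  omega

/-- The two dimensions of a doubly transitive group and its dual are coupled. -/
theorem coupling (h2 : PairTrans G) (hn : 3 ≤ finrank F V) (a : Sub F V 1) (P : Sub F (V ⧸ a.1) 1)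
    (Φ : Sub F (Dual F V) 1) (A : Sub F (Dual F V ⧸ Φ.1) 1) (hw : 2 ≤ finrank F (nb (qgrp G a) P)) :
    finrank F V ≤ finrank F (nb (qgrp (G.map (dualE : (V ≃ₗ[F] V) →* _)) Φ) A) + finrank F (nb (qgrp G a) P) := by
  classical
  haveI : FiniteDimensional F V := Module.Finite.of_finite
  haveI : Nontrivial V := Module.nontrivial_of_finrank_pos (R := F) (by omega)
  haveI : Finite F := finite_field (V := V)
  haveI : Finite (Dual F V) := finite_dual
  haveI : Finite (Dual F V ⧸ Φ.1) := Quotient.finite _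
  haveI : Finite (Dual F (Dual F V ⧸ Φ.1)) := finite_dual
  haveI : Finite (V ⧸ a.1) := Quotient.finite _
  haveI : Finite (Dual F (V ⧸ a.1)) := finite_dual
  have hk : 2 ≤ finrank F (V ⧸ a.1) := by have := finrank_quot a; omega
  have h := qgrp_antiTrans h2 (by omega) a
  -- a hyperplane through the point
  obtain ⟨Ψ, -⟩ : ∃ Ψ : Sub F (Dual F (V ⧸ a.1)) 1, ¬ Inc P Ψ := exists_off P
  set H := liftDual a Ψ with hH
  -- the group of the dual space at `H`, and its dual
  set G' := G.map (dualE : (V ≃ₗ[F] V) →* _) with hG'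
  have hd2 : 3 ≤ finrank F (Dual F V) := by rw [Subspace.dual_finrank_eq]; exact hn
  have h2' : PairTrans G' := pairTrans_dual h2 hn
  haveI : Finite (Dual F V ⧸ H.1) := Quotient.finite _
  haveI : Finite (Dual F (Dual F V ⧸ H.1)) := finite_dual
  obtain ⟨R, -⟩ : ∃ R : Sub F (Dual F V ⧸ H.1) 1, True := by
    haveI : Nontrivial (Dual F V ⧸ H.1) := Module.nontrivial_of_finrank_pos (R := F) (by
      have := finrank_quot H; omega)
    obtain ⟨x, hx⟩ := exists_ne (0 : Dual F V ⧸ H.1)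
    exact ⟨pt x hx, trivial⟩
  rw [finrank_nb_qgrp h2' hd2 Φ H A R]
  have hk' : 2 ≤ finrank F (Dual F V ⧸ H.1) := by have := finrank_quot H; omega
  have h' := qgrp_antiTrans h2' (by omega) H
  -- the hyperplane as a dual space
  let θ : H.1.dualCoannihilator →ₗ[F] Dual F (Dual F V ⧸ H.1) :=
    { toFun := fun x => H.1.liftQ (Dual.eval F V (x : V)) fun φ hφ => (Submodule.mem_dualCoannihilator _).mp x.2 φ hφ
      map_add' := fun x y => Submodule.linearMap_qext _ (LinearMap.ext fun φ => map_add φ (x : V) (y : V))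
      map_smul' := fun c x => Submodule.linearMap_qext _ (LinearMap.ext fun φ => map_smul φ c (x : V)) }
  have hθ : ∀ (x : H.1.dualCoannihilator) (φ : Dual F V), θ x (H.1.mkQ φ) = φ (x : V) := fun x φ => rfl
  have hθinj : Function.Injective θ := fun x y e => Subtype.ext (by
    by_contra hne
    obtain ⟨φ, hφ⟩ := Module.Projective.exists_dual_ne_zero F (sub_ne_zero.mpr hne)
    exact hφ (by rw [map_sub, ← hθ x φ, ← hθ y φ, e, sub_self]))
  have haH : a.1 ≤ H.1.dualCoannihilator := inc_liftDual_self a Ψ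
  obtain ⟨v, hv, hva⟩ := exists_mem a
  have hv' : θ ⟨v, haH hva⟩ ≠ 0 := fun e => hv (congrArg Subtype.val (hθinj (e.trans (map_zero θ).symm)))
  set ã : Sub F (Dual F (Dual F V ⧸ H.1)) 1 := pt (θ ⟨v, haH hva⟩) hv'
  have hkd : 2 ≤ finrank F (Dual F (Dual F V ⧸ H.1)) := by rw [Subspace.dual_finrank_eq]; exact hk'
  have hgood := h'.dual.good hkd ã
  have hdim := h'.finrank_nb_dual hk' R ã
  set N := nb ((qgrp G' H).map (dualE : _ →* (Dual F (Dual F V ⧸ H.1) ≃ₗ[F] _))) ã
  -- the invariant subspace from the quotient side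
  set D := (nb (Subgroup.map (dualE : _ →* (Dual F (V ⧸ a.1) ≃ₗ[F] _)) (qgrp G a)) Ψ).dualCoannihilator with hD
  have hDdim : finrank F D + finrank F (nb (qgrp G a) P) = finrank F (V ⧸ a.1) := by
    rw [hD, Subspace.finrank_dualCoannihilator_eq, ← h.finrank_nb_dual hk P Ψ, add_comm,
      Subspace.finrank_add_finrank_dualAnnihilator_eq, Subspace.dual_finrank_eq]
  set E := D.comap a.1.mkQ with hE
  have hEdim : finrank F E = finrank F D + 1 := comap_mkQ_finrank a D
  have hEH : E ≤ H.1.dualCoannihilator := by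
    rw [hH, liftDual_le, hE, Submodule.map_comap_eq_of_surjective a.1.mkQ_surjective, hD, ← le_ann_iff]
    exact (h.dual.self_le (by rw [Subspace.dual_finrank_eq]; exact hk) Ψ).trans
      (Submodule.le_dualCoannihilator_dualAnnihilator _)
  have hEne : finrank F E < finrank F H.1.dualCoannihilator := by
    have h1 := finrank_hyp H
    have h3 := finrank_quot a
    omega
  have hstab : ∀ g ∈ G, g • a = a → dualE g • H = H → ∀ x ∈ E, g x ∈ E := by
    intro g hg hga hgH x hx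
    rw [hE, Submodule.mem_comap] at hx ⊢
    have hΨ : dualE (quotHom (fixer G a) a.1 (fun _ hg => congrArg Subtype.val hg.2) ⟨g, hg, hga⟩) • Ψ = Ψ :=
      liftDual_injective a (by rw [← liftDual_smul a hg hga, ← hH, hgH])
    have h1 := (h.dual.good (by rw [Subspace.dual_finrank_eq]; exact hk) Ψ).2.2.1 _ ⟨_, mem_qgrp hg hga, rfl⟩ hΨ
    have h3 : quotHom (fixer G a) a.1 (fun _ hg => congrArg Subtype.val hg.2) ⟨g, hg, hga⟩ (a.1.mkQ x) ∈ D := by
      rw [hD, ← h1, map_coann]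
      exact ⟨_, hx, rfl⟩
    exact h3
  -- inside `N`
  have hle : (E.comap H.1.dualCoannihilator.subtype).map θ ≤ N := by
    by_contra hnot
    obtain ⟨_, ⟨x, hx, rfl⟩, hxN⟩ := SetLike.not_le_iff_exists.mp hnot
    have hall : ∀ y : H.1.dualCoannihilator, θ y ∉ N → (y : V) ∈ E := by
      intro y hy
      have hx0 : θ x ≠ 0 := fun e => hxN (e ▸ zero_mem _)
      have hy0 : θ y ≠ 0 := fun e => hy (e ▸ zero_mem _)
      obtain ⟨_, ⟨_, ⟨⟨_, ⟨g, hg, rfl⟩, hgH⟩, rfl⟩, rfl⟩, e1, e2⟩ := hgood.2.2.2 (pt _ hx0) (pt _ hy0)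
        (fun hle => hxN (hle (Submodule.mem_span_singleton_self _)))
        (fun hle => hy (hle (Submodule.mem_span_singleton_self _)))
      replace hgH : dualE g • H = H := hgH
      have hgH' : ∀ z ∈ H.1.dualCoannihilator, g z ∈ H.1.dualCoannihilator := fun z hz => by
        rw [← congrArg Subtype.val hgH, sub_smul_val, map_coann]
        exact Submodule.mem_map_of_mem hz
      have hact : ∀ z : H.1.dualCoannihilator,
          dualE (quotHom (fixer G' H) H.1 (fun _ hg => congrArg Subtype.val hg.2) ⟨dualE g, ⟨g, hg, rfl⟩, hgH⟩) (θ z) =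
            θ ⟨g z, hgH' z z.2⟩ := fun z => by
        refine Submodule.linearMap_qext _ (LinearMap.ext fun φ => ?_)
        rw [LinearMap.comp_apply, LinearMap.comp_apply, hθ, dualE_apply]
        have : (quotHom (fixer G' H) H.1 (fun _ hg => congrArg Subtype.val hg.2) ⟨dualE g, ⟨g, hg, rfl⟩, hgH⟩).symm
            (H.1.mkQ φ) = H.1.mkQ ((dualE g).symm φ) := by
          rw [LinearEquiv.symm_apply_eq, quotHom_mk, LinearEquiv.apply_symm_apply]
        rw [this, hθ]
        show (dualE g).symm φ (z : V) = φ (g z)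
        rw [show (dualE g).symm φ = dualE g⁻¹ φ by
          rw [LinearEquiv.symm_apply_eq, ← LinearEquiv.mul_apply, ← map_mul, mul_inv_cancel, map_one]; rfl]
        rfl
      rw [smul_pt] at e1 e2
      obtain ⟨c, hc, he1⟩ := pt_eq_pt hv' _ e1.symm
      rw [hact, ← map_smul] at he1
      have hga : g • a = a := by
        rw [pt_eq_of_mem hv hva, smul_pt]
        refine Subtype.ext ?_
        show F ∙ g v = F ∙ v
        rw [show g v = c • v from congrArg Subtype.val (hθinj he1), Submodule.span_singleton_smul_eq hc.isUnit]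
      obtain ⟨d, hd, he2⟩ := pt_eq_pt hy0 _ e2.symm
      rw [hact, ← map_smul] at he2
      have h3 := hstab g hg hga hgH x hx
      rw [show g x = d • (y : V) from congrArg Subtype.val (hθinj he2)] at h3
      exact (Submodule.smul_mem_iff _ hd).mp h3
    have hEt : E.comap H.1.dualCoannihilator.subtype = ⊤ := by
      have hEne' : E.comap H.1.dualCoannihilator.subtype ≠ ⊤ → False := fun hne => by
        have hNne : N.comap θ ≠ ⊤ := fun e => hxN (e ▸ Submodule.mem_top : x ∈ N.comap θ)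
        obtain ⟨y, hy1, hy2⟩ := exists_not_mem_two hne hNne
        exact hy1 (hall y hy2)
      exact not_not.mp hEne'
    rw [Submodule.comap_subtype_eq_top] at hEt
    have := Submodule.finrank_mono hEt
    omega
  have h1 := Submodule.finrank_mono hle
  rw [← (Submodule.equivMapOfInjective θ hθinj _).finrank_eq, (Submodule.comapSubtypeEquivOfLe hEH).finrank_eq] at h1
  have h3 := finrank_quot a
  omega

end CfsgLib.SingerSeven
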