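/-
Points and subspaces: dimensions and counts.
-/
import Cfsg.Agent.Lib.SingerSeven.Parent

set_option autoImplicit false
set_option linter.unusedSectionVars false
set_option linter.style.haveILetI false
set_option maxHeartbeats 1000000

namespace CfsgLib.SingerSeven

open Module
open CfsgLib.SingerFive (Sub pt exists_pt smul_pt finite_field card_pts_space)

variable {F U : Type*} [Field F] [AddCommGroup U] [Module F U] [Finite U]

theorem eq_of_pt_le {P Q : Sub F U 1} (h : P.1 ≤ Q.1) : P = Q := by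
  haveI : FiniteDimensional F U := Module.Finite.of_finite
  exact Subtype.ext (Submodule.eq_of_le_of_finrank_le h (by rw [P.2, Q.2]))

theorem finrank_inf_pt {L : Submodule F U} {P : Sub F U 1} (h : ¬ P.1 ≤ L) : L ⊓ P.1 = ⊥ := by
  haveI : FiniteDimensional F U := Module.Finite.of_finite
  rw [← Submodule.finrank_eq_zero]
  by_contra hne
  refine h (inf_eq_right.mp (Submodule.eq_of_le_of_finrank_le inf_le_right ?_))
  rw [P.2]
  omega

theorem finrank_sup_pt {L : Submodule F U} {P : Sub F U 1} (h : ¬ P.1 ≤ L) :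
    finrank F ↥(L ⊔ P.1) = finrank F L + 1 := by
  haveI : FiniteDimensional F U := Module.Finite.of_finite
  have := Submodule.finrank_sup_add_finrank_inf_eq L P.1
  rw [finrank_inf_pt h, finrank_bot, P.2, add_zero] at this
  exact this

theorem finrank_line {P Q : Sub F U 1} (h : P ≠ Q) : finrank F ↥(P.1 ⊔ Q.1) = 2 := by
  rw [finrank_sup_pt fun e => h (eq_of_pt_le e).symm, P.2]

theorem eq_line {L : Submodule F U} {P Q : Sub F U 1} (h : P ≠ Q) (hP : P.1 ≤ L) (hQ : Q.1 ≤ L)
    (hL : finrank F L ≤ 2) : L = P.1 ⊔ Q.1 := by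
  haveI : FiniteDimensional F U := Module.Finite.of_finite
  exact (Submodule.eq_of_le_of_finrank_le (sup_le hP hQ) (by rw [finrank_line h]; exact hL)).symm

/-- The number of points of a subspace. -/
theorem card_pts_dim [Finite F] (L : Submodule F U) :
    Nat.card {P : Sub F U 1 // P.1 ≤ L} * (Nat.card F - 1) + 1 = Nat.card F ^ finrank F L := by
  haveI : FiniteDimensional F U := Module.Finite.of_finite
  rw [← Nat.card_units, card_pts_le, Module.natCard_eq_pow_finrank (K := F) (V := L)]
  have := Nat.one_le_pow (finrank F L) (Nat.card F) Nat.card_pos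
  omega

theorem card_pts_diff [Finite F] {L L' : Submodule F U} (h : L' ≤ L) :
    Nat.card {P : Sub F U 1 // P.1 ≤ L ∧ ¬ P.1 ≤ L'} * (Nat.card F - 1) + Nat.card F ^ finrank F L' =
      Nat.card F ^ finrank F L := by
  classical
  haveI : Fintype (Sub F U 1) := Fintype.ofFinite _
  have h3 : Nat.card {P : Sub F U 1 // P.1 ≤ L'} + Nat.card {P : Sub F U 1 // P.1 ≤ L ∧ ¬ P.1 ≤ L'} =
      Nat.card {P : Sub F U 1 // P.1 ≤ L} := by
    simp only [Nat.card_eq_fintype_card, Fintype.card_subtype]
    rw [← Finset.card_union_of_disjoint (Finset.disjoint_filter.mpr fun x _ h1 h2 => h2.2 h1)]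
    congr 1
    ext x
    simp only [Finset.mem_union, Finset.mem_filter, Finset.mem_univ, true_and]
    exact ⟨fun hx => hx.elim (fun h1 => h1.trans h) (fun h1 => h1.1), fun hx => by tauto⟩
  rw [← card_pts_dim L', ← card_pts_dim L, ← h3]
  ring

theorem exists_pt_le {L : Submodule F U} (h : 0 < finrank F L) : ∃ P : Sub F U 1, P.1 ≤ L := by
  obtain ⟨x, hx, hx0⟩ := Submodule.exists_mem_ne_zero_of_ne_bot (p := L) fun e => by
    rw [e, finrank_bot] at h; omega
  exact ⟨pt x hx0, (Submodule.span_singleton_le_iff_mem _ _).mpr hx⟩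

theorem exists_pt_not_le {L L' : Submodule F U} (h : ¬ L ≤ L') : ∃ P : Sub F U 1, P.1 ≤ L ∧ ¬ P.1 ≤ L' := by
  obtain ⟨x, hx, hx'⟩ := SetLike.not_le_iff_exists.mp h
  have hx0 : x ≠ 0 := fun e => hx' (e ▸ zero_mem _)
  exact ⟨pt x hx0, (Submodule.span_singleton_le_iff_mem _ _).mpr hx, fun hle => hx' (hle (Submodule.mem_span_singleton_self x))⟩

theorem exists_dual_pt {L : Submodule F U} (hL : L ≠ ⊤) :
    ∃ Φ : Sub F (Dual F U) 1, L ≤ Φ.1.dualCoannihilator := by
  haveI : FiniteDimensional F U := Module.Finite.of_finite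
  obtain ⟨φ, hφ, hφ0⟩ := Submodule.exists_mem_ne_zero_of_ne_bot (p := L.dualAnnihilator) fun e => hL (by
    have := congrArg Submodule.dualCoannihilator e
    rwa [Subspace.dualAnnihilator_dualCoannihilator_eq, Submodule.dualCoannihilator_bot] at this)
  exact ⟨pt φ hφ0, (le_ann_iff _ _).mp ((Submodule.span_singleton_le_iff_mem _ _).mpr hφ)⟩

end CfsgLib.SingerSeven
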