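/-
The exponents in the equation of the torus and separation of characters.
-/
import Mathlib

set_option autoImplicit false
set_option maxHeartbeats 1000000

namespace CfsgLib.SingerSeven

/-- The digits of a sum of three powers. -/
def cnt (a b c : ℕ) : List ℕ :=
  (List.range 7).map fun n => (if a = n then 1 else 0) + (if b = n then 1 else 0) + (if c = n then 1 else 0)

theorem ofDigits_cnt {q a b c : ℕ} (ha : a < 7) (hb : b < 7) (hc : c < 7) :
    Nat.ofDigits q (cnt a b c) = q ^ a + q ^ b + q ^ c := by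
  have h : Nat.ofDigits q (cnt a b c) = ∑ n ∈ Finset.range 7,
      ((if a = n then 1 else 0) + (if b = n then 1 else 0) + (if c = n then 1 else 0)) * q ^ n := by
    simp only [cnt, List.range_succ, List.range_zero, List.nil_append, List.cons_append, List.map_cons, List.map_nil,
      Nat.ofDigits_cons, Nat.ofDigits_nil, Finset.sum_range_succ, Finset.sum_range_zero]
    ring
  rw [h]
  simp only [add_mul, ite_mul, one_mul, zero_mul, Finset.sum_add_distrib, Finset.sum_ite_eq, Finset.mem_range, ha, hb,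
    hc, if_true]

/-- The first exponent of a term. -/
def ea (k : Bool × Fin 7 × Fin 7) : ℕ := if k.1 then 1 else 0

/-- The second exponent of a term. -/
def eb (k : Bool × Fin 7 × Fin 7) : ℕ := if k.1 then (k.2.1.val + 1) % 7 else k.2.1.val

/-- The negative exponent of a term. -/
def en (k : Bool × Fin 7 × Fin 7) : ℕ := if k.1 then k.2.2.val else (k.2.2.val + 1) % 7

/-- A term that can occur beside the one to be killed. -/
def Rest (i : Fin 7) (k : Bool × Fin 7 × Fin 7) : Prop :=
  k ≠ (true, i, i) ∧ (i.val ∈ [2, 3, 4, 5] ∨ (k.2.1.val ∈ [0, 1, 6] ∧ k.2.2.val ∈ [0, 1, 6]))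

instance (i : Fin 7) (k : Bool × Fin 7 × Fin 7) : Decidable (Rest i k) := by unfold Rest; infer_instance

theorem ea_lt (k : Bool × Fin 7 × Fin 7) : ea k < 7 := by unfold ea; split_ifs <;> norm_num

theorem eb_lt (k : Bool × Fin 7 × Fin 7) : eb k < 7 := by unfold eb; split_ifs <;> omega

theorem en_lt (k : Bool × Fin 7 × Fin 7) : en k < 7 := by unfold en; split_ifs <;> omega

theorem sep_digits : ∀ (i : Fin 7) (k : Bool × Fin 7 × Fin 7), Rest i k →
    cnt (ea (true, i, i)) (eb (true, i, i)) (en k) ≠ cnt (ea k) (eb k) (en (true, i, i)) := by decide +kernel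

theorem sep_small : ∀ q ∈ [2, 3, 8, 15], ∀ (i : Fin 7) (k : Bool × Fin 7 × Fin 7), Rest i k →
    ¬ 7 * (q ^ ea (true, i, i) + q ^ eb (true, i, i) + q ^ en k) ≡
      7 * (q ^ ea k + q ^ eb k + q ^ en (true, i, i)) [MOD q ^ 7 - 1] := by decide +kernel

/-- The exponent of the term to be killed is isolated. -/
theorem sep_expo {q : ℕ} (hq : 2 ≤ q) (i : Fin 7) (k : Bool × Fin 7 × Fin 7) (h : Rest i k) :
    ¬ 7 * (q ^ ea (true, i, i) + q ^ eb (true, i, i) + q ^ en k) ≡
      7 * (q ^ ea k + q ^ eb k + q ^ en (true, i, i)) [MOD q ^ 7 - 1] := by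
  by_cases hs : q ∈ [2, 3, 8, 15]
  · exact sep_small q hs i k h
  simp only [List.mem_cons, List.not_mem_nil, or_false] at hs
  push Not at hs
  obtain ⟨h2, h3, h8, h15⟩ := hs
  intro hmod
  set A := q ^ ea (true, i, i) + q ^ eb (true, i, i) + q ^ en k with hA
  set B := q ^ ea k + q ^ eb k + q ^ en (true, i, i) with hB
  have hpow : ∀ a, a < 7 → q ^ a ≤ q ^ 6 := fun a ha => Nat.pow_le_pow_right (by omega) (by omega)
  have hA' : A ≤ 3 * q ^ 6 := by
    have := hpow _ (ea_lt (true, i, i))
    have := hpow _ (eb_lt (true, i, i))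
    have := hpow _ (en_lt k)
    omega
  have hB' : B ≤ 3 * q ^ 6 := by
    have := hpow _ (ea_lt k)
    have := hpow _ (eb_lt k)
    have := hpow _ (en_lt (true, i, i))
    omega
  have h7 : q ^ 7 = q * q ^ 6 := by ring
  have hq6 : 2 ≤ q ^ 6 := le_trans hq (Nat.le_self_pow (by norm_num) q)
  have hfin : A = B := by
    by_cases hdvd : 7 ∣ q ^ 7 - 1
    · have hbig : 22 ≤ q := by
        by_contra hlt
        interval_cases q <;> first | omega | norm_num at hdvd
      have : 22 * q ^ 6 ≤ q * q ^ 6 := Nat.mul_le_mul_right _ hbig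
      have h1 := Nat.ModEq.eq_of_lt_of_lt hmod (by omega) (by omega)
      omega
    · have hcop : Nat.Coprime (q ^ 7 - 1) 7 :=
        ((Nat.prime_seven.coprime_iff_not_dvd).mpr hdvd).symm
      have h1 : A ≡ B [MOD q ^ 7 - 1] := Nat.ModEq.cancel_left_of_coprime hcop hmod
      have : 4 * q ^ 6 ≤ q * q ^ 6 := Nat.mul_le_mul_right _ (by omega)
      exact Nat.ModEq.eq_of_lt_of_lt h1 (by omega) (by omega)
  rw [hA, hB, ← ofDigits_cnt (ea_lt _) (eb_lt _) (en_lt _), ← ofDigits_cnt (ea_lt _) (eb_lt _) (en_lt _)] at hfin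
  refine sep_digits i k h (Nat.injOn_ofDigits (b := q) (by omega) 7 ?_ ?_ hfin) <;>
  · refine ⟨by simp [cnt], fun l hl => ?_⟩
    simp only [cnt, List.mem_map] at hl
    obtain ⟨n, -, rfl⟩ := hl
    split_ifs <;> omega

/-- A relation between characters kills an isolated one. -/
theorem coeff_zero {K G R : Type*} [Fintype K] [Monoid G] [CommRing R] [IsDomain R] (χ : K → (G →* R)) (a : K → R)
    (hsum : ∀ x, ∑ k, a k * χ k x = 0) (k₀ : K) (hsep : ∀ k, k ≠ k₀ → a k ≠ 0 → χ k ≠ χ k₀) : a k₀ = 0 := by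
  classical
  have hli := linearIndependent_monoidHom G R
  rw [linearIndependent_iff'] at hli
  have h0 := hli (Finset.univ.image χ) (fun ψ => ∑ k ∈ Finset.univ.filter (fun k => χ k = ψ), a k) (by
    ext x
    simp only [Finset.sum_apply, Pi.smul_apply, smul_eq_mul, Pi.zero_apply]
    rw [← hsum x, ← Finset.sum_fiberwise_of_maps_to (s := Finset.univ) (t := Finset.univ.image χ)
      (fun k _ => Finset.mem_image_of_mem χ (Finset.mem_univ k)) (fun k => a k * χ k x)]
    refine Finset.sum_congr rfl fun ψ _ => ?_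
    rw [Finset.sum_mul]
    exact Finset.sum_congr rfl fun k hk => by rw [(Finset.mem_filter.mp hk).2]) (χ k₀)
    (Finset.mem_image_of_mem χ (Finset.mem_univ k₀))
  rw [Finset.sum_eq_single k₀] at h0
  · exact h0
  · intro k hk hne
    by_contra ha
    exact hsep k hne ha (Finset.mem_filter.mp hk).2
  · intro hk
    exact absurd (by simp) hk

end CfsgLib.SingerSeven
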