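/-
A symmetric injective assignment of hyperplanes containing their points is given by a linear map to the dual.
-/
import Cfsg.Agent.Lib.SingerSeven.Tools

set_option autoImplicit false
set_option linter.unusedSectionVars false
set_option maxHeartbeats 1000000

namespace CfsgLib.SingerSeven

open Module

variable {F U : Type*} [Field F] [AddCommGroup U] [Module F U] [FiniteDimensional F U]

/-- A symmetric injective assignment of hyperplanes containing their points comes from a linear map. -/
theorem exists_polar (W : U → Submodule F U) (hdim : ∀ x, x ≠ 0 → finrank F (W x) + 1 = finrank F U)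
    (hself : ∀ x, x ≠ 0 → x ∈ W x) (hsymm : ∀ x y, x ≠ 0 → y ≠ 0 → y ∈ W x → x ∈ W y)
    (hinj : ∀ x y, x ≠ 0 → y ≠ 0 → W x = W y → ∃ c : F, y = c • x) :
    ∃ β : U →ₗ[F] Dual F U, ∀ x, x ≠ 0 → LinearMap.ker (β x) = W x := by
  classical
  by_cases htriv : ∀ x : U, x = 0
  · exact ⟨0, fun x hx => absurd (htriv x) hx⟩
  push Not at htriv
  obtain ⟨x₀, hx₀⟩ := htriv
  -- a functional with a given kernel
  have hform : ∀ x, x ≠ 0 → ∃ φ : Dual F U, φ ≠ 0 ∧ LinearMap.ker φ = W x := by
    intro x hx
    have hlt : W x < ⊤ := lt_top_iff_ne_top.mpr fun e => by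
      have := hdim x hx
      rw [e, finrank_top] at this
      omega
    obtain ⟨φ, hφ, hle⟩ := Submodule.exists_le_ker_of_lt_top (W x) hlt
    refine ⟨φ, hφ, (Submodule.eq_of_le_of_finrank_le hle ?_).symm⟩
    have h1 := Submodule.finrank_lt (lt_top_iff_ne_top.mpr fun e => hφ (LinearMap.ker_eq_top.mp e)).ne
    have h2 := hdim x hx
    omega
  obtain ⟨f, hf, hfk⟩ := hform x₀ hx₀
  have hfx : ∀ y, y ≠ 0 → (f y = 0 ↔ x₀ ∈ W y) := fun y hy => by
    rw [← LinearMap.mem_ker, hfk]
    exact ⟨fun h => hsymm _ _ hx₀ hy h, fun h => hsymm _ _ hy hx₀ h⟩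
  -- normalised functionals off the hyperplane
  have hnorm : ∀ y : U, f y ≠ 0 → ∃ φ : Dual F U, LinearMap.ker φ = W y ∧ φ x₀ = - f y := by
    intro y hy
    have hy0 : y ≠ 0 := fun e => hy (by rw [e, map_zero])
    obtain ⟨φ, -, hk⟩ := hform y hy0
    have hx : φ x₀ ≠ 0 := fun e => hy ((hfx y hy0).mpr (hk ▸ LinearMap.mem_ker.mpr e))
    refine ⟨(- f y / φ x₀) • φ, ?_, by rw [LinearMap.smul_apply, smul_eq_mul, div_mul_cancel₀ _ hx]⟩
    rw [LinearMap.ker_smul _ _ (div_ne_zero (neg_ne_zero.mpr hy) hx), hk]
  choose! g hgk hgx using hnorm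
  -- the functional of a point in the hyperplane, and antisymmetry
  have key : ∀ y z : U, f y ≠ 0 → f z ≠ 0 → f z • y - f y • z ≠ 0 →
      LinearMap.ker (f z • g y - f y • g z) = W (f z • y - f y • z) := by
    intro y z hy hz hu
    set u := f z • y - f y • z with hu'
    have hy0 : y ≠ 0 := fun e => hy (by rw [e, map_zero])
    have hz0 : z ≠ 0 := fun e => hz (by rw [e, map_zero])
    have hne : W y ≠ W z := fun e => by
      obtain ⟨c, rfl⟩ := hinj y z hy0 hz0 e
      exact hu (by rw [hu', map_smul, smul_eq_mul, smul_smul, mul_comm c, sub_self])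
    have hfu : f u = 0 := by rw [hu', map_sub, map_smul, map_smul, smul_eq_mul, smul_eq_mul]; ring
    have hx0u : x₀ ∈ W u := (hfx u hu).mp hfu
    have hx0y : x₀ ∉ W y := fun h => hy ((hfx y hy0).mpr h)
    have hle : W y ⊓ W z ≤ W u := fun p hp => by
      by_cases hp0 : p = 0
      · rw [hp0]; exact zero_mem _
      · exact hsymm _ _ hp0 hu (sub_mem (Submodule.smul_mem _ _ (hsymm _ _ hy0 hp0 hp.1))
          (Submodule.smul_mem _ _ (hsymm _ _ hz0 hp0 hp.2)))
    have heq : W y ⊓ W z ⊔ F ∙ x₀ = W u := by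
      refine Submodule.eq_of_le_of_finrank_le (sup_le hle ((Submodule.span_singleton_le_iff_mem _ _).mpr hx0u)) ?_
      have h1 := Submodule.finrank_sup_add_finrank_inf_eq (W y) (W z)
      have h2 := Submodule.finrank_le (W y ⊔ W z)
      have h3 := Submodule.finrank_lt_finrank_of_lt (lt_of_le_of_ne (le_sup_left : W y ⊓ W z ≤ W y ⊓ W z ⊔ F ∙ x₀)
        fun e => hx0y ((e.ge.trans inf_le_left) (Submodule.mem_sup_right (Submodule.mem_span_singleton_self x₀))))
      have := hdim y hy0
      have := hdim z hz0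
      have := hdim u hu
      omega
    have hh : W u ≤ LinearMap.ker (f z • g y - f y • g z) := by
      rw [← heq]
      refine sup_le (fun p hp => ?_) ((Submodule.span_singleton_le_iff_mem _ _).mpr ?_)
      · rw [LinearMap.mem_ker, LinearMap.sub_apply, LinearMap.smul_apply, LinearMap.smul_apply,
          LinearMap.mem_ker.mp ((hgk y hy).ge hp.1), LinearMap.mem_ker.mp ((hgk z hz).ge hp.2), smul_zero, smul_zero,
          sub_zero]
      · rw [LinearMap.mem_ker, LinearMap.sub_apply, LinearMap.smul_apply, LinearMap.smul_apply, hgx y hy, hgx z hz,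
          smul_eq_mul, smul_eq_mul]
        ring
    refine (Submodule.eq_of_le_of_finrank_le hh ?_).symm
    have h1 : LinearMap.ker (f z • g y - f y • g z) ≠ ⊤ := fun e => by
      refine hne ?_
      have e1 := LinearMap.ker_eq_top.mp e
      rw [sub_eq_zero] at e1
      rw [← hgk y hy, ← hgk z hz, ← LinearMap.ker_smul (g y) _ hz, e1, LinearMap.ker_smul _ _ hy]
    have := Submodule.finrank_lt h1
    have := hdim u hu
    omega
  have hanti : ∀ y z : U, f y ≠ 0 → f z ≠ 0 → g y z = - g z y := by
    intro y z hy hz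
    have hy0 : y ≠ 0 := fun e => hy (by rw [e, map_zero])
    have hz0 : z ≠ 0 := fun e => hz (by rw [e, map_zero])
    have hyy : g y y = 0 := LinearMap.mem_ker.mp ((hgk y hy).ge (hself y hy0))
    have hzz : g z z = 0 := LinearMap.mem_ker.mp ((hgk z hz).ge (hself z hz0))
    by_cases hu : f z • y - f y • z = 0
    · have e : z = (f z / f y) • y := by
        rw [sub_eq_zero] at hu
        rw [div_eq_inv_mul, ← smul_smul, hu, inv_smul_smul₀ hy]
      have h1 : g y z = 0 := by rw [e, map_smul, hyy, smul_zero]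
      have h2 : g z y = 0 := by
        have h3 : g z z = g z ((f z / f y) • y) := congrArg (g z) e
        rw [hzz, map_smul, smul_eq_mul] at h3
        exact (mul_eq_zero.mp h3.symm).resolve_left (div_ne_zero hz hy)
      rw [h1, h2, neg_zero]
    · have h := LinearMap.mem_ker.mp ((key y z hy hz hu).ge (hself _ hu))
      simp only [LinearMap.sub_apply, LinearMap.smul_apply, map_sub, map_smul, smul_eq_mul, hyy, hzz] at h
      have h2 : f y * f z * (g y z + g z y) = 0 := by linear_combination -h
      exact eq_neg_of_add_eq_zero_left ((mul_eq_zero.mp h2).resolve_left (mul_ne_zero hy hz))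
  -- a basis off the hyperplane
  have hspan : Submodule.span F {y : U | f y ≠ 0} = ⊤ := by
    refine eq_top_iff.mpr fun x _ => ?_
    obtain ⟨s, hs⟩ : ∃ s, f s ≠ 0 := by
      by_contra h
      push Not at h
      exact hf (LinearMap.ext h)
    by_cases hx : f x = 0
    · rw [← add_sub_cancel_right x s]
      exact sub_mem (Submodule.subset_span (by rw [Set.mem_setOf_eq, map_add, hx, zero_add]; exact hs))
        (Submodule.subset_span hs)
    · exact Submodule.subset_span hx
  let b := Basis.ofSpan hspan.ge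
  have hb : ∀ i, f (b i) ≠ 0 := fun i => Basis.ofSpan_subset hspan.ge ⟨i, rfl⟩
  let β : U →ₗ[F] Dual F U := b.constr F fun i => g (b i)
  have hβ : ∀ y, f y ≠ 0 → β y = g y := by
    intro y hy
    -- pair with the basis through antisymmetry
    have h1 : ∀ z, f z ≠ 0 → β y z = g y z := by
      intro z hz
      have e : (LinearMap.applyₗ z).comp β = -(g z) := b.ext fun i => by
        rw [LinearMap.comp_apply, Basis.constr_basis, LinearMap.applyₗ_apply_apply, LinearMap.neg_apply]
        exact hanti _ _ (hb i) hz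
      rw [hanti y z hy hz]
      exact LinearMap.congr_fun e y
    exact b.ext fun i => h1 _ (hb i)
  refine ⟨β, fun x hx => ?_⟩
  by_cases hfx0 : f x = 0
  · obtain ⟨s, hs⟩ : ∃ s, f s ≠ 0 := by
      by_contra h
      push Not at h
      exact hf (LinearMap.ext h)
    have hxs : f (x + s) ≠ 0 := by rw [map_add, hfx0, zero_add]; exact hs
    have e : f s • (x + s) - f (x + s) • s = f s • x := by
      rw [map_add, hfx0, zero_add, smul_add, add_sub_cancel_right]
    have h1 := key (x + s) s hxs hs (by rw [e]; exact smul_ne_zero hs hx)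
    rw [← hβ _ hxs, ← hβ _ hs, ← map_smul, ← map_smul, ← map_sub, e, map_smul, LinearMap.ker_smul _ _ hs] at h1
    rw [h1]
    refine Submodule.eq_of_le_of_finrank_le (fun p hp => ?_) ?_
    · by_cases hp0 : p = 0
      · rw [hp0]; exact zero_mem _
      · refine hsymm _ _ hp0 hx ?_
        have := hsymm _ _ (smul_ne_zero hs hx) hp0 hp
        rwa [Submodule.smul_mem_iff _ hs] at this
    · have := hdim x hx
      have := hdim _ (smul_ne_zero hs hx)
      omega
  · rw [hβ x hfx0, hgk x hfx0]

end CfsgLib.SingerSeven
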