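/-
An overgroup of the Singer normaliser has no five-dimensional subspaces on the quotients by points.
-/
import Cfsg.Agent.Lib.SingerSeven.Polar
import Cfsg.Agent.Lib.SingerSeven.Expo
import Cfsg.Agent.Lib.SingerSeven.Torus

set_option autoImplicit false
set_option linter.unusedSectionVars false
set_option linter.style.haveILetI false
set_option maxHeartbeats 1000000

namespace CfsgLib.SingerSeven

open Module
open CfsgLib.SingerFive (Sub pt exists_pt smul_pt pt_eq_pt dualE sub_smul_val finite_field finiteDim PairTrans mulE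
  mulE_apply)

section

variable {F V : Type*} [Field F] [AddCommGroup V] [Module F V] [Finite V] {G : Subgroup (V ≃ₗ[F] V)}

/-- Hyperplanes at points are different at different points. -/
theorem AntiTrans.nb_inj {X : Subgroup (V ≃ₗ[F] V)} (h : AntiTrans X) (hk : 2 ≤ finrank F V) {a b : Sub F V 1}
    (hw : finrank F (nb X a) + 1 = finrank F V) (e : nb X a = nb X b) : a = b := by
  haveI : FiniteDimensional F V := Module.Finite.of_finite
  haveI : Finite (Dual F V) := finite_dual
  obtain ⟨Φ, hΦ⟩ := exists_dual_pt (L := nb X a) fun e => by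
    rw [e, finrank_top] at hw
    omega
  set D := (nb (X.map (dualE : (V ≃ₗ[F] V) →* (Dual F V ≃ₗ[F] Dual F V))) Φ).dualCoannihilator with hD
  have hle : ∀ t : Sub F V 1, nb X t ≤ Φ.1.dualCoannihilator → t.1 ≤ D := fun t ht => by
    rw [hD, ← le_ann_iff, ← h.flag_iff hk]
    exact ht
  have hdim : finrank F D = 1 := by
    rw [hD, Subspace.finrank_dualCoannihilator_eq]
    have h4 := Subspace.finrank_add_finrank_dualAnnihilator_eq
      (nb (X.map (dualE : (V ≃ₗ[F] V) →* (Dual F V ≃ₗ[F] Dual F V))) Φ)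
    rw [Subspace.dual_finrank_eq, h.finrank_nb_dual hk a Φ] at h4
    omega
  have ha := Submodule.eq_of_le_of_finrank_le (hle a hΦ) (by rw [hdim, a.2])
  have hb := Submodule.eq_of_le_of_finrank_le (hle b (e ▸ hΦ)) (by rw [hdim, b.2])
  exact Subtype.ext (ha.trans hb.symm)

/-- When the subspace at a point and a line through it is a hyperplane, it depends on the line only. -/
theorem wl_swap (h2 : PairTrans G) (hn : 3 ≤ finrank F V) {a b : Sub F V 1} (hne : a ≠ b)
    (hw : finrank F (wl G a b) + 1 = finrank F V) : wl G b a = wl G a b := by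
  haveI : FiniteDimensional F V := Module.Finite.of_finite
  haveI : Nontrivial V := Module.nontrivial_of_finrank_pos (R := F) (by omega)
  haveI : Finite F := finite_field (V := V)
  haveI : Finite (Dual F V) := finite_dual
  -- the second point can move along the line
  have hsame : ∀ x y z : Sub F V 1, y ≠ x → z ≠ x → z.1 ≤ x.1 ⊔ y.1 → wl G x z = wl G x y := by
    intro x y z hy hz hle
    rw [wl_def x z hz (not_le_of_ne hz), wl_def x y hy (not_le_of_ne hy),
      (qpt_le_iff x z y _ _).mpr (hle.trans (sup_comm _ _).le)]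
  -- so can the first
  have key : ∀ x y z : Sub F V 1, x ≠ z → y ≠ z → y.1 ≤ x.1 ⊔ z.1 → wl G y z = wl G x z := by
    intro x y z hx hy hle
    have hw' : finrank F (wl G x z) + 1 = finrank F V := by rw [finrank_wl h2 hn hx.symm hne.symm]; exact hw
    obtain ⟨Φ, hΦ⟩ := exists_dual_pt (L := wl G x z) fun e => by
      rw [e, finrank_top] at hw'
      omega
    have hΦ' : Φ.1.dualCoannihilator = wl G x z :=
      (Submodule.eq_of_le_of_finrank_le hΦ (by have := finrank_hyp Φ; omega)).symm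
    have hzΦ : Inc z Φ := (goodL_wl h2 hn hx.symm).2.1.trans hΦ
    let S : Subgroup (V ≃ₗ[F] V) :=
      fixer G z ⊓ (MulAction.stabilizer (Dual F V ≃ₗ[F] Dual F V) Φ).comap dualE
    obtain ⟨g, hg, e⟩ := smul_of_line S z (fun g hg => hg.1.2) (fun A B hA hB => by
      obtain ⟨g, hg, hgz, hgΦ, hgA⟩ := (flag_off h2 (by omega) z Φ hzΦ).2 A B (fun h => hA ((inc_iff z A).mp h))
        (fun h => hB ((inc_iff z B).mp h))
      exact ⟨g, ⟨⟨hg, hgz⟩, hgΦ⟩, hgA⟩) x y hx hy ⟨1, one_mem _, by
        rw [one_smul]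
        exact le_sup_left.trans (eq_line hy hle le_sup_right (finrank_line hx).le).le⟩
    obtain ⟨⟨hgG, hgz⟩, hgΦ⟩ := hg
    have hgΦ' : dualE g • Φ = Φ := hgΦ
    calc wl G y z = (wl G x z).map (g : V →ₗ[F] V) := by rw [← wl_smul h2 hn hx.symm hgG, e, hgz]
      _ = wl G x z := by rw [← hΦ', ← map_coann, ← sub_smul_val, hgΦ']
  -- a third point on the line
  obtain ⟨u, hu, hua⟩ := exists_mem a
  obtain ⟨v, hv, hvb⟩ := exists_mem b
  have hs : u + v ≠ 0 := fun e => hne (eq_of_pt_le (by
    rw [le_iff_of_mem hu hua, eq_neg_of_add_eq_zero_left e]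
    exact neg_mem hvb))
  set c : Sub F V 1 := pt (u + v) hs
  have hcmem : u + v ∈ c.1 := Submodule.mem_span_singleton_self _
  have hcab : c.1 ≤ a.1 ⊔ b.1 :=
    (Submodule.span_singleton_le_iff_mem _ _).mpr (add_mem (Submodule.mem_sup_left hua) (Submodule.mem_sup_right hvb))
  have hca : c ≠ a := fun e => hne.symm (eq_of_pt_le (by
    rw [le_iff_of_mem hv hvb]
    have := sub_mem (e ▸ hcmem : u + v ∈ a.1) hua
    rwa [add_sub_cancel_left] at this))
  have hcb : c ≠ b := fun e => hne (eq_of_pt_le (by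
    rw [le_iff_of_mem hu hua]
    have := sub_mem (e ▸ hcmem : u + v ∈ b.1) hvb
    rwa [add_sub_cancel_right] at this))
  have hab : a.1 ⊔ b.1 = b.1 ⊔ c.1 := eq_line hcb.symm le_sup_right hcab (finrank_line hne).le
  have hac : a.1 ⊔ b.1 = a.1 ⊔ c.1 := eq_line hca.symm le_sup_left hcab (finrank_line hne).le
  rw [← hsame b a c hne hcb (hcab.trans (sup_comm _ _).le), key a b c hca.symm hcb.symm (le_sup_right.trans hac.le),
    hsame a b c hne.symm hca hcab]

end

section

variable {F L : Type*} [Field F] [Field L] [Algebra F L] [Finite L] {M : Subgroup (L ≃ₗ[F] L)}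

/-- The quotients by points have no five-dimensional subspaces at their points. -/
theorem Over.not_five (O : Over M) (h2 : PairTrans M) (a : Sub F L 1) (P : Sub F (L ⧸ a.1) 1) :
    Module.finrank F (nb (qgrp M a) P) ≠ 5 := by
  classical
  intro h5
  haveI : Finite F := Finite.of_injective _ (algebraMap F L).injective
  haveI : Fintype F := Fintype.ofFinite F
  haveI : FiniteDimensional F L := finiteDim
  haveI : Algebra.IsSeparable F L := inferInstance
  have hn : 3 ≤ Module.finrank F L := by rw [O.finrank]; norm_num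
  set one : Sub F L 1 := pt 1 one_ne_zero with hone
  haveI : Finite (L ⧸ one.1) := Quotient.finite _
  have hU : Module.finrank F (L ⧸ one.1) = 6 := by
    have := finrank_quot one
    rw [O.finrank] at this
    omega
  have hk : 2 ≤ Module.finrank F (L ⧸ one.1) := by omega
  have hX := qgrp_antiTrans h2 (by omega) one
  have hnb : ∀ Q, Module.finrank F (nb (qgrp M one) Q) = 5 := fun Q => (finrank_nb_qgrp h2 hn one a Q P).trans h5
  -- the polarity
  let W : L ⧸ one.1 → Submodule F (L ⧸ one.1) := fun v => if h : v = 0 then ⊥ else nb (qgrp M one) (pt v h)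
  have hW : ∀ (v : L ⧸ one.1) (h : v ≠ 0), W v = nb (qgrp M one) (pt v h) := fun v h => dif_neg h
  obtain ⟨β, hβ⟩ := exists_polar W (fun x hx => by rw [hW x hx, hnb, hU])
    (fun x hx => by rw [hW x hx]; exact hX.self_le hk _ (Submodule.mem_span_singleton_self x))
    (fun x y hx hy h => by
      rw [hW x hx] at h
      rw [hW y hy]
      exact hX.nb_symm hk (a := pt x hx) (b := pt y hy) ((Submodule.span_singleton_le_iff_mem _ _).mpr h)
        (Submodule.mem_span_singleton_self x))
    (fun x y hx hy h => by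
      rw [hW x hx, hW y hy] at h
      have e := hX.nb_inj hk (by rw [hnb, hU]) h
      obtain ⟨c, -, hc⟩ := pt_eq_pt hx hy e
      exact ⟨c, hc⟩)
  let D := (Algebra.traceForm F L).toDual (traceForm_nondegenerate F L)
  let B : L →ₗ[F] L := D.symm.toLinearMap.comp (one.1.mkQ.dualMap.comp (β.comp one.1.mkQ))
  have hB : ∀ x y : L, Algebra.trace F L (B y * x) = β (one.1.mkQ y) (one.1.mkQ x) := fun x y => by
    rw [← Algebra.traceForm_apply]
    exact LinearMap.BilinForm.apply_toDual_symm_apply (hB := traceForm_nondegenerate F L) _ _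
  have hmem1 : ∀ y : L, y ∈ Set.range (algebraMap F L) → one.1.mkQ y = 0 := by
    rintro _ ⟨c, rfl⟩
    rw [Algebra.algebraMap_eq_smul_one]
    exact (Submodule.Quotient.mk_eq_zero _).mpr (Submodule.smul_mem _ _ (Submodule.mem_span_singleton_self _))
  have hnot : ∀ y : L, y ∉ Set.range (algebraMap F L) → one.1.mkQ y ≠ 0 := fun y hy h0 => hy (by
    obtain ⟨c, rfl⟩ := Submodule.mem_span_singleton.mp ((Submodule.Quotient.mk_eq_zero _).mp h0)
    exact ⟨c, Algebra.algebraMap_eq_smul_one c⟩)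
  have hB1 : ∀ y : L, y ∈ Set.range (algebraMap F L) → B y = 0 := fun y hy => by
    show D.symm (one.1.mkQ.dualMap (β (one.1.mkQ y))) = 0
    rw [hmem1 y hy, map_zero, map_zero, map_zero]
  -- its kernels are the subspaces at the lines through one
  have hker : ∀ (y : L) (hy : y ≠ 0), y ∉ Set.range (algebraMap F L) →
      pt y hy ≠ one ∧ ∀ x, x ∈ wl M one (pt y hy) ↔ Algebra.trace F L (B y * x) = 0 := by
    intro y hy hyF
    have h0 := hnot y hyF
    have hne : pt y hy ≠ one := fun e => h0 ((Submodule.Quotient.mk_eq_zero _).mpr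
      (e ▸ Submodule.mem_span_singleton_self y))
    refine ⟨hne, fun x => ?_⟩
    have e : qpt one.1 (pt y hy) (not_le_of_ne hne) = pt (one.1.mkQ y) h0 :=
      Subtype.ext ((Submodule.map_span one.1.mkQ {y}).trans (by rw [Set.image_singleton]; rfl))
    rw [wl_def one _ hne (not_le_of_ne hne), Submodule.mem_comap, e, ← hW _ h0, ← hβ _ h0, LinearMap.mem_ker, hB]
  -- the torus
  have hrel1 : ∀ t : Lˣ, Algebra.norm F (t : L) = 1 →
      ∃ l : F, B ((t⁻¹ : Lˣ) : L) = algebraMap F L l * ((t : L) * B t) := by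
    intro t ht
    by_cases htF : (t : L) ∈ Set.range (algebraMap F L)
    · refine ⟨0, ?_⟩
      rw [map_zero, zero_mul]
      refine hB1 _ ?_
      obtain ⟨c, hc⟩ := htF
      exact ⟨c⁻¹, by rw [map_inv₀, hc, Units.val_inv_eq_inv_val]⟩
    have htF' : ((t⁻¹ : Lˣ) : L) ∉ Set.range (algebraMap F L) := by
      rintro ⟨c, hc⟩
      exact htF ⟨c⁻¹, by rw [map_inv₀, hc, Units.val_inv_eq_inv_val, inv_inv]⟩
    obtain ⟨hne, h1⟩ := hker (t : L) t.ne_zero htF
    obtain ⟨hne', h1'⟩ := hker ((t⁻¹ : Lˣ) : L) (Units.ne_zero _) htF'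
    have hM := O.mul t ht
    have ea : (mulE t : L ≃ₗ[F] L) • pt ((t⁻¹ : Lˣ) : L) (Units.ne_zero _) = one := by
      rw [smul_pt]
      refine Subtype.ext ?_
      show F ∙ ((t : L) * ((t⁻¹ : Lˣ) : L)) = F ∙ (1 : L)
      rw [Units.mul_inv]
    have eb : (mulE t : L ≃ₗ[F] L) • one = pt (t : L) t.ne_zero := by
      rw [hone, smul_pt]
      refine Subtype.ext ?_
      show F ∙ ((t : L) * 1) = F ∙ (t : L)
      rw [mul_one]
    have hwl : wl M one (pt (t : L) t.ne_zero) =
        (wl M one (pt ((t⁻¹ : Lˣ) : L) (Units.ne_zero _))).map ((mulE t : L ≃ₗ[F] L) : L →ₗ[F] L) := by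
      rw [← wl_swap h2 hn hne'.symm (by
        rw [wl_def one _ hne' (not_le_of_ne hne'), comap_mkQ_finrank, hnb, O.finrank]), ← wl_smul h2 hn hne'.symm hM,
        ea, eb]
    have hiff : ∀ x, Algebra.trace F L (B t * x) = 0 → Algebra.trace F L (B ((t⁻¹ : Lˣ) : L) * ((t⁻¹ : Lˣ) : L) * x) = 0 := by
      intro x hx
      rw [← h1 x, hwl] at hx
      obtain ⟨z, hz, rfl⟩ := hx
      have := (h1' z).mp hz
      rwa [show B ((t⁻¹ : Lˣ) : L) * ((t⁻¹ : Lˣ) : L) * (((mulE t : L ≃ₗ[F] L) : L →ₗ[F] L) z) =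
        B ((t⁻¹ : Lˣ) : L) * z by
          rw [LinearEquiv.coe_coe, mulE_apply, mul_assoc, Units.inv_mul_cancel_left]]
    have hBt : B t ≠ 0 := fun e => (goodL_wl h2 hn hne).2.2.1 (eq_top_iff.mpr fun x _ => (h1 x).mpr (by
      rw [e, zero_mul, map_zero]))
    obtain ⟨x₀, hx₀⟩ : ∃ x₀, Algebra.trace F L (B t * x₀) ≠ 0 := by
      by_contra h
      push Not at h
      exact hBt ((traceForm_nondegenerate F L).1 _ h)
    set r := Algebra.trace F L (B ((t⁻¹ : Lˣ) : L) * ((t⁻¹ : Lˣ) : L) * x₀) / Algebra.trace F L (B t * x₀)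
    refine ⟨r, ?_⟩
    have hzero : B ((t⁻¹ : Lˣ) : L) * ((t⁻¹ : Lˣ) : L) - r • B t = 0 := by
      refine (traceForm_nondegenerate F L).1 _ fun x => ?_
      rw [Algebra.traceForm_apply, sub_mul, map_sub, smul_mul_assoc, map_smul, smul_eq_mul]
      set cx := Algebra.trace F L (B t * x) / Algebra.trace F L (B t * x₀)
      have h0 := hiff (x - cx • x₀) (by
        rw [mul_sub, map_sub, mul_smul_comm, map_smul, smul_eq_mul, div_mul_cancel₀ _ hx₀, sub_self])
      rw [mul_sub, map_sub, mul_smul_comm, map_smul, smul_eq_mul] at h0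
      simp only [r, cx] at h0 ⊢
      field_simp at h0 ⊢
      linear_combination h0
    rw [sub_eq_zero, Algebra.smul_def] at hzero
    rw [mul_left_comm, ← hzero, mul_left_comm, Units.mul_inv, mul_one]
  -- seventh powers
  have hrel : ∀ s : Lˣ, ∃ l : F, B (((s ^ 7)⁻¹ : Lˣ) : L) =
      algebraMap F L l * (((s ^ 7 : Lˣ) : L) * B ((s ^ 7 : Lˣ) : L)) := by
    intro s
    have hc0 : Algebra.norm F (s : L) ≠ 0 := Algebra.norm_ne_zero_iff.mpr s.ne_zero
    set c := Algebra.norm F (s : L) with hc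
    let cu : Lˣ := Units.map (algebraMap F L : F →* L) (Units.mk0 c hc0)
    obtain ⟨l, hl⟩ := hrel1 (s ^ 7 * cu⁻¹) (by
      rw [Units.val_mul, Units.val_pow_eq_pow_val, map_mul, map_pow, Units.val_inv_eq_inv_val]
      show c ^ 7 * Algebra.norm F ((algebraMap F L c)⁻¹) = 1
      rw [← map_inv₀, norm_algebraMap' O.finrank, inv_pow, mul_inv_cancel₀ (pow_ne_zero _ hc0)])
    refine ⟨c⁻¹ * c⁻¹ * c⁻¹ * l, ?_⟩
    have e1 : ((s ^ 7 * cu⁻¹ : Lˣ) : L) = c⁻¹ • ((s ^ 7 : Lˣ) : L) := by
      rw [Units.val_mul, Units.val_inv_eq_inv_val, Algebra.smul_def, map_inv₀, mul_comm]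
      rfl
    have e2 : (((s ^ 7 * cu⁻¹)⁻¹ : Lˣ) : L) = c • (((s ^ 7)⁻¹ : Lˣ) : L) := by
      rw [Units.val_inv_eq_inv_val, e1, Units.val_inv_eq_inv_val, Algebra.smul_def, Algebra.smul_def, map_inv₀,
        mul_inv, inv_inv]
    rw [e1, e2, map_smul, map_smul] at hl
    have h3 := congrArg (fun z => c⁻¹ • z) hl
    simp only [inv_smul_smul₀ hc0] at h3
    rw [h3, Algebra.smul_def, Algebra.smul_def, Algebra.smul_def, map_mul, map_mul, map_mul]
    ring
  -- the linear map as a polynomial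
  set q := Fintype.card F with hq
  have hqN : Nat.card F = q := Nat.card_eq_fintype_card
  let bas := Module.finBasis F L
  let c : Fin 7 → L := fun i => ∑ k, B (bas k) * (D.symm (bas.coord k)) ^ q ^ i.val
  have hpoly : ∀ y : L, B y = ∑ i : Fin 7, c i * y ^ q ^ i.val := by
    intro y
    conv_lhs => rw [← bas.sum_repr y]
    rw [map_sum]
    simp only [c, Finset.sum_mul]
    rw [Finset.sum_comm]
    refine Finset.sum_congr rfl fun k _ => ?_
    rw [map_smul, Algebra.smul_def, show (bas.repr y) k = Algebra.trace F L (D.symm (bas.coord k) * y) by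
      rw [← Algebra.traceForm_apply]
      exact (LinearMap.BilinForm.apply_toDual_symm_apply (hB := traceForm_nondegenerate F L) (bas.coord k) y).symm,
      FiniteField.algebraMap_trace_eq_sum_pow, congrArg Finset.range O.finrank, Finset.sum_mul, hqN, Finset.sum_range]
    exact Finset.sum_congr rfl fun i _ => by rw [mul_pow]; ring
  have hcardL : Nat.card L = q ^ 7 := by
    rw [Module.natCard_eq_pow_finrank (K := F) (V := L), O.finrank, hqN]
  haveI : Fintype L := Fintype.ofFinite L
  have hwrap : ∀ (i : Fin 7) (x : L), (x ^ q ^ i.val) ^ q = x ^ q ^ ((i.val + 1) % 7) := by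
    intro i x
    rw [← pow_mul, ← pow_succ]
    rcases Nat.lt_or_ge (i.val + 1) 7 with h | h
    · rw [Nat.mod_eq_of_lt h]
    · rw [show i.val + 1 = 7 by omega, Nat.mod_self, pow_zero, pow_one, ← hcardL, Nat.card_eq_fintype_card,
        FiniteField.pow_card]
  have hfrob : ∀ y : L, B y ^ q = ∑ i : Fin 7, c i ^ q * y ^ q ^ ((i.val + 1) % 7) := by
    intro y
    rw [hpoly]
    show FiniteField.frobeniusAlgHom F L (∑ i : Fin 7, c i * y ^ q ^ i.val) = _
    rw [map_sum]
    exact Finset.sum_congr rfl fun i _ => by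
      show (c i * y ^ q ^ i.val) ^ q = _
      rw [mul_pow, hwrap]
  -- the equation as a relation of characters
  let coef : Bool × Fin 7 × Fin 7 → L := fun k =>
    if k.1 then c k.2.1 ^ q * c k.2.2 else -(c k.2.1 * c k.2.2 ^ q)
  let χ : Bool × Fin 7 × Fin 7 → (Lˣ →* L) := fun k => (Units.coeHom L).comp
    (powMonoidHom (7 * (q ^ ea k + q ^ eb k)) * (powMonoidHom (7 * q ^ en k))⁻¹)
  have hsum : ∀ s : Lˣ, ∑ k, coef k * χ k s = 0 := by
    intro s
    obtain ⟨l, hl⟩ := hrel s
    set t : L := ((s ^ 7 : Lˣ) : L)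
    set u : L := (((s ^ 7)⁻¹ : Lˣ) : L) with hu
    have hχ : ∀ k, χ k s = t ^ q ^ ea k * t ^ q ^ eb k * u ^ q ^ en k := fun k => by
      show ((s ^ (7 * (q ^ ea k + q ^ eb k)) * (s ^ (7 * q ^ en k))⁻¹ : Lˣ) : L) = _
      rw [pow_mul, pow_mul, ← inv_pow, Units.val_mul, Units.val_pow_eq_pow_val, Units.val_pow_eq_pow_val, pow_add]
      simp only [t, u, Units.val_pow_eq_pow_val]
    have hl' : B u ^ q = algebraMap F L l * (t ^ q * B t ^ q) := by
      rw [hl, mul_pow, mul_pow, ← map_pow, FiniteField.pow_card]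
    have hE : t ^ q * B t ^ q * B u - t * B t * B u ^ q = 0 := by rw [hl', hl]; ring
    rw [Fintype.sum_prod_type, Fintype.sum_bool, Fintype.sum_prod_type, Fintype.sum_prod_type]
    simp only [coef, hχ, ea, eb, en, if_true, Bool.false_eq_true, if_false, pow_one, pow_zero, neg_mul,
      Finset.sum_neg_distrib]
    rw [← sub_eq_add_neg, ← hE, hfrob t, hfrob u, hpoly t, hpoly u]
    simp only [Finset.mul_sum, Finset.sum_mul]
    congr 1
    · rw [Finset.sum_comm]
      exact Finset.sum_congr rfl fun i _ => Finset.sum_congr rfl fun j _ => by ring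
    · rw [Finset.sum_comm]
      exact Finset.sum_congr rfl fun i _ => Finset.sum_congr rfl fun j _ => by ring
  -- separation
  obtain ⟨g, hg⟩ := IsCyclic.exists_generator (α := Lˣ)
  have hord : orderOf g = q ^ 7 - 1 := by
    rw [orderOf_eq_card_of_forall_mem_zpowers hg, Nat.card_units, hcardL]
  have hsep : ∀ (i : Fin 7) k, Rest i k → χ k ≠ χ (true, i, i) := by
    intro i k hk e
    have e1 : g ^ (7 * (q ^ ea k + q ^ eb k)) * (g ^ (7 * q ^ en k))⁻¹ =
        g ^ (7 * (q ^ ea (true, i, i) + q ^ eb (true, i, i))) * (g ^ (7 * q ^ en (true, i, i)))⁻¹ :=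
      Units.ext (DFunLike.congr_fun e g)
    rw [mul_inv_eq_iff_eq_mul, mul_comm _ (g ^ (7 * q ^ en k)), ← mul_assoc, eq_mul_inv_iff_mul_eq, ← pow_add,
      ← pow_add, pow_eq_pow_iff_modEq, hord] at e1
    refine sep_expo (hq ▸ Fintype.one_lt_card) i k hk ?_
    convert e1.symm using 1 <;> ring
  have hzero1 : ∀ i : Fin 7, i.val ∈ [2, 3, 4, 5] → c i = 0 := by
    intro i hi
    have := coeff_zero χ coef hsum (true, i, i) fun k hk _ => hsep i k ⟨hk, Or.inl hi⟩
    simp only [coef, if_true, mul_eq_zero] at this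
    exact this.elim eq_zero_of_pow_eq_zero id
  have hq0 : q ≠ 0 := Fintype.card_ne_zero
  have hzero : ∀ i : Fin 7, c i = 0 := by
    intro i
    by_cases hi : i.val ∈ [2, 3, 4, 5]
    · exact hzero1 i hi
    have hin : ∀ j : Fin 7, c j ≠ 0 → j.val ∈ [0, 1, 6] := by
      intro j hj
      have := mt (hzero1 j) hj
      simp only [List.mem_cons, List.not_mem_nil, or_false] at this ⊢
      omega
    have := coeff_zero χ coef hsum (true, i, i) fun k hk hck => hsep i k ⟨hk, Or.inr ⟨hin _ fun h0 => hck (by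
      simp only [coef, h0]; split_ifs <;> simp [hq0]), hin _ fun h0 => hck (by
      simp only [coef, h0]; split_ifs <;> simp [hq0])⟩⟩
    simp only [coef, if_true, mul_eq_zero] at this
    exact this.elim eq_zero_of_pow_eq_zero id
  -- but the polarity is not zero
  haveI : Nontrivial (L ⧸ one.1) := Module.nontrivial_of_finrank_pos (R := F) (by omega)
  obtain ⟨v, hv⟩ := exists_ne (0 : L ⧸ one.1)
  obtain ⟨y, rfl⟩ := one.1.mkQ_surjective v
  have hy0 : B y = 0 := by rw [hpoly]; exact Finset.sum_eq_zero fun i _ => by rw [hzero, zero_mul]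
  have htop : W (one.1.mkQ y) = ⊤ := by
    rw [← hβ _ hv]
    refine eq_top_iff.mpr fun z _ => ?_
    obtain ⟨x, rfl⟩ := one.1.mkQ_surjective z
    rw [LinearMap.mem_ker, ← hB, hy0, zero_mul, map_zero]
  rw [hW _ hv] at htop
  have := hnb (pt _ hv)
  rw [htop, finrank_top, hU] at this
  omega

end

end CfsgLib.SingerSeven
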