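/-
In a group doubly transitive on points of a space of dimension at least three one transvection gives all.
-/
import Cfsg.Agent.Lib.SingerFive.AllTransv

set_option autoImplicit false
set_option linter.unusedSectionVars false
set_option linter.style.haveILetI false

namespace CfsgLib.SingerSeven

open Module
open CfsgLib.SingerFive
open CfsgLib.MaxSub.ExtLin (UIn TIn)

variable {F V : Type*} [Field F] [AddCommGroup V] [Module F V] [Finite V] {G : Subgroup (V ≃ₗ[F] V)}

/-- One transvection gives all. -/
theorem all_transvections_of_three (h2 : PairTrans G) (h3n : 3 ≤ finrank F V) {u₀ : V} {φ₀ : Dual F V} (hu₀ : u₀ ≠ 0)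
    (hφ₀ : φ₀ ≠ 0) (hφu : φ₀ u₀ = 0) (hT : TIn G u₀ φ₀) (u : V) (φ : Dual F V) (hφ : φ u = 0) :
    TIn G u φ := by
  classical
  haveI : FiniteDimensional F V := Module.Finite.of_finite
  haveI : Nontrivial V := ⟨u₀, 0, hu₀⟩
  haveI : Finite F := finite_field (V := V)
  haveI : Finite (Dual F V) := Module.finite_of_finite F
  by_cases hu : u = 0
  · exact ⟨1, one_mem G, fun x => by simp [hu]⟩
  by_cases hφz : φ = 0
  · exact ⟨1, one_mem G, fun x => by simp [hφz]⟩
  obtain ⟨d, hn⟩ : ∃ d, finrank F V = d + 1 := ⟨finrank F V - 1, by omega⟩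
  have hn2 : 2 ≤ finrank F V := by omega
  set m := Nat.card (coeffs G u₀ φ₀ hφu) with hm
  have hm2 : 2 ≤ m := by
    rw [hm]
    refine Finite.one_lt_card_iff_nontrivial.mpr ⟨⟨0, zero_mem _⟩, ⟨1, ?_⟩, fun e => zero_ne_one (congrArg Subtype.val e)⟩
    show TIn G u₀ _
    rw [one_smul]; exact hT
  have hmall : ∀ (ψ : Dual F V) (hψ : ψ ≠ 0) (h : ψ u = 0), Nat.card (coeffs G u ψ h) = m := fun ψ hψ h =>
    le_antisymm (card_coeffs_le h2 hn2 hu hu₀ hψ hφ₀ h hφu) (card_coeffs_le h2 hn2 hu₀ hu hφ₀ hψ hφu h)
  let K : Submodule F (Dual F V) := LinearMap.ker (LinearMap.applyₗ u)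
  have hKu : ∀ χ : K, (χ : Dual F V) u = 0 := fun χ => χ.2
  let A : AddSubgroup K :=
    { carrier := {χ | TIn G u (χ : Dual F V)}
      zero_mem' := ⟨1, one_mem G, fun x => by simp⟩
      add_mem' := by
        intro a b ha hb
        have := UIn.mul ha hb
        have e : (a : Dual F V).smulRight u + (b : Dual F V).smulRight u + (a : Dual F V).smulRight u ∘ₗ
            (b : Dual F V).smulRight u = ((a + b : K) : Dual F V).smulRight u :=
          LinearMap.ext fun x => by simp [add_smul, hKu]
        show TIn G u _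
        rw [TIn, ← e]; exact this
      neg_mem' := by
        intro a ha
        have := UIn.neg ha (fun x => by simp [hKu])
        have e : -(a : Dual F V).smulRight u = ((-a : K) : Dual F V).smulRight u := LinearMap.ext fun x => by simp
        show TIn G u _
        rw [TIn, ← e]; exact this }
  have hK : Nat.card K = Nat.card F ^ d := by
    rw [Module.natCard_eq_pow_finrank (K := F)]
    congr 1
    have e1 := (LinearMap.applyₗ u : Dual F V →ₗ[F] F).finrank_range_add_finrank_ker
    obtain ⟨f, hf⟩ := Module.Projective.exists_dual_ne_zero F hu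
    have hr : LinearMap.range (LinearMap.applyₗ u : Dual F V →ₗ[F] F) = ⊤ :=
      LinearMap.range_eq_top.mpr fun c => ⟨(c / f u) • f, by
        show ((c / f u) • f) u = c
        rw [LinearMap.smul_apply, smul_eq_mul, div_mul_cancel₀ _ hf]⟩
    rw [hr, finrank_top, Module.finrank_self, Subspace.dual_finrank_eq, hn] at e1
    show finrank F (LinearMap.ker (LinearMap.applyₗ u : Dual F V →ₗ[F] F)) = d
    omega
  -- count the transvections at `u`
  choose r hr hP using fun P : Sub F K 1 => exists_pt P
  have hr' : ∀ P, ((r P : K) : Dual F V) ≠ 0 := fun P e => hr P (Subtype.ext e)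
  let C := fun P : Sub F K 1 => {c : coeffs G u (r P : Dual F V) (hKu _) // c ≠ 0}
  have hC : ∀ P, Nat.card (C P) = m - 1 := fun P => by
    haveI := Fintype.ofFinite (coeffs G u (r P : Dual F V) (hKu _))
    rw [← hmall _ (hr' P) (hKu _), Nat.card_eq_fintype_card, Nat.card_eq_fintype_card, Fintype.card_subtype_compl,
      Fintype.card_subtype_eq]
  have hsig : Nat.card {a : A // a ≠ 0} = Nat.card (Sub F K 1) * (m - 1) := by
    haveI : Fintype (Sub F K 1) := Fintype.ofFinite _
    have hs : Nat.card (Σ P, C P) = Nat.card (Sub F K 1) * (m - 1) := by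
      rw [Nat.card_sigma, Finset.sum_congr rfl (fun P _ => hC P), Finset.sum_const, Finset.card_univ, smul_eq_mul,
        Nat.card_eq_fintype_card]
    rw [← hs]
    refine (Nat.card_eq_of_bijective (fun x : Σ P, C P => (⟨⟨(x.2.1 : F) • r x.1, x.2.1.2⟩, fun e => ?_⟩ :
      {a : A // a ≠ 0})) ⟨?_, ?_⟩).symm
    · rcases smul_eq_zero.mp (congrArg Subtype.val e) with h | h
      · exact x.2.2 (Subtype.ext h)
      · exact hr _ h
    · rintro ⟨P, c, hc⟩ ⟨P', c', hc'⟩ e
      have h1 : (c : F) • r P = (c' : F) • r P' := congrArg (fun a : {a : A // a ≠ 0} => (a.1 : K)) e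
      have hPP : P = P' := by
        rw [hP P, hP P']
        refine Subtype.ext ?_
        show F ∙ r P = F ∙ r P'
        rw [← Submodule.span_singleton_smul_eq (Ne.isUnit (fun h => hc (Subtype.ext h))) (r P), h1,
          Submodule.span_singleton_smul_eq (Ne.isUnit (fun h => hc' (Subtype.ext h)))]
      subst hPP
      have : c = c' := Subtype.ext (smul_left_injective F (hr P) h1)
      subst this
      rfl
    · rintro ⟨⟨χ, hχ⟩, hne⟩
      have hχ0 : χ ≠ 0 := fun e => hne (Subtype.ext e)
      obtain ⟨c, hc, he⟩ := pt_eq_pt (hr (pt χ hχ0)) hχ0 (hP _).symm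
      refine ⟨⟨pt χ hχ0, ⟨c, ?_⟩, fun e => hc (congrArg Subtype.val e)⟩, Subtype.ext (Subtype.ext he.symm)⟩
      show TIn G u _
      have : ((χ : K) : Dual F V) = c • (r (pt χ hχ0) : Dual F V) := by rw [← Submodule.coe_smul, ← he]
      rw [← this]
      exact hχ
  have hA : Nat.card A = Nat.card (Sub F K 1) * (m - 1) + 1 := by
    haveI := Fintype.ofFinite A
    have : Nat.card {a : A // a ≠ 0} = Nat.card A - 1 := by
      rw [Nat.card_eq_fintype_card, Nat.card_eq_fintype_card, Fintype.card_subtype_compl, Fintype.card_subtype_eq]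
    rw [← hsig, this, Nat.sub_add_cancel Nat.card_pos]
  obtain ⟨k, hk⟩ := A.card_addSubgroup_dvd_card
  have hpts := card_pts_space (F := F) (V := K)
  rw [hK, Nat.card_units] at hpts
  rw [hK] at hk
  set R := Nat.card (Sub F K 1)
  set q := Nat.card F
  have hq : 2 ≤ q := Finite.one_lt_card
  have hmq : m ≤ q := Nat.card_le_card_of_injective _ Subtype.val_injective
  obtain ⟨q', hq'⟩ : ∃ q', q = q' + 1 := ⟨q - 1, by omega⟩
  have hpts' : R * q' + 1 = q ^ d := by
    have h0 : 0 < q ^ d := pow_pos (by omega) d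
    have hq'' : q - 1 = q' := by omega
    rw [hq''] at hpts
    omega
  have hk1 : k = 1 := by
    rw [hA] at hk
    have hk0 : k ≠ 0 := fun h => by rw [h, mul_zero] at hk; omega
    have hdvd : R ∣ k - 1 := by
      refine (Nat.dvd_add_right (dvd_mul_of_dvd_left (dvd_mul_right R (m - 1)) k)).mp
        (?_ : R ∣ R * (m - 1) * k + (k - 1))
      refine ⟨q', ?_⟩
      have : (R * (m - 1) + 1) * k = R * (m - 1) * k + k := by ring
      omega
    by_contra hne
    have h1 := Nat.le_of_dvd (by omega) hdvd
    have h3 : (R * (m - 1) + 1) * k ≥ (R + 1) * (R + 1) :=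
      Nat.mul_le_mul (by have := Nat.mul_le_mul_left R (show 1 ≤ m - 1 by omega); omega) (by omega)
    have h4 : q' ≤ R := by
      have hq4 : q ^ 2 ≤ q ^ d := Nat.pow_le_pow_right (by omega) (by omega)
      rw [hq'] at hq4 hpts'
      nlinarith
    nlinarith
  have hmq' : m = q := by
    rw [hA, hk1, mul_one] at hk
    have hR : 0 < R := by
      by_contra h
      rw [show R = 0 by omega, zero_mul] at hpts'
      have := Nat.one_lt_pow (show d ≠ 0 by omega) (show 1 < q by omega)
      omega
    have : R * (m - 1) = R * q' := by omega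
    have := Nat.eq_of_mul_eq_mul_left hR this
    omega
  have hfull : coeffs G u φ hφ = ⊤ := AddSubgroup.eq_top_of_card_eq _ (by rw [hmall φ hφz hφ, hmq'])
  have : TIn G u ((1 : F) • φ) := (hfull ▸ AddSubgroup.mem_top (1 : F) : (1 : F) ∈ coeffs G u φ hφ)
  rwa [one_smul] at this

end CfsgLib.SingerSeven
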