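/-
An antiflag transitive group of a six-space has no four-dimensional subspaces at its points.
-/
import Cfsg.Agent.Lib.SingerSeven.Tools

set_option autoImplicit false
set_option linter.unusedSectionVars false
set_option linter.style.haveILetI false
set_option maxHeartbeats 1000000

namespace CfsgLib.SingerSeven

open Module
open CfsgLib.SingerFive (Sub pt exists_pt smul_pt dualE sub_smul_val finite_field)

variable {F U : Type*} [Field F] [AddCommGroup U] [Module F U] [Finite U] {X : Subgroup (U ≃ₗ[F] U)}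

/-- The situation to be excluded. -/
structure FourSys (X : Subgroup (U ≃ₗ[F] U)) : Prop where
  anti : AntiTrans X
  dim : finrank F U = 6
  four : ∀ a : Sub F U 1, finrank F (nb X a) = 4

variable [FiniteDimensional F U] [Finite F]

theorem FourSys.two_le (h : FourSys X) : 2 ≤ finrank F U := by rw [h.dim]; norm_num

theorem FourSys.symm (h : FourSys X) {a b : Sub F U 1} (hb : b.1 ≤ nb X a) : a.1 ≤ nb X b := h.anti.nb_symm h.two_le hb

theorem FourSys.self (h : FourSys X) (a : Sub F U 1) : a.1 ≤ nb X a := h.anti.self_le h.two_le a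

/-- The common neighbours of two points are neighbours of their line. -/
theorem FourSys.inf_le (h : FourSys X) {P Q R : Sub F U 1} (hR : R.1 ≤ P.1 ⊔ Q.1) : nb X P ⊓ nb X Q ≤ nb X R :=
  le_of_pts fun t ht => h.symm (hR.trans (sup_le (h.symm (ht.trans inf_le_left)) (h.symm (ht.trans inf_le_right))))

theorem FourSys.two_le_inf (h : FourSys X) (P Q : Sub F U 1) : 2 ≤ finrank F ↥(nb X P ⊓ nb X Q) := by
  have h1 := Submodule.finrank_sup_add_finrank_inf_eq (nb X P) (nb X Q)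
  have h2 := Submodule.finrank_le (nb X P ⊔ nb X Q)
  rw [h.four, h.four] at h1
  rw [h.dim] at h2
  omega

/-- Double counting of the common neighbours. -/
theorem FourSys.count (h : FourSys X) (p s₀ : Sub F U 1) (hs₀ : ¬ s₀.1 ≤ nb X p)
    [Fintype {z : Sub F U 1 // z.1 ≤ nb X p ∧ ¬ z.1 ≤ p.1}] :
    (Nat.card F ^ 6 - Nat.card F ^ 4) * (Nat.card F ^ finrank F ↥(nb X p ⊓ nb X s₀) - 1) +
      (Nat.card F - 1) * ∑ z : {z : Sub F U 1 // z.1 ≤ nb X p ∧ ¬ z.1 ≤ p.1},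
        Nat.card F ^ finrank F ↥(nb X p ⊓ nb X z.1) =
      (Nat.card F ^ 4 - Nat.card F) * Nat.card F ^ 4 := by
  classical
  haveI : Fintype (Sub F U 1) := Fintype.ofFinite _
  set q := Nat.card F
  set m := finrank F ↥(nb X p ⊓ nb X s₀)
  have hm : ∀ s : Sub F U 1, ¬ s.1 ≤ nb X p → finrank F ↥(nb X p ⊓ nb X s) = m := fun s hs => by
    obtain ⟨g, hg, hgp, rfl⟩ := (h.anti.good h.two_le p).2.2.2 s₀ s hs₀ hs
    conv_lhs => rw [← hgp]
    rw [h.anti.nb_smul h.two_le hg, h.anti.nb_smul h.two_le hg,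
      ← Submodule.map_inf (g : U →ₗ[F] U) g.injective, LinearEquiv.finrank_map_eq]
  -- pairs of a point outside and a common neighbour
  have hpairs : Nat.card (Σ s : {s : Sub F U 1 // ¬ s.1 ≤ nb X p}, {z : Sub F U 1 // z.1 ≤ nb X p ⊓ nb X s.1}) =
      Nat.card (Σ z : {z : Sub F U 1 // z.1 ≤ nb X p ∧ ¬ z.1 ≤ p.1},
        {s : Sub F U 1 // s.1 ≤ nb X z.1 ∧ ¬ s.1 ≤ nb X p ⊓ nb X z.1}) :=
    Nat.card_congr
      { toFun := fun x => ⟨⟨x.2.1, x.2.2.trans inf_le_left, fun e => x.1.2 (h.symm (by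
            have := x.2.2.trans inf_le_right
            rwa [eq_of_pt_le e] at this))⟩,
          x.1.1, h.symm (x.2.2.trans inf_le_right), fun e => x.1.2 (e.trans inf_le_left)⟩
        invFun := fun x => ⟨⟨x.2.1, fun e => x.2.2.2 (le_inf e x.2.2.1)⟩, x.1.1, le_inf x.1.2.1 (h.symm x.2.2.1)⟩
        left_inv := fun _ => rfl
        right_inv := fun _ => rfl }
  rw [Nat.card_sigma, Nat.card_sigma] at hpairs
  have hL : (∑ s : {s : Sub F U 1 // ¬ s.1 ≤ nb X p}, Nat.card {z : Sub F U 1 // z.1 ≤ nb X p ⊓ nb X s.1}) * (q - 1) +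
      Nat.card {s : Sub F U 1 // ¬ s.1 ≤ nb X p} = Nat.card {s : Sub F U 1 // ¬ s.1 ≤ nb X p} * q ^ m := by
    rw [Finset.sum_mul, Nat.card_eq_fintype_card (α := {s : Sub F U 1 // ¬ s.1 ≤ nb X p}), ← Finset.card_univ,
      Finset.card_eq_sum_ones, ← Finset.sum_add_distrib, Finset.sum_congr rfl fun s _ => by rw [card_pts_dim, hm s.1 s.2],
      Finset.sum_const, Finset.sum_const, smul_eq_mul, smul_eq_mul, mul_one]
  have hR : (∑ z : {z : Sub F U 1 // z.1 ≤ nb X p ∧ ¬ z.1 ≤ p.1},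
      Nat.card {s : Sub F U 1 // s.1 ≤ nb X z.1 ∧ ¬ s.1 ≤ nb X p ⊓ nb X z.1}) * (q - 1) +
      ∑ z : {z : Sub F U 1 // z.1 ≤ nb X p ∧ ¬ z.1 ≤ p.1}, q ^ finrank F ↥(nb X p ⊓ nb X z.1) =
      Nat.card {z : Sub F U 1 // z.1 ≤ nb X p ∧ ¬ z.1 ≤ p.1} * q ^ 4 := by
    rw [Finset.sum_mul, ← Finset.sum_add_distrib,
      Finset.sum_congr rfl fun z _ => by rw [card_pts_diff inf_le_right, h.four],
      Finset.sum_const, smul_eq_mul, Finset.card_univ,
      Nat.card_eq_fintype_card (α := {z : Sub F U 1 // z.1 ≤ nb X p ∧ ¬ z.1 ≤ p.1})]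
  have hN : Nat.card {s : Sub F U 1 // ¬ s.1 ≤ nb X p} * (q - 1) + q ^ 4 = q ^ 6 := by
    have h1 := card_pts_diff (L := (⊤ : Submodule F U)) (L' := nb X p) le_top
    rw [h.four, finrank_top, h.dim] at h1
    rw [← h1, Nat.card_congr (Equiv.subtypeEquivRight fun s : Sub F U 1 =>
      (and_iff_right (le_top : s.1 ≤ (⊤ : Submodule F U))).symm)]
  have hZ : Nat.card {z : Sub F U 1 // z.1 ≤ nb X p ∧ ¬ z.1 ≤ p.1} * (q - 1) + q = q ^ 4 := by
    have h1 := card_pts_diff (L := nb X p) (L' := p.1) (h.self p)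
    rwa [h.four, p.2, pow_one] at h1
  rw [hpairs] at hL
  set A := ∑ z : {z : Sub F U 1 // z.1 ≤ nb X p ∧ ¬ z.1 ≤ p.1},
      Nat.card {s : Sub F U 1 // s.1 ≤ nb X z.1 ∧ ¬ s.1 ≤ nb X p ⊓ nb X z.1}
  set S := ∑ z : {z : Sub F U 1 // z.1 ≤ nb X p ∧ ¬ z.1 ≤ p.1}, q ^ finrank F ↥(nb X p ⊓ nb X z.1)
  set N := Nat.card {s : Sub F U 1 // ¬ s.1 ≤ nb X p}
  set Z := Nat.card {z : Sub F U 1 // z.1 ≤ nb X p ∧ ¬ z.1 ≤ p.1}
  obtain ⟨M, hM⟩ : ∃ M, q ^ m = M + 1 := ⟨q ^ m - 1, by have := Nat.one_le_pow m q Nat.card_pos; omega⟩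
  rw [hM] at hL ⊢
  rw [Nat.add_sub_cancel, show q ^ 6 - q ^ 4 = N * (q - 1) by omega, show q ^ 4 - q = Z * (q - 1) by omega]
  have hA : A * (q - 1) = N * M := by rw [mul_add, mul_one] at hL; omega
  calc N * (q - 1) * M + (q - 1) * S = (q - 1) * (A * (q - 1) + S) := by rw [hA]; ring
    _ = Z * (q - 1) * q ^ 4 := by rw [hR]; ring

/-- Two points outside each other's subspace have exactly a line of common neighbours, and the excess is known. -/
theorem FourSys.excess (h : FourSys X) (p : Sub F U 1) [Fintype {z : Sub F U 1 // z.1 ≤ nb X p ∧ ¬ z.1 ≤ p.1}] :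
    (∀ s : Sub F U 1, ¬ s.1 ≤ nb X p → finrank F ↥(nb X p ⊓ nb X s) = 2) ∧
    ∑ z : {z : Sub F U 1 // z.1 ≤ nb X p ∧ ¬ z.1 ≤ p.1},
      (Nat.card F ^ finrank F ↥(nb X p ⊓ nb X z.1) - Nat.card F ^ 2) = Nat.card F ^ 3 * (Nat.card F ^ 2 - 1) := by
  classical
  set q := Nat.card F
  have hq : 2 ≤ q := Finite.one_lt_card
  obtain ⟨c, hc⟩ : ∃ c, q = c + 2 := ⟨q - 2, by omega⟩
  have hlow : ∀ z : {z : Sub F U 1 // z.1 ≤ nb X p ∧ ¬ z.1 ≤ p.1}, q ^ 2 ≤ q ^ finrank F ↥(nb X p ⊓ nb X z.1) :=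
    fun z => Nat.pow_le_pow_right (by omega) (h.two_le_inf p z.1)
  set T := ∑ z : {z : Sub F U 1 // z.1 ≤ nb X p ∧ ¬ z.1 ≤ p.1}, (q ^ finrank F ↥(nb X p ⊓ nb X z.1) - q ^ 2) with hT
  set Z := Fintype.card {z : Sub F U 1 // z.1 ≤ nb X p ∧ ¬ z.1 ≤ p.1}
  have hsum : ∑ z : {z : Sub F U 1 // z.1 ≤ nb X p ∧ ¬ z.1 ≤ p.1}, q ^ finrank F ↥(nb X p ⊓ nb X z.1) = T + Z * q ^ 2 := by
    rw [hT, show Z * q ^ 2 = ∑ _z : {z : Sub F U 1 // z.1 ≤ nb X p ∧ ¬ z.1 ≤ p.1}, q ^ 2 by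
      rw [Finset.sum_const, Finset.card_univ, smul_eq_mul], ← Finset.sum_add_distrib]
    exact Finset.sum_congr rfl fun z _ => (Nat.sub_add_cancel (hlow z)).symm
  have hZ : Z * (q - 1) + q = q ^ 4 := by
    have h1 := card_pts_diff (L := nb X p) (L' := p.1) (h.self p)
    rwa [h.four, p.2, pow_one, Nat.card_eq_fintype_card (α := {z : Sub F U 1 // z.1 ≤ nb X p ∧ ¬ z.1 ≤ p.1})] at h1
  have key : ∀ s : Sub F U 1, ¬ s.1 ≤ nb X p → finrank F ↥(nb X p ⊓ nb X s) = 2 ∧ T = q ^ 3 * (q ^ 2 - 1) := by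
    intro s hs
    have h1 := h.count p s hs
    rw [hsum] at h1
    change (q ^ 6 - q ^ 4) * (q ^ finrank F ↥(nb X p ⊓ nb X s) - 1) + (q - 1) * (T + Z * q ^ 2) = (q ^ 4 - q) * q ^ 4 at h1
    have h2 := h.two_le_inf p s
    set m := finrank F ↥(nb X p ⊓ nb X s)
    have hm : m = 2 := by
      by_contra hne
      have h3 : q ^ 3 - 1 ≤ q ^ m - 1 := Nat.sub_le_sub_right (Nat.pow_le_pow_right (by omega) (by omega)) 1
      have h4 : (q ^ 6 - q ^ 4) * (q ^ 3 - 1) + (q - 1) * (Z * q ^ 2) ≤ (q ^ 4 - q) * q ^ 4 := by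
        rw [← h1]
        exact Nat.add_le_add (Nat.mul_le_mul_left _ h3) (Nat.mul_le_mul_left _ (Nat.le_add_left _ _))
      rw [← mul_assoc, mul_comm (q - 1), show Z * (q - 1) = q ^ 4 - q by omega] at h4
      have e1 : 1 ≤ q ^ 3 := Nat.one_le_pow _ _ (by omega)
      have e2 : q ^ 4 ≤ q ^ 6 := Nat.pow_le_pow_right (by omega) (by norm_num)
      have e3 : q ≤ q ^ 4 := Nat.le_self_pow (by norm_num) q
      zify [e1, e2, e3] at h4
      have hq' : (2 : ℤ) ≤ q := by exact_mod_cast hq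
      have i1 : (0 : ℤ) < (q : ℤ) ^ 2 - 1 := by nlinarith
      have i2 : (0 : ℤ) < (q : ℤ) ^ 3 - 1 := by nlinarith
      have i3 : (0 : ℤ) < (q : ℤ) ^ 3 * ((q : ℤ) ^ 2 - 1) * ((q : ℤ) ^ 3 - 1) * ((q : ℤ) - 1) :=
        mul_pos (mul_pos (mul_pos (pow_pos (by omega) 3) i1) i2) (by omega)
      nlinarith [h4, i3]
    refine ⟨hm, ?_⟩
    rw [hm] at h1
    have e1 : 1 ≤ q ^ 2 := Nat.one_le_pow _ _ (by omega)
    have e2 : q ^ 4 ≤ q ^ 6 := Nat.pow_le_pow_right (by omega) (by norm_num)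
    have e3 : q ≤ q ^ 4 := Nat.le_self_pow (by norm_num) q
    zify [e1, e2, e3, (by omega : 1 ≤ q)] at h1 ⊢
    have hZ' : (Z : ℤ) * ((q : ℤ) - 1) + q = (q : ℤ) ^ 4 := by
      have := congrArg (Nat.cast : ℕ → ℤ) hZ
      push_cast [Nat.cast_sub (show 1 ≤ q by omega)] at this
      exact this
    refine mul_left_cancel₀ (show (q : ℤ) - 1 ≠ 0 by omega) ?_
    linear_combination h1 - (q : ℤ) ^ 2 * hZ'
  obtain ⟨s, hs⟩ : ∃ s : Sub F U 1, ¬ s.1 ≤ nb X p := by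
    obtain ⟨s, hs, -⟩ := exists_pt_not_le_two (h.anti.good h.two_le p).2.1 (h.anti.good h.two_le p).2.1
    exact ⟨s, hs⟩
  exact ⟨fun s hs => (key s hs).1, (key s hs).2⟩

/-- The plane at a point. -/
def IsPlane (X : Subgroup (U ≃ₗ[F] U)) (p : Sub F U 1) (π : Submodule F U) : Prop :=
  p.1 ≤ π ∧ π ≤ nb X p ∧ finrank F π = 3 ∧
    ∀ z : Sub F U 1, z.1 ≤ nb X p → z ≠ p →
      (z.1 ≤ π → nb X p ⊓ nb X z = π) ∧ (¬ z.1 ≤ π → nb X p ⊓ nb X z = p.1 ⊔ z.1)

theorem FourSys.exists_plane (h : FourSys X) (p : Sub F U 1) : ∃ π, IsPlane X p π := by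
  classical
  haveI : Fintype {z : Sub F U 1 // z.1 ≤ nb X p ∧ ¬ z.1 ≤ p.1} := Fintype.ofFinite _
  obtain ⟨-, hex⟩ := h.excess p
  set q := Nat.card F
  have hq : 2 ≤ q := Finite.one_lt_card
  have hne : ∀ {z : Sub F U 1}, ¬ z.1 ≤ p.1 ↔ z ≠ p := fun {z} => not_congr ⟨eq_of_pt_le, fun e => e ▸ le_rfl⟩
  set lam : {z : Sub F U 1 // z.1 ≤ nb X p ∧ ¬ z.1 ≤ p.1} → ℕ := fun z => finrank F ↥(nb X p ⊓ nb X z.1)
  have hpin : ∀ z : Sub F U 1, z.1 ≤ nb X p → p.1 ⊔ z.1 ≤ nb X p ⊓ nb X z := fun z hz =>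
    sup_le (le_inf (h.self p) (h.symm hz)) (le_inf hz (h.self z))
  have h4le : ∀ z, lam z ≤ 4 := fun z => (Submodule.finrank_mono inf_le_left).trans_eq (h.four p)
  have h34 : q ^ 3 ≤ q ^ 4 := Nat.pow_le_pow_right (by omega) (by norm_num)
  have h23 : q ^ 2 < q ^ 3 := Nat.pow_lt_pow_right (by omega) (by norm_num)
  -- no two points with one subspace
  have hle3 : ∀ z, lam z ≤ 3 := by
    intro z₀
    by_contra h4
    have hWz : nb X z₀.1 = nb X p := by
      have e1 : nb X p ⊓ nb X z₀.1 = nb X p := Submodule.eq_of_le_of_finrank_le inf_le_left (by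
        rw [h.four]; change 4 ≤ lam z₀; omega)
      exact (Submodule.eq_of_le_of_finrank_le (inf_eq_left.mp e1) (by rw [h.four, h.four])).symm
    set L := p.1 ⊔ z₀.1.1
    have hLp : L ≤ nb X p := sup_le (h.self p) z₀.2.1
    have hL2 : finrank F L = 2 := finrank_line (hne.mp z₀.2.2).symm
    have hL : ∀ z : {z : Sub F U 1 // z.1 ≤ nb X p ∧ ¬ z.1 ≤ p.1}, z.1.1 ≤ L → lam z = 4 := fun z hz => by
      refine le_antisymm (h4le z) ?_
      rw [← h.four p]
      refine Submodule.finrank_mono (le_inf le_rfl ?_)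
      have := h.inf_le (P := p) (Q := z₀.1) hz
      rwa [hWz, inf_idem] at this
    have hoff : ∀ z : {z : Sub F U 1 // z.1 ≤ nb X p ∧ ¬ z.1 ≤ p.1}, ¬ z.1.1 ≤ L → 3 ≤ lam z := fun z hz => by
      have h1 : L ⊔ z.1.1 ≤ nb X p ⊓ nb X z.1 := by
        refine sup_le (sup_le (le_inf (h.self p) (h.symm z.2.1)) (le_inf z₀.2.1 (h.symm ?_))) (le_inf z.2.1 (h.self _))
        rw [hWz]; exact z.2.1
      have h2 := Submodule.finrank_mono h1
      rw [finrank_sup_pt hz, hL2] at h2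
      exact h2
    have hcard : Nat.card {z : Sub F U 1 // z.1 ≤ L ∧ ¬ z.1 ≤ p.1} * (q - 1) + q = q ^ 2 := by
      have h1 := card_pts_diff (L := L) (L' := p.1) le_sup_left
      rwa [hL2, p.2, pow_one] at h1
    obtain ⟨y, hyW, hyL⟩ := exists_pt_not_le (L := nb X p) (L' := L) fun e => by
      have := Submodule.finrank_mono e
      rw [h.four, hL2] at this
      omega
    let y' : {z : Sub F U 1 // z.1 ≤ nb X p ∧ ¬ z.1 ≤ p.1} := ⟨y, hyW, fun e => hyL (e.trans le_sup_left)⟩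
    have hqL : Nat.card {z : Sub F U 1 // z.1 ≤ L ∧ ¬ z.1 ≤ p.1} = q := by
      refine Nat.eq_of_mul_eq_mul_right (show 0 < q - 1 by omega) ?_
      have e : q * (q - 1) + q = q ^ 2 := by
        rw [← Nat.mul_add_one, show q - 1 + 1 = q by omega, pow_two]
      omega
    have hlt : q * (q ^ 4 - q ^ 2) < ∑ z, (q ^ lam z - q ^ 2) := by
      rw [← Finset.sum_filter_add_sum_filter_not _ (fun z => z.1.1 ≤ L)]
      have h1 : ∑ z ∈ Finset.univ.filter (fun z : {z : Sub F U 1 // z.1 ≤ nb X p ∧ ¬ z.1 ≤ p.1} => z.1.1 ≤ L),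
          (q ^ lam z - q ^ 2) = q * (q ^ 4 - q ^ 2) := by
        rw [Finset.sum_congr rfl fun z hz => by rw [hL z (Finset.mem_filter.mp hz).2], Finset.sum_const, smul_eq_mul]
        congr 1
        rw [← Fintype.card_subtype, ← Nat.card_eq_fintype_card, ← hqL]
        exact Nat.card_congr
          { toFun := fun z => ⟨z.1.1, z.2, z.1.2.2⟩
            invFun := fun z => ⟨⟨z.1, z.2.1.trans hLp, z.2.2⟩, z.2.1⟩
            left_inv := fun _ => rfl
            right_inv := fun _ => rfl }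
      rw [h1]
      refine Nat.lt_add_of_pos_right (lt_of_lt_of_le (b := q ^ lam y' - q ^ 2) ?_
        (Finset.single_le_sum (f := fun z => q ^ lam z - q ^ 2) (fun _ _ => Nat.zero_le _)
          (Finset.mem_filter.mpr ⟨Finset.mem_univ y', hyL⟩)))
      have := Nat.pow_le_pow_right (show 0 < q by omega) (hoff y' hyL)
      omega
    rw [hex] at hlt
    refine lt_irrefl _ (lt_of_lt_of_eq hlt ?_)
    rw [Nat.mul_sub, Nat.mul_sub]
    ring_nf
  -- a point with a common plane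
  obtain ⟨z₁, hz₁⟩ : ∃ z, lam z = 3 := by
    by_contra hc
    push Not at hc
    have h0 : ∑ z, (q ^ lam z - q ^ 2) = 0 := Finset.sum_eq_zero fun z _ => by
      have := h.two_le_inf p z.1
      change 2 ≤ lam z at this
      have := hle3 z
      have := hc z
      rw [show lam z = 2 by omega, Nat.sub_self]
    rw [hex] at h0
    have : 0 < q ^ 3 * (q ^ 2 - 1) := Nat.mul_pos (by positivity) (by
      have : 2 ^ 2 ≤ q ^ 2 := Nat.pow_le_pow_left hq 2
      omega)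
    omega
  set π := nb X p ⊓ nb X z₁.1 with hπ
  have hpπ : p.1 ≤ π := le_inf (h.self p) (h.symm z₁.2.1)
  have hzπ : z₁.1.1 ≤ π := le_inf z₁.2.1 (h.self _)
  have hin : ∀ y : {z : Sub F U 1 // z.1 ≤ nb X p ∧ ¬ z.1 ≤ p.1}, y.1.1 ≤ π → nb X p ⊓ nb X y.1 = π := by
    intro y hy
    have hle : π ≤ nb X p ⊓ nb X y.1 := by
      refine le_inf inf_le_left ?_
      by_cases hyl : y.1.1 ≤ p.1 ⊔ z₁.1.1
      · exact h.inf_le hyl
      · have hspan : p.1 ⊔ z₁.1.1 ⊔ y.1.1 = π :=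
          Submodule.eq_of_le_of_finrank_le (sup_le (sup_le hpπ hzπ) hy) (by
            rw [finrank_sup_pt hyl, finrank_line (hne.mp z₁.2.2).symm]
            change lam z₁ ≤ 3
            omega)
        rw [← hspan]
        exact sup_le (sup_le (h.symm y.2.1) (h.symm (hy.trans inf_le_right))) (h.self _)
    exact (Submodule.eq_of_le_of_finrank_le hle ((hle3 y).trans (le_of_eq hz₁.symm))).symm
  have h3 : finrank F π = 3 := hz₁
  have hπcard : Nat.card {z : Sub F U 1 // z.1 ≤ π ∧ ¬ z.1 ≤ p.1} * (q - 1) + q = q ^ 3 := by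
    have h1 := card_pts_diff (L := π) (L' := p.1) hpπ
    rwa [h3, p.2, pow_one] at h1
  have hout : ∀ y, lam y = 3 → y.1.1 ≤ π := by
    intro y₀ hy₀
    by_contra hnot
    have hlt : Nat.card {z : Sub F U 1 // z.1 ≤ π ∧ ¬ z.1 ≤ p.1} * (q ^ 3 - q ^ 2) < ∑ z, (q ^ lam z - q ^ 2) := by
      rw [← Finset.sum_filter_add_sum_filter_not _ (fun z => z.1.1 ≤ π)]
      have h1 : ∑ z ∈ Finset.univ.filter (fun z : {z : Sub F U 1 // z.1 ≤ nb X p ∧ ¬ z.1 ≤ p.1} => z.1.1 ≤ π),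
          (q ^ lam z - q ^ 2) = Nat.card {z : Sub F U 1 // z.1 ≤ π ∧ ¬ z.1 ≤ p.1} * (q ^ 3 - q ^ 2) := by
        rw [Finset.sum_congr rfl fun z hz => by
          rw [show lam z = 3 by show finrank F ↥(nb X p ⊓ nb X z.1) = 3; rw [hin z (Finset.mem_filter.mp hz).2, h3]],
          Finset.sum_const, smul_eq_mul]
        congr 1
        rw [← Fintype.card_subtype, ← Nat.card_eq_fintype_card]
        exact Nat.card_congr
          { toFun := fun z => ⟨z.1.1, z.2, z.1.2.2⟩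
            invFun := fun z => ⟨⟨z.1, z.2.1.trans inf_le_left, z.2.2⟩, z.2.1⟩
            left_inv := fun _ => rfl
            right_inv := fun _ => rfl }
      rw [h1]
      refine Nat.lt_add_of_pos_right (lt_of_lt_of_le (b := q ^ lam y₀ - q ^ 2) ?_
        (Finset.single_le_sum (f := fun z => q ^ lam z - q ^ 2) (fun _ _ => Nat.zero_le _)
          (Finset.mem_filter.mpr ⟨Finset.mem_univ y₀, hnot⟩)))
      rw [hy₀]
      omega
    rw [hex] at hlt
    refine lt_irrefl _ (lt_of_lt_of_eq hlt ?_)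
    set A := Nat.card {z : Sub F U 1 // z.1 ≤ π ∧ ¬ z.1 ≤ p.1}
    obtain ⟨c, hc⟩ : ∃ c, q = c + 2 := ⟨q - 2, by omega⟩
    have hA : A * (c + 1) + (c + 2) = (c + 2) ^ 3 := by
      rw [hc, show c + 2 - 1 = c + 1 by omega] at hπcard
      exact hπcard
    have e1 : q ^ 3 - q ^ 2 = (c + 2) ^ 2 * (c + 1) := by
      rw [Nat.sub_eq_iff_eq_add h23.le, hc]; ring
    have e2 : q ^ 2 - 1 = (c + 1) * (c + 3) := by
      rw [Nat.sub_eq_iff_eq_add (Nat.one_le_pow _ _ (by omega)), hc]; ring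
    have e3 : A * (c + 1) = (c + 2) * ((c + 1) * (c + 3)) := by
      have : (c + 2) ^ 3 = (c + 2) * ((c + 1) * (c + 3)) + (c + 2) := by ring
      omega
    rw [e1, e2, hc]
    calc (c + 2) ^ 3 * ((c + 1) * (c + 3)) = (c + 2) ^ 2 * ((c + 2) * ((c + 1) * (c + 3))) := by ring
      _ = A * ((c + 2) ^ 2 * (c + 1)) := by rw [← e3]; ring
  refine ⟨π, hpπ, inf_le_left, h3, fun z hz hzp => ⟨fun hzπ => hin ⟨z, hz, hne.mpr hzp⟩ hzπ, fun hzπ => ?_⟩⟩
  refine eq_line (Ne.symm hzp) (le_inf (h.self p) (h.symm hz)) (le_inf hz (h.self z)) ?_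
  have := hle3 ⟨z, hz, hne.mpr hzp⟩
  change finrank F ↥(nb X p ⊓ nb X z) ≤ 3 at this
  by_contra h2
  exact hzπ (hout ⟨z, hz, hne.mpr hzp⟩ (by change finrank F ↥(nb X p ⊓ nb X z) = 3; omega))

theorem IsPlane.unique (h : FourSys X) {p : Sub F U 1} {π π' : Submodule F U} (hπ : IsPlane X p π)
    (hπ' : IsPlane X p π') : π = π' := by
  obtain ⟨z, hz, hzp⟩ := exists_pt_not_le (L := π) (L' := p.1) fun e => by
    have := Submodule.finrank_mono e
    rw [hπ.2.2.1, p.2] at this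
    omega
  have hne : z ≠ p := fun e => hzp (e ▸ le_rfl)
  have e1 := (hπ.2.2.2 z (hz.trans hπ.2.1) hne).1 hz
  by_cases hz' : z.1 ≤ π'
  · rw [← e1, (hπ'.2.2.2 z (hz.trans hπ.2.1) hne).1 hz']
  · have e2 := (hπ'.2.2.2 z (hz.trans hπ.2.1) hne).2 hz'
    have := congrArg (fun L : Submodule F U => finrank F L) (e1.symm.trans e2)
    simp only [hπ.2.2.1, finrank_line (Ne.symm hne)] at this
    omega

/-- The plane at a point. -/
noncomputable def FourSys.pl (h : FourSys X) (p : Sub F U 1) : Submodule F U := (h.exists_plane p).choose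

theorem FourSys.pl_spec (h : FourSys X) (p : Sub F U 1) : IsPlane X p (h.pl p) := (h.exists_plane p).choose_spec

theorem FourSys.pl_eq (h : FourSys X) {p y : Sub F U 1} (hy : y.1 ≤ h.pl p) : h.pl y = h.pl p := by
  obtain ⟨hp1, hp2, hp3, hp4⟩ := h.pl_spec p
  by_cases hyp : y = p
  · rw [hyp]
  obtain ⟨hy1, hy2, hy3, hy4⟩ := h.pl_spec y
  have e1 := (hp4 y (hy.trans hp2) hyp).1 hy
  have hpy : p.1 ≤ nb X y := h.symm (hy.trans hp2)
  by_cases hpin : p.1 ≤ h.pl y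
  · rw [← e1, inf_comm, (hy4 p hpy (Ne.symm hyp)).1 hpin]
  · have e2 := (hy4 p hpy (Ne.symm hyp)).2 hpin
    rw [inf_comm] at e2
    have := congrArg (fun L : Submodule F U => finrank F L) (e1.symm.trans e2)
    simp only [hp3, finrank_line hyp] at this
    omega

theorem FourSys.pl_disjoint (h : FourSys X) {p r : Sub F U 1} (hne : h.pl p ≠ h.pl r) : h.pl p ⊓ h.pl r = ⊥ := by
  by_contra hc
  obtain ⟨x, hx⟩ := exists_pt_le (L := h.pl p ⊓ h.pl r) (Nat.pos_of_ne_zero fun e => hc (Submodule.finrank_eq_zero.mp e))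
  exact hne ((h.pl_eq (hx.trans inf_le_left)).symm.trans (h.pl_eq (hx.trans inf_le_right)))

theorem FourSys.pl_sup (h : FourSys X) {p r : Sub F U 1} (hne : h.pl p ≠ h.pl r) : h.pl p ⊔ h.pl r = ⊤ := by
  refine Submodule.eq_top_of_finrank_eq ?_
  have := Submodule.finrank_sup_add_finrank_inf_eq (h.pl p) (h.pl r)
  rw [h.pl_disjoint hne, finrank_bot, (h.pl_spec p).2.2.1, (h.pl_spec r).2.2.1, add_zero] at this
  rw [this, h.dim]

/-- A point has exactly one neighbour in another plane. -/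
theorem FourSys.exists_nbr (h : FourSys X) {p r : Sub F U 1} (hne : h.pl p ≠ h.pl r) :
    ∃ z : Sub F U 1, z.1 = nb X p ⊓ h.pl r := by
  refine ⟨⟨nb X p ⊓ h.pl r, ?_⟩, rfl⟩
  have h1 := Submodule.finrank_sup_add_finrank_inf_eq (nb X p) (h.pl r)
  have h2 := Submodule.finrank_le (nb X p ⊔ h.pl r)
  rw [h.four, (h.pl_spec r).2.2.1] at h1
  rw [h.dim] at h2
  refine le_antisymm ?_ (by omega)
  by_contra hgt
  obtain ⟨z, hz⟩ := exists_pt_le (L := nb X p ⊓ h.pl r) (by omega)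
  obtain ⟨z', hz', hzz⟩ := exists_pt_not_le (L := nb X p ⊓ h.pl r) (L' := z.1) fun e => by
    have := Submodule.finrank_mono e
    rw [z.2] at this
    omega
  obtain ⟨-, hp2, -, hp4⟩ := h.pl_spec p
  have hzp : ¬ z.1 ≤ h.pl p := fun e => hne ((h.pl_eq e).symm.trans (h.pl_eq (hz.trans inf_le_right)))
  have hzne : z ≠ p := fun e => hzp (e ▸ (h.pl_spec p).1)
  have hzW : z'.1 ≤ nb X z := by
    refine le_trans (hz'.trans inf_le_right) ?_
    rw [← h.pl_eq (hz.trans inf_le_right)]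
    exact (h.pl_spec z).2.1
  have h3 : z'.1 ≤ p.1 ⊔ z.1 := by
    rw [← (hp4 z (hz.trans inf_le_left) hzne).2 hzp]
    exact le_inf (hz'.trans inf_le_left) hzW
  have h4 : p.1 ≤ z.1 ⊔ z'.1 := by
    rw [← eq_line (fun e => hzz (le_of_eq (congrArg Subtype.val e.symm))) le_sup_right h3 (le_of_eq (finrank_line (Ne.symm hzne)))]
    exact le_sup_left
  exact hne (h.pl_eq (h4.trans (sup_le (hz.trans inf_le_right) (hz'.trans inf_le_right))))

theorem not_le_disjoint {L L' : Submodule F U} (hd : L ⊓ L' = ⊥) {x : Sub F U 1} (hx : x.1 ≤ L) : ¬ x.1 ≤ L' :=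
  fun e => by
    have := Submodule.finrank_mono (le_inf hx e)
    rw [hd, finrank_bot, x.2] at this
    omega

theorem sup_pt_eq {L : Submodule F U} {x y : Sub F U 1} (hx : ¬ x.1 ≤ L) (hy : ¬ y.1 ≤ L) (h : y.1 ≤ L ⊔ x.1) :
    L ⊔ y.1 = L ⊔ x.1 :=
  Submodule.eq_of_le_of_finrank_le (sup_le le_sup_left h) (by rw [finrank_sup_pt hx, finrank_sup_pt hy])

theorem inf_sup_disjoint {A C S : Submodule F U} (hS : S ≤ A) (hd : C ⊓ A = ⊥) : A ⊓ (C ⊔ S) = S := by
  rw [inf_comm, sup_comm, sup_inf_assoc_of_le C hS, hd, sup_bot_eq]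

theorem FourSys.nbr (h : FourSys X) {a b x : Sub F U 1} (hab : h.pl a ≠ h.pl b) (hx : x.1 ≤ h.pl a) :
    ∃ z : Sub F U 1, z.1 = nb X x ⊓ h.pl b ∧ nb X x = h.pl a ⊔ z.1 := by
  obtain ⟨z, hz⟩ := h.exists_nbr (p := x) (r := b) (by rw [h.pl_eq hx]; exact hab)
  refine ⟨z, hz, (Submodule.eq_of_le_of_finrank_le (sup_le ?_ (hz.le.trans inf_le_left)) ?_).symm⟩
  · rw [← h.pl_eq hx]
    exact (h.pl_spec x).2.1
  · rw [h.four, finrank_sup_pt (not_le_disjoint (h.pl_disjoint (Ne.symm hab)) (hz.le.trans inf_le_right)),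
      (h.pl_spec a).2.2.1]

theorem FourSys.nbr_eq (h : FourSys X) {a b x z : Sub F U 1} (hab : h.pl a ≠ h.pl b) (hx : x.1 ≤ h.pl a)
    (hz : z.1 ≤ h.pl b) (hzx : z.1 ≤ nb X x) : z.1 = nb X x ⊓ h.pl b := by
  obtain ⟨w, hw, -⟩ := h.nbr hab hx
  rw [← hw, eq_of_pt_le ((le_inf hzx hz).trans hw.ge)]

/-- Collinear points of a plane have collinear neighbours in another one. -/
theorem FourSys.nbr_collinear (h : FourSys X) {a b x y z : Sub F U 1} (hab : h.pl a ≠ h.pl b) (hx : x.1 ≤ h.pl a)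
    (hy : y.1 ≤ h.pl a) (hz : z.1 ≤ x.1 ⊔ y.1) :
    nb X z ⊓ h.pl b ≤ (nb X x ⊓ h.pl b) ⊔ (nb X y ⊓ h.pl b) := by
  haveI : Finite (Dual F U) := finite_dual
  by_cases hxy : x = y
  · subst hxy
    rw [eq_of_pt_le (hz.trans (sup_idem _).le)]
    exact le_sup_left
  have hza : z.1 ≤ h.pl a := hz.trans (sup_le hx hy)
  obtain ⟨u, hu, hxu⟩ := h.nbr hab hx
  obtain ⟨v, hv, hyv⟩ := h.nbr hab hy
  obtain ⟨w, hw, hzw⟩ := h.nbr hab hza
  have huB : u.1 ≤ h.pl b := hu.le.trans inf_le_right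
  have hvB : v.1 ≤ h.pl b := hv.le.trans inf_le_right
  have huv : u ≠ v := fun e => by
    subst e
    have e1 := h.nbr_eq (Ne.symm hab) huB hx (h.symm (hu.le.trans inf_le_left))
    have e2 := h.nbr_eq (Ne.symm hab) huB hy (h.symm (hv.le.trans inf_le_left))
    exact hxy (Subtype.ext (e1.trans e2.symm))
  have hM : finrank F ↥(h.pl a ⊔ (u.1 ⊔ v.1)) = 5 := by
    have h1 := Submodule.finrank_sup_add_finrank_inf_eq (h.pl a) (u.1 ⊔ v.1)
    have h0 : h.pl a ⊓ (u.1 ⊔ v.1) = ⊥ :=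
      le_bot_iff.mp ((inf_le_inf_left _ (sup_le huB hvB)).trans (h.pl_disjoint hab).le)
    rw [h0, finrank_bot, (h.pl_spec a).2.2.1, finrank_line huv, add_zero] at h1
    exact h1
  obtain ⟨Φ, hΦ⟩ := exists_dual_pt (L := h.pl a ⊔ (u.1 ⊔ v.1)) fun e => by
    rw [e, finrank_top, h.dim] at hM
    omega
  have hΦ' : Φ.1.dualCoannihilator = h.pl a ⊔ (u.1 ⊔ v.1) :=
    (Submodule.eq_of_le_of_finrank_le hΦ (by have := finrank_hyp Φ; rw [h.dim] at this; omega)).symm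
  set D := (nb (X.map (dualE : (U ≃ₗ[F] U) →* (Dual F U ≃ₗ[F] Dual F U))) Φ).dualCoannihilator
  have hD : ∀ t : Sub F U 1, t.1 ≤ D ↔ nb X t ≤ h.pl a ⊔ (u.1 ⊔ v.1) := fun t => by
    rw [← le_ann_iff, ← h.anti.flag_iff h.two_le, hΦ']
  have hDdim : finrank F D = 2 := by
    rw [Subspace.finrank_dualCoannihilator_eq]
    have h4 := Subspace.finrank_add_finrank_dualAnnihilator_eq
      (nb (X.map (dualE : (U ≃ₗ[F] U) →* (Dual F U ≃ₗ[F] Dual F U))) Φ)
    rw [Subspace.dual_finrank_eq, h.anti.finrank_nb_dual h.two_le x Φ, h.four, h.dim] at h4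
    omega
  have hxD : x.1 ≤ D := (hD x).mpr (by rw [hxu]; exact sup_le_sup_left le_sup_left _)
  have hyD : y.1 ≤ D := (hD y).mpr (by rw [hyv]; exact sup_le_sup_left le_sup_right _)
  have hzD : z.1 ≤ D := hz.trans (sup_le hxD hyD)
  have h1 := (hD z).mp hzD
  rw [← hu, ← hv]
  calc nb X z ⊓ h.pl b ≤ ((u.1 ⊔ v.1) ⊔ h.pl a) ⊓ h.pl b := inf_le_inf_right _ (h1.trans (sup_comm _ _).le)
    _ = u.1 ⊔ v.1 := by rw [sup_inf_assoc_of_le _ (sup_le huB hvB), h.pl_disjoint hab, sup_bot_eq]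

/-- The map of the first plane into itself given by a third one. -/
noncomputable def FourSys.sig (h : FourSys X) (a b c x : Sub F U 1) : Submodule F U :=
  h.pl a ⊓ (h.pl c ⊔ (nb X x ⊓ h.pl b))

theorem FourSys.sig_spec (h : FourSys X) {a b c x : Sub F U 1} (hab : h.pl a ≠ h.pl b) (hca : h.pl c ≠ h.pl a)
    (hcb : h.pl c ≠ h.pl b) (hx : x.1 ≤ h.pl a) :
    ∃ S : Sub F U 1, S.1 = h.sig a b c x ∧ S.1 ≤ h.pl a ∧
      h.pl c ⊔ S.1 = h.pl c ⊔ (nb X x ⊓ h.pl b) := by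
  obtain ⟨u, hu, -⟩ := h.nbr hab hx
  have huc : ¬ u.1 ≤ h.pl c := not_le_disjoint (h.pl_disjoint (Ne.symm hcb)) (hu.le.trans inf_le_right)
  have h1 := Submodule.finrank_sup_add_finrank_inf_eq (h.pl a) (h.pl c ⊔ u.1)
  rw [eq_top_iff.mpr (((h.pl_sup (Ne.symm hca)).ge).trans (sup_le_sup_left le_sup_left _)), finrank_top, h.dim,
    (h.pl_spec a).2.2.1, finrank_sup_pt huc, (h.pl_spec c).2.2.1] at h1
  have hd : finrank F (h.sig a b c x) = 1 := by
    rw [FourSys.sig, ← hu]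
    omega
  refine ⟨⟨_, hd⟩, rfl, inf_le_left, ?_⟩
  rw [← hu]
  exact sup_pt_eq huc (not_le_disjoint (h.pl_disjoint (Ne.symm hca)) inf_le_left)
    (le_trans inf_le_right (by rw [← hu]))

theorem FourSys.sig_collinear (h : FourSys X) {a b c x y z : Sub F U 1} (hab : h.pl a ≠ h.pl b)
    (hca : h.pl c ≠ h.pl a) (hcb : h.pl c ≠ h.pl b) (hx : x.1 ≤ h.pl a) (hy : y.1 ≤ h.pl a)
    (hz : z.1 ≤ x.1 ⊔ y.1) : h.sig a b c z ≤ h.sig a b c x ⊔ h.sig a b c y := by
  obtain ⟨S, hS, hSa, eS⟩ := h.sig_spec hab hca hcb hx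
  obtain ⟨T, hT, hTa, eT⟩ := h.sig_spec hab hca hcb hy
  rw [← hS, ← hT]
  calc h.sig a b c z ≤ h.pl a ⊓ (h.pl c ⊔ (S.1 ⊔ T.1)) := inf_le_inf_left _ (by
        rw [show h.pl c ⊔ (S.1 ⊔ T.1) = h.pl c ⊔ ((nb X x ⊓ h.pl b) ⊔ (nb X y ⊓ h.pl b)) by
          rw [sup_sup_distrib_left, eS, eT, ← sup_sup_distrib_left]]
        exact sup_le_sup_left (h.nbr_collinear hab hx hy hz) _)
    _ = S.1 ⊔ T.1 := inf_sup_disjoint (sup_le hSa hTa) (h.pl_disjoint hca)

theorem FourSys.sig_sig (h : FourSys X) {a b c x S : Sub F U 1} (hab : h.pl a ≠ h.pl b) (hca : h.pl c ≠ h.pl a)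
    (hcb : h.pl c ≠ h.pl b) (hx : x.1 ≤ h.pl a) (hS : S.1 = h.sig a b c x) : h.sig a b c S = x.1 := by
  obtain ⟨S', hS', hSa, eS⟩ := h.sig_spec hab hca hcb hx
  obtain rfl : S = S' := Subtype.ext (hS.trans hS'.symm)
  obtain ⟨u, hu, hxu⟩ := h.nbr hab hx
  obtain ⟨v, hv, -⟩ := h.nbr hab hSa
  have huB : u.1 ≤ h.pl b := hu.le.trans inf_le_right
  have hvB : v.1 ≤ h.pl b := hv.le.trans inf_le_right
  rw [← hu] at eS
  have huc : ¬ u.1 ≤ h.pl c := not_le_disjoint (h.pl_disjoint (Ne.symm hcb)) huB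
  have hSu : S ≠ u := fun e => not_le_disjoint (h.pl_disjoint hab) hSa (e ▸ huB)
  obtain ⟨t, ht⟩ : ∃ t : Sub F U 1, t.1 ≤ (S.1 ⊔ u.1) ⊓ h.pl c := by
    refine exists_pt_le ?_
    have h1 := Submodule.finrank_sup_add_finrank_inf_eq (S.1 ⊔ u.1) (h.pl c)
    have h2 : finrank F ↥(S.1 ⊔ u.1 ⊔ h.pl c) ≤ finrank F ↥(h.pl c ⊔ u.1) :=
      Submodule.finrank_mono (sup_le (sup_le (le_trans le_sup_right eS.le) le_sup_right) le_sup_left)
    rw [finrank_line hSu, (h.pl_spec c).2.2.1] at h1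
    rw [finrank_sup_pt huc, (h.pl_spec c).2.2.1] at h2
    omega
  have htc : t.1 ≤ h.pl c := ht.trans inf_le_right
  have htx : t.1 ≤ nb X x := by
    rw [hxu]
    exact (ht.trans inf_le_left).trans (sup_le_sup_right hSa _)
  have htv : t.1 ≤ nb X v := by
    obtain ⟨w, hw, hvw⟩ := h.nbr (Ne.symm hab) hvB
    have e := h.nbr_eq (Ne.symm hab) hvB hSa (h.symm (hv.le.trans inf_le_left))
    rw [hvw, hw, ← e]
    exact (ht.trans inf_le_left).trans (sup_le le_sup_right (huB.trans le_sup_left))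
  obtain ⟨w, hw, htw⟩ := h.nbr hca htc
  have e := h.nbr_eq hca htc hx (h.symm htx)
  have h1 : v.1 ≤ h.pl c ⊔ x.1 := by
    rw [e, ← hw, ← htw]
    exact h.symm htv
  rw [FourSys.sig, ← hv, sup_pt_eq (not_le_disjoint (h.pl_disjoint (Ne.symm hca)) hx)
    (not_le_disjoint (h.pl_disjoint (Ne.symm hcb)) hvB) h1, inf_sup_disjoint hx (h.pl_disjoint hca)]

/-- An involutive collineation of a plane has more than one fixed point. -/
theorem no_unique_fixed {A : Submodule F U} (hA : finrank F A = 3) (f : Sub F U 1 → Sub F U 1)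
    (hfA : ∀ x : Sub F U 1, x.1 ≤ A → (f x).1 ≤ A) (hff : ∀ x : Sub F U 1, x.1 ≤ A → f (f x) = x)
    (hcol : ∀ x y z : Sub F U 1, x.1 ≤ A → y.1 ≤ A → z.1 ≤ x.1 ⊔ y.1 → (f z).1 ≤ (f x).1 ⊔ (f y).1)
    {p₀ : Sub F U 1} (hp₀ : p₀.1 ≤ A) (huniq : ∀ x : Sub F U 1, x.1 ≤ A → f x = x → x = p₀) : False := by
  obtain ⟨u, huA, hu⟩ := exists_pt_not_le (L := A) (L' := p₀.1) fun e => by
    have := Submodule.finrank_mono e
    rw [hA, p₀.2] at this
    omega
  have hne : p₀ ≠ u := fun e => hu (e ▸ le_rfl)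
  obtain ⟨v, hvA, hv⟩ := exists_pt_not_le (L := A) (L' := p₀.1 ⊔ u.1) fun e => by
    have := Submodule.finrank_mono e
    rw [hA, finrank_line hne] at this
    omega
  have huv : u ≠ v := fun e => hv (e ▸ le_sup_right)
  have hpL : ¬ p₀.1 ≤ u.1 ⊔ v.1 := fun e => by
    have e1 := eq_line hne e le_sup_left (finrank_line huv).le
    exact hv (e1 ▸ le_sup_right)
  have hLA : u.1 ⊔ v.1 ≤ A := sup_le huA hvA
  -- the meet of two lines of the plane
  have hmeet : ∀ L L' : Submodule F U, L ≤ A → L' ≤ A → finrank F L = 2 → finrank F L' = 2 → L ≠ L' →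
      ∃ z : Sub F U 1, z.1 = L ⊓ L' := by
    intro L L' hL hL' h2 h2' hLL
    have h1 := Submodule.finrank_sup_add_finrank_inf_eq L L'
    have h3 := Submodule.finrank_mono (sup_le hL hL')
    have h4 : finrank F ↥(L ⊓ L') < 2 := by
      by_contra h5
      have e1 : L ⊓ L' = L := Submodule.eq_of_le_of_finrank_le inf_le_left (by omega)
      exact hLL (Submodule.eq_of_le_of_finrank_le (inf_eq_left.mp e1) (by omega))
    exact ⟨⟨L ⊓ L', by omega⟩, rfl⟩
  have hf2 : f u ≠ f v := fun e => huv (by rw [← hff u huA, e, hff v hvA])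
  have hback : ∀ z : Sub F U 1, z.1 ≤ (f u).1 ⊔ (f v).1 → (f z).1 ≤ u.1 ⊔ v.1 := fun z hz => by
    have := hcol _ _ z (hfA u huA) (hfA v hvA) hz
    rwa [hff u huA, hff v hvA] at this
  by_cases hLL : (f u).1 ⊔ (f v).1 = u.1 ⊔ v.1
  · obtain ⟨e₀, he₀, he₀p⟩ := exists_mem p₀
    obtain ⟨e₁, he₁, he₁u⟩ := exists_mem u
    have hs : e₀ + e₁ ≠ 0 := fun e => by
      refine hu ?_
      rw [le_iff_of_mem he₁ he₁u, show e₁ = -e₀ from eq_neg_of_add_eq_zero_right e]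
      exact neg_mem he₀p
    set x := pt (F := F) (e₀ + e₁) hs
    have hxmem : e₀ + e₁ ∈ x.1 := Submodule.mem_span_singleton_self _
    have hxA : x.1 ≤ A := (Submodule.span_singleton_le_iff_mem _ _).mpr (add_mem (hp₀ he₀p) (huA he₁u))
    have hxL : ¬ x.1 ≤ u.1 ⊔ v.1 := fun e => hpL (by
      rw [le_iff_of_mem he₀ he₀p]
      have := sub_mem (e hxmem) (Submodule.mem_sup_left he₁u : e₁ ∈ u.1 ⊔ v.1)
      rwa [add_sub_cancel_right] at this)
    have hxp : x ≠ p₀ := fun e => hu (by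
      rw [le_iff_of_mem he₁ he₁u]
      have := sub_mem (e ▸ hxmem : e₀ + e₁ ∈ p₀.1) he₀p
      rwa [add_sub_cancel_left] at this)
    have hfx : f x ≠ x := fun e => hxp (huniq x hxA e)
    obtain ⟨z, hz⟩ := hmeet (x.1 ⊔ (f x).1) (u.1 ⊔ v.1) (sup_le hxA (hfA x hxA)) hLA (finrank_line hfx.symm)
      (finrank_line huv) fun e => hxL (e ▸ le_sup_left)
    have h1 : (f z).1 ≤ x.1 ⊔ (f x).1 := by
      have := hcol _ _ z hxA (hfA x hxA) (hz.le.trans inf_le_left)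
      rwa [hff x hxA, sup_comm] at this
    have h2 : (f z).1 ≤ u.1 ⊔ v.1 := by
      rw [← hLL]
      exact hcol _ _ z huA hvA (hz.le.trans inf_le_right)
    have h3 := eq_of_pt_le ((le_inf h1 h2).trans hz.ge)
    have h4 := huniq z (hz.le.trans (inf_le_right.trans hLA)) h3
    exact hpL (h4 ▸ hz.le.trans inf_le_right)
  · obtain ⟨z, hz⟩ := hmeet _ _ hLA (sup_le (hfA u huA) (hfA v hvA)) (finrank_line huv) (finrank_line hf2)
      (Ne.symm hLL)
    have h1 : (f z).1 ≤ (f u).1 ⊔ (f v).1 := hcol _ _ z huA hvA (hz.le.trans inf_le_left)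
    have h2 : (f z).1 ≤ u.1 ⊔ v.1 := hback z (hz.le.trans inf_le_right)
    have h3 := eq_of_pt_le ((le_inf h2 h1).trans hz.ge)
    have h4 := huniq z (hz.le.trans (inf_le_left.trans hLA)) h3
    exact hpL (h4 ▸ hz.le.trans inf_le_left)

/-- No antiflag transitive group of a six-space has four-dimensional subspaces at its points. -/
theorem FourSys.false (h : FourSys X) : False := by
  classical
  haveI : Fintype (Sub F U 1) := Fintype.ofFinite _
  haveI : Fintype (Submodule F U) := Fintype.ofFinite _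
  set q := Nat.card F
  have hq : 2 ≤ q := Finite.one_lt_card
  have h6 := card_pts_dim (F := F) (⊤ : Submodule F U)
  rw [finrank_top, h.dim] at h6
  change _ * (q - 1) + 1 = q ^ 6 at h6
  have h3c : ∀ r : Sub F U 1, Nat.card {x : Sub F U 1 // x.1 ≤ h.pl r} * (q - 1) + 1 = q ^ 3 := fun r => by
    rw [card_pts_dim, (h.pl_spec r).2.2.1]
  obtain ⟨a, -⟩ := exists_pt_le (F := F) (U := U) (L := ⊤) (by rw [finrank_top, h.dim]; norm_num)
  obtain ⟨b, -, hb⟩ := exists_pt_not_le (L := (⊤ : Submodule F U)) (L' := h.pl a) fun e => by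
    have := Submodule.finrank_mono e
    rw [finrank_top, h.dim, (h.pl_spec a).2.2.1] at this
    omega
  have hab : h.pl a ≠ h.pl b := fun e => hb (e ▸ (h.pl_spec b).1)
  obtain ⟨k, hk⟩ : ∃ k, q = k + 2 := ⟨q - 2, by omega⟩
  obtain ⟨P, hP⟩ : ∃ P, q ^ 3 = P + 1 := ⟨q ^ 3 - 1, by have := Nat.one_le_pow 3 q (by omega); omega⟩
  -- the number of planes
  let Pl := Finset.univ.image h.pl
  have hPl : Pl.card = q ^ 3 + 1 := by
    have h1 : Fintype.card (Sub F U 1) = ∑ L ∈ Pl, (Finset.univ.filter fun x => h.pl x = L).card :=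
      Finset.card_eq_sum_card_image h.pl Finset.univ
    have h2 : ∀ L ∈ Pl, (Finset.univ.filter fun x => h.pl x = L).card * (q - 1) = P := fun L hL => by
      obtain ⟨r, -, rfl⟩ := Finset.mem_image.mp hL
      have h5 := h3c r
      have e : (Finset.univ.filter fun x => h.pl x = h.pl r).card = Nat.card {x : Sub F U 1 // x.1 ≤ h.pl r} := by
        rw [Nat.card_eq_fintype_card (α := {x : Sub F U 1 // x.1 ≤ h.pl r}), Fintype.card_subtype]
        congr 1
        ext x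
        simp only [Finset.mem_filter, Finset.mem_univ, true_and]
        exact ⟨fun e => e ▸ (h.pl_spec x).1, fun e => h.pl_eq e⟩
      rw [e]
      omega
    have h7 : Nat.card {x : Sub F U 1 // x.1 ≤ (⊤ : Submodule F U)} = Fintype.card (Sub F U 1) := by
      rw [← Nat.card_eq_fintype_card]
      exact Nat.card_congr (Equiv.subtypeUnivEquiv fun x => le_top)
    rw [h7, h1, Finset.sum_mul, Finset.sum_congr rfl h2, Finset.sum_const, smul_eq_mul,
      show q ^ 6 = (P + 1) * (P + 1) by rw [← hP]; ring] at h6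
    refine Nat.eq_of_mul_eq_mul_right (show 0 < P by
      have := Nat.pow_le_pow_left hq 3
      omega) ?_
    rw [hP]
    have : (P + 1 + 1) * P + 1 = (P + 1) * (P + 1) := by ring
    omega
  let T := (Pl.erase (h.pl a)).erase (h.pl b)
  have hT : T.card = P := by
    rw [Finset.card_erase_of_mem (Finset.mem_erase.mpr ⟨Ne.symm hab, Finset.mem_image_of_mem _ (Finset.mem_univ b)⟩),
      Finset.card_erase_of_mem (Finset.mem_image_of_mem _ (Finset.mem_univ a)), hPl]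
    omega
  let Fix : Submodule F U → Finset (Sub F U 1) := fun L =>
    Finset.univ.filter fun x => x.1 ≤ h.pl a ∧ x.1 ≤ L ⊔ (nb X x ⊓ h.pl b)
  -- every third plane fixes some point
  have hmemT : ∀ L ∈ T, ∃ c, h.pl c = L ∧ h.pl c ≠ h.pl a ∧ h.pl c ≠ h.pl b := fun L hL => by
    obtain ⟨hb', hL⟩ := Finset.mem_erase.mp hL
    obtain ⟨ha', hL⟩ := Finset.mem_erase.mp hL
    obtain ⟨c, -, rfl⟩ := Finset.mem_image.mp hL
    exact ⟨c, rfl, ha', hb'⟩
  have hfix : ∀ {c x : Sub F U 1}, h.pl c ≠ h.pl a → h.pl c ≠ h.pl b → x.1 ≤ h.pl a →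
      (h.sig a b c x = x.1 ↔ x ∈ Fix (h.pl c)) := by
    intro c x hca hcb hx
    simp only [Fix, Finset.mem_filter, Finset.mem_univ, true_and]
    refine ⟨fun e => ⟨hx, e.ge.trans inf_le_right⟩, fun e => ?_⟩
    obtain ⟨S, hS, -, -⟩ := h.sig_spec hab hca hcb hx
    rw [← hS, ← eq_of_pt_le ((le_inf hx e.2).trans hS.ge)]
  have hpos : ∀ L ∈ T, 1 ≤ (Fix L).card := fun L hL => by
    obtain ⟨c, rfl, hca, hcb⟩ := hmemT L hL
    let f : {x : Sub F U 1 // x.1 ≤ h.pl a} → {x : Sub F U 1 // x.1 ≤ h.pl a} := fun x =>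
      ⟨(h.sig_spec hab hca hcb x.2).choose, (h.sig_spec hab hca hcb x.2).choose_spec.2.1⟩
    have hf : ∀ x, (f x).1.1 = h.sig a b c x.1 := fun x => (h.sig_spec hab hca hcb x.2).choose_spec.1
    have hinv : ∀ x, f (f x) = x := fun x =>
      Subtype.ext (Subtype.ext ((hf (f x)).trans (h.sig_sig hab hca hcb x.2 (hf x))))
    haveI : Fact (Nat.Prime 2) := ⟨Nat.prime_two⟩
    obtain ⟨x, hx⟩ := Equiv.Perm.exists_fixed_point_of_prime (p := 2) (σ := (Function.Involutive.toPerm f hinv)) (n := 1)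
      (by
        intro hdvd
        rw [← Nat.card_eq_fintype_card] at hdvd
        obtain ⟨j, hj⟩ := hdvd
        have h5 := h3c a
        have : q ^ 3 = (q - 1) * (q * (q + 1) + 1) + 1 := by
          rw [hk, show k + 2 - 1 = k + 1 by omega]; ring
        have h8 : Nat.card {x : Sub F U 1 // x.1 ≤ h.pl a} = q * (q + 1) + 1 :=
          Nat.eq_of_mul_eq_mul_right (show 0 < q - 1 by omega) (by rw [mul_comm (q * (q + 1) + 1)]; omega)
        have h9 := Nat.even_mul_succ_self q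
        obtain ⟨i, hi⟩ := h9
        omega)
      (by ext1 x; exact hinv x)
    refine Finset.card_pos.mpr ⟨x.1, (hfix hca hcb x.2).mp ?_⟩
    rw [← hf]
    exact congrArg (fun y : {x : Sub F U 1 // x.1 ≤ h.pl a} => y.1.1) hx
  -- the fixed points of all of them
  have hline : ∀ x : {x : Sub F U 1 // x.1 ≤ h.pl a}, ∃ u : Sub F U 1,
      u.1 = nb X x.1 ⊓ h.pl b ∧ x.1 ≠ u ∧ u.1 ≤ h.pl b := fun x => by
    obtain ⟨u, hu, -⟩ := h.nbr hab x.2
    exact ⟨u, hu, fun e => not_le_disjoint (h.pl_disjoint hab) x.2 (e ▸ hu.le.trans inf_le_right),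
      hu.le.trans inf_le_right⟩
  choose u hu hxu huB using hline
  have hout : ∀ (x : {x : Sub F U 1 // x.1 ≤ h.pl a}) (t : Sub F U 1), t.1 ≤ x.1.1 ⊔ (u x).1 → t ≠ x.1 → t ≠ u x →
      h.pl t ≠ h.pl a ∧ h.pl t ≠ h.pl b := by
    intro x t ht htx htu
    constructor <;> intro e
    · have hta : t.1 ≤ h.pl a := e ▸ (h.pl_spec t).1
      refine htx (eq_of_pt_le ((le_inf ht hta).trans ?_))
      rw [sup_inf_assoc_of_le _ x.2, le_bot_iff.mp ((inf_le_inf_right _ (huB x)).trans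
        (h.pl_disjoint (Ne.symm hab)).le), sup_bot_eq]
    · have htb : t.1 ≤ h.pl b := e ▸ (h.pl_spec t).1
      refine htu (eq_of_pt_le ((le_inf ht htb).trans ?_))
      rw [sup_comm, sup_inf_assoc_of_le _ (huB x), le_bot_iff.mp ((inf_le_inf_right _ x.2).trans
        (h.pl_disjoint hab).le), sup_bot_eq]
  have hsum : ∑ L ∈ T, (Fix L).card = P := by
    rw [← Finset.card_sigma]
    have h1 : (T.sigma Fix).card =
        Nat.card (Σ x : {x : Sub F U 1 // x.1 ≤ h.pl a}, {t : Sub F U 1 // t.1 ≤ x.1.1 ⊔ (u x).1 ∧ t ≠ x.1 ∧ t ≠ u x}) := by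
      rw [Nat.card_eq_fintype_card, ← Finset.card_univ]
      refine (Finset.card_bij (fun x _ => (⟨h.pl x.2.1, x.1.1⟩ : Σ _ : Submodule F U, Sub F U 1)) ?_ ?_ ?_).symm
      · intro x _
        obtain ⟨hta, htb⟩ := hout x.1 x.2.1 x.2.2.1 x.2.2.2.1 x.2.2.2.2
        refine Finset.mem_sigma.mpr ⟨Finset.mem_erase.mpr ⟨htb, Finset.mem_erase.mpr
          ⟨hta, Finset.mem_image_of_mem _ (Finset.mem_univ _)⟩⟩, Finset.mem_filter.mpr ⟨Finset.mem_univ _, x.1.2, ?_⟩⟩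
        rw [← hu]
        have hLu : (u x.1).1 ⊔ x.2.1.1 = x.1.1.1 ⊔ (u x.1).1 :=
          (eq_line (Ne.symm x.2.2.2.2) le_sup_right x.2.2.1 (finrank_line (hxu x.1)).le).symm
        refine (le_sup_left : x.1.1.1 ≤ x.1.1.1 ⊔ (u x.1).1).trans (hLu.ge.trans ?_)
        exact sup_le le_sup_right ((h.pl_spec x.2.1).1.trans le_sup_left)
      · rintro ⟨x, t, ht, htx, htu⟩ _ ⟨x', t', ht', htx', htu'⟩ _ e
        obtain ⟨e1, e2⟩ := Sigma.mk.inj_iff.mp e
        obtain rfl : x = x' := Subtype.ext (eq_of_heq e2)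
        obtain ⟨hta, -⟩ := hout x t ht htx htu
        have e3 : t'.1 ≤ h.pl t := e1 ▸ (h.pl_spec t').1
        have : t = t' := by
          by_contra hne
          have e4 := eq_line hne ht ht' (finrank_line (hxu x)).le
          have e5 : x.1.1 ≤ h.pl t := le_sup_left.trans (e4.le.trans (sup_le (h.pl_spec t).1 e3))
          exact hta ((h.pl_eq e5).symm.trans (h.pl_eq x.2))
        subst this
        rfl
      · rintro ⟨L, x⟩ hLx
        obtain ⟨hL, hx⟩ := Finset.mem_sigma.mp hLx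
        obtain ⟨c, rfl, hca, hcb⟩ := hmemT L hL
        simp only [Fix, Finset.mem_filter, Finset.mem_univ, true_and] at hx
        obtain ⟨hxA, hxc⟩ := hx
        rw [← hu ⟨x, hxA⟩] at hxc
        have huc : ¬ (u ⟨x, hxA⟩).1 ≤ h.pl c := not_le_disjoint (h.pl_disjoint (Ne.symm hcb)) (huB _)
        obtain ⟨t, ht⟩ : ∃ t : Sub F U 1, t.1 ≤ (x.1 ⊔ (u ⟨x, hxA⟩).1) ⊓ h.pl c := by
          refine exists_pt_le ?_
          have h1 := Submodule.finrank_sup_add_finrank_inf_eq (x.1 ⊔ (u ⟨x, hxA⟩).1) (h.pl c)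
          have h2 : finrank F ↥(x.1 ⊔ (u ⟨x, hxA⟩).1 ⊔ h.pl c) ≤ finrank F ↥(h.pl c ⊔ (u ⟨x, hxA⟩).1) :=
            Submodule.finrank_mono (sup_le (sup_le hxc le_sup_right) le_sup_left)
          rw [finrank_line (hxu ⟨x, hxA⟩), (h.pl_spec c).2.2.1] at h1
          rw [finrank_sup_pt huc, (h.pl_spec c).2.2.1] at h2
          omega
        have htc : t.1 ≤ h.pl c := ht.trans inf_le_right
        refine ⟨⟨⟨x, hxA⟩, t, ht.trans inf_le_left, fun e => not_le_disjoint (h.pl_disjoint (Ne.symm hca)) hxA ((le_of_eq (congrArg Subtype.val e).symm).trans htc),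
          fun e => huc ((le_of_eq (congrArg Subtype.val e).symm).trans htc)⟩, Finset.mem_univ _, ?_⟩
        rw [h.pl_eq htc]
    have h2 : ∀ x : {x : Sub F U 1 // x.1 ≤ h.pl a},
        Nat.card {t : Sub F U 1 // t.1 ≤ x.1.1 ⊔ (u x).1 ∧ t ≠ x.1 ∧ t ≠ u x} = q - 1 := by
      intro x
      have h5 := card_pts_dim (x.1.1 ⊔ (u x).1)
      rw [finrank_line (hxu x)] at h5
      change _ * (q - 1) + 1 = q ^ 2 at h5
      have h8 : Nat.card {t : Sub F U 1 // t.1 ≤ x.1.1 ⊔ (u x).1} = q + 1 :=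
        Nat.eq_of_mul_eq_mul_right (show 0 < q - 1 by omega) (by
          have : (q + 1) * (q - 1) + 1 = q ^ 2 := by rw [hk, show k + 2 - 1 = k + 1 by omega]; ring
          omega)
      rw [Nat.card_eq_fintype_card, Fintype.card_subtype] at h8 ⊢
      rw [show (Finset.univ.filter fun t : Sub F U 1 => t.1 ≤ x.1.1 ⊔ (u x).1 ∧ t ≠ x.1 ∧ t ≠ u x) =
          ((Finset.univ.filter fun t : Sub F U 1 => t.1 ≤ x.1.1 ⊔ (u x).1).erase x.1).erase (u x) by
        ext t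
        simp only [Finset.mem_filter, Finset.mem_univ, true_and, Finset.mem_erase]
        tauto,
        Finset.card_erase_of_mem, Finset.card_erase_of_mem, h8]
      rotate_left
      · exact Finset.mem_filter.mpr ⟨Finset.mem_univ _, le_sup_left⟩
      · exact Finset.mem_erase.mpr ⟨Ne.symm (hxu x), Finset.mem_filter.mpr ⟨Finset.mem_univ _, le_sup_right⟩⟩
      omega
    rw [h1, Nat.card_sigma, Finset.sum_congr rfl (fun x _ => h2 x), Finset.sum_const, smul_eq_mul, Finset.card_univ,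
      ← Nat.card_eq_fintype_card]
    have := h3c a
    omega
  obtain ⟨L, hL, hle⟩ := Finset.exists_le_of_sum_le (s := T) (f := fun L => (Fix L).card) (g := fun _ => 1)
    (Finset.card_pos.mp (by
      rw [hT]
      have := Nat.pow_le_pow_left hq 3
      omega))
    (by rw [hsum, Finset.sum_const, smul_eq_mul, mul_one, hT])
  obtain ⟨p₀, hp₀⟩ := Finset.card_pos.mp (hpos L hL)
  obtain ⟨c, rfl, hca, hcb⟩ := hmemT L hL
  let g : Sub F U 1 → Sub F U 1 := fun x =>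
    if hx : x.1 ≤ h.pl a then (h.sig_spec hab hca hcb hx).choose else x
  have hg : ∀ {x : Sub F U 1}, x.1 ≤ h.pl a → (g x).1 = h.sig a b c x := fun {x} hx => by
    simp only [g, dif_pos hx]
    exact (h.sig_spec hab hca hcb hx).choose_spec.1
  have hgA : ∀ x : Sub F U 1, x.1 ≤ h.pl a → (g x).1 ≤ h.pl a := fun x hx => (hg hx).le.trans inf_le_left
  refine no_unique_fixed (h.pl_spec a).2.2.1 g hgA
    (fun x hx => Subtype.ext ((hg (hgA x hx)).trans (h.sig_sig hab hca hcb hx (hg hx))))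
    (fun x y z hx hy hz => by
      rw [hg hx, hg hy, hg (hz.trans (sup_le hx hy))]
      exact h.sig_collinear hab hca hcb hx hy hz)
    (Finset.mem_filter.mp hp₀).2.1 fun x hx e => ?_
  exact Finset.card_le_one.mp hle x ((hfix hca hcb hx).mp (by rw [← hg hx, e])) p₀ hp₀

end CfsgLib.SingerSeven
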