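/-
The groups on the quotients by points are doubly transitive.
-/
import Cfsg.Agent.Lib.SingerSeven.KillFour
import Cfsg.Agent.Lib.SingerSeven.KillFive

set_option autoImplicit false
set_option linter.unusedSectionVars false
set_option linter.style.haveILetI false
set_option maxHeartbeats 1000000

namespace CfsgLib.SingerSeven

open Module
open CfsgLib.SingerFive (Sub pt exists_pt smul_pt dualE dualE_apply sub_smul_val finite_field finiteDim PairTrans mulE
  mulE_apply autE autE_apply)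

section

variable {F U U' : Type*} [Field F] [AddCommGroup U] [Module F U] [Finite U] [AddCommGroup U'] [Module F U'] [Finite U']

theorem pairTrans_of_one {X : Subgroup (U ≃ₗ[F] U)} (h : AntiTrans X) (hk : 2 ≤ finrank F U)
    (h1 : ∀ a, finrank F (nb X a) = 1) : PairTrans X := by
  haveI : FiniteDimensional F U := Module.Finite.of_finite
  intro P Q P' Q' hne hne'
  obtain ⟨g, hg, e⟩ := h.pts P P'
  have hnb : nb X P' = P'.1 := (Submodule.eq_of_le_of_finrank_le (h.self_le hk P') (by rw [h1, P'.2])).symm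
  have hoff : ∀ R : Sub F U 1, R ≠ P' → ¬ R.1 ≤ nb X P' := fun R hR hle => by
    rw [hnb] at hle
    exact hR (eq_of_pt_le hle)
  obtain ⟨k, hk', hkP, hkQ⟩ := (h.good hk P').2.2.2 (g • Q) Q'
    (hoff _ fun e' => hne (MulAction.injective g (e.trans e'.symm))) (hoff _ (Ne.symm hne'))
  exact ⟨k * g, mul_mem hk' hg, by rw [mul_smul, e, hkP], by rw [mul_smul, hkQ]⟩

/-- Two groups corresponding under an equivalence of the spaces. -/
def Corr (e : U ≃ₗ[F] U') (X : Subgroup (U ≃ₗ[F] U)) (X' : Subgroup (U' ≃ₗ[F] U')) : Prop :=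
  ∀ g' : U' ≃ₗ[F] U', g' ∈ X' ↔ ∃ g ∈ X, ∀ x, e (g x) = g' (e x)

/-- Conjugation by an equivalence. -/
def conjE (e : U ≃ₗ[F] U') (g : U ≃ₗ[F] U) : U' ≃ₗ[F] U' := (e.symm.trans g).trans e

theorem conjE_apply (e : U ≃ₗ[F] U') (g : U ≃ₗ[F] U) (x : U) : conjE e g (e x) = e (g x) := by
  show e (g (e.symm (e x))) = e (g x)
  rw [e.symm_apply_apply]

theorem Corr.conjE_mem {e : U ≃ₗ[F] U'} {X : Subgroup (U ≃ₗ[F] U)} {X' : Subgroup (U' ≃ₗ[F] U')} (hc : Corr e X X')
    {g : U ≃ₗ[F] U} (hg : g ∈ X) : conjE e g ∈ X' := (hc _).mpr ⟨g, hg, fun x => (conjE_apply e g x).symm⟩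

theorem subEquiv_smul {e : U ≃ₗ[F] U'} {g : U ≃ₗ[F] U} {g' : U' ≃ₗ[F] U'} (h : ∀ x, e (g x) = g' (e x))
    (P : Sub F U 1) : g' • subEquiv e P = subEquiv e (g • P) := by
  refine Subtype.ext ?_
  rw [sub_smul_val, subEquiv_val, subEquiv_val, sub_smul_val, ← Submodule.map_comp, ← Submodule.map_comp]
  congr 1
  exact LinearMap.ext fun x => (h x).symm

theorem subEquiv_le (e : U ≃ₗ[F] U') (P : Sub F U 1) (L : Submodule F U) :
    (subEquiv e P).1 ≤ L.map (e : U →ₗ[F] U') ↔ P.1 ≤ L := by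
  rw [subEquiv_val]
  exact Submodule.map_le_map_iff_of_injective e.injective P.1 L

theorem pairTrans_corr {e : U ≃ₗ[F] U'} {X : Subgroup (U ≃ₗ[F] U)} {X' : Subgroup (U' ≃ₗ[F] U')} (hc : Corr e X X')
    (h : PairTrans X) : PairTrans X' := by
  intro A B A' B' hne hne'
  obtain ⟨P, rfl⟩ := (subEquiv e).surjective A
  obtain ⟨Q, rfl⟩ := (subEquiv e).surjective B
  obtain ⟨P', rfl⟩ := (subEquiv e).surjective A'
  obtain ⟨Q', rfl⟩ := (subEquiv e).surjective B'
  obtain ⟨g, hg, e1, e2⟩ := h P Q P' Q' (fun e' => hne (by rw [e'])) (fun e' => hne' (by rw [e']))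
  refine ⟨conjE e g, hc.conjE_mem hg, ?_, ?_⟩
  · rw [subEquiv_smul (fun x => (conjE_apply e g x).symm), e1]
  · rw [subEquiv_smul (fun x => (conjE_apply e g x).symm), e2]

theorem nb_corr {e : U ≃ₗ[F] U'} {X : Subgroup (U ≃ₗ[F] U)} {X' : Subgroup (U' ≃ₗ[F] U')} (hc : Corr e X X')
    (h : AntiTrans X) (h' : AntiTrans X') (hk : 2 ≤ finrank F U) (a : Sub F U 1) :
    nb X' (subEquiv e a) = (nb X a).map (e : U →ₗ[F] U') := by
  have hk' : 2 ≤ finrank F U' := by rw [← e.finrank_eq]; exact hk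
  have hg := h.good hk a
  refine h'.nb_eq hk' ⟨(subEquiv_le e a _).mpr hg.1, fun e' => hg.2.1 ?_, fun g' hg' hga => ?_, fun A B hA hB => ?_⟩
  · exact Submodule.map_injective_of_injective (f := (e : U →ₗ[F] U')) e.injective
      (e'.trans (by rw [Submodule.map_top, LinearEquiv.range]))
  · obtain ⟨g, hgX, hge⟩ := (hc g').mp hg'
    have hga' : g • a = a := (subEquiv e).injective (by rw [← subEquiv_smul hge, hga])
    conv_rhs => rw [← hg.2.2.1 g hgX hga']
    rw [← Submodule.map_comp, ← Submodule.map_comp]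
    congr 1
    exact LinearMap.ext fun x => (hge x).symm
  · obtain ⟨P, rfl⟩ := (subEquiv e).surjective A
    obtain ⟨Q, rfl⟩ := (subEquiv e).surjective B
    rw [subEquiv_le] at hA hB
    obtain ⟨g, hgX, e1, e2⟩ := hg.2.2.2 P Q hA hB
    exact ⟨conjE e g, hc.conjE_mem hgX, by rw [subEquiv_smul (fun x => (conjE_apply e g x).symm), e1],
      by rw [subEquiv_smul (fun x => (conjE_apply e g x).symm), e2]⟩

/-- Corresponding groups have the same dimensions on the quotients. -/
theorem finrank_qgrp_corr {e : U ≃ₗ[F] U'} {X : Subgroup (U ≃ₗ[F] U)} {X' : Subgroup (U' ≃ₗ[F] U')}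
    (hc : Corr e X X') (h : PairTrans X) (h' : PairTrans X') (hn : 3 ≤ finrank F U) (a : Sub F U 1)
    (P : Sub F (U ⧸ a.1) 1) (a' : Sub F U' 1) (P' : Sub F (U' ⧸ a'.1) 1) :
    finrank F (nb (qgrp X' a') P') = finrank F (nb (qgrp X a) P) := by
  haveI : Finite (U ⧸ a.1) := Quotient.finite _
  have hn' : 3 ≤ finrank F U' := by rw [← e.finrank_eq]; exact hn
  set b := subEquiv e a
  haveI : Finite (U' ⧸ b.1) := Quotient.finite _
  let ē : (U ⧸ a.1) ≃ₗ[F] (U' ⧸ b.1) := Submodule.Quotient.equiv a.1 b.1 e rfl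
  have hc' : Corr ē (qgrp X a) (qgrp X' b) := by
    intro x'
    constructor
    · rintro ⟨⟨g', hg', hgb⟩, rfl⟩
      obtain ⟨g, hg, hge⟩ := (hc g').mp hg'
      have hga : g • a = a := (subEquiv e).injective (by rw [← subEquiv_smul hge]; exact hgb)
      refine ⟨_, mem_qgrp hg hga, fun x => ?_⟩
      obtain ⟨y, rfl⟩ := a.1.mkQ_surjective x
      exact congrArg b.1.mkQ (hge y)
    · rintro ⟨_, ⟨⟨g, hg, hga⟩, rfl⟩, hx⟩
      have hgb : conjE e g • b = b := by
        rw [subEquiv_smul (fun x => (conjE_apply e g x).symm), show g • a = a from hga]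
      refine ⟨⟨conjE e g, hc.conjE_mem hg, hgb⟩, LinearEquiv.ext fun z => ?_⟩
      obtain ⟨z, rfl⟩ := ē.surjective z
      obtain ⟨y, rfl⟩ := a.1.mkQ_surjective z
      rw [← hx]
      show b.1.mkQ (conjE e g (e y)) = b.1.mkQ (e (g y))
      rw [conjE_apply]
  have hk : 2 ≤ finrank F (U ⧸ a.1) := by have := finrank_quot a; omega
  rw [finrank_nb_qgrp h' hn' a' b P' (subEquiv ē P),
    nb_corr hc' (qgrp_antiTrans h (by omega) a) (qgrp_antiTrans h' (by omega) b) hk P, LinearEquiv.finrank_map_eq]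

/-- A six-space with subspaces of dimension four is excluded. -/
theorem not_four {X : Subgroup (U ≃ₗ[F] U)} (h : AntiTrans X) (hU : finrank F U = 6) :
    ¬ ∀ a, finrank F (nb X a) = 4 := fun h4 => by
  haveI : FiniteDimensional F U := Module.Finite.of_finite
  haveI : Nontrivial U := Module.nontrivial_of_finrank_pos (R := F) (by omega)
  haveI : Finite F := finite_field (V := U)
  exact (FourSys.mk h hU h4).false

end

section

variable {F L : Type*} [Field F] [Field L] [Algebra F L] [Finite L] {M : Subgroup (L ≃ₗ[F] L)}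

/-- The dual group is again an overgroup of the Singer normaliser. -/
theorem Over.exists_dual (O : Over M) : ∃ (M' : Subgroup (L ≃ₗ[F] L)) (D : L ≃ₗ[F] Dual F L),
    Over M' ∧ Corr D M' (M.map (dualE : (L ≃ₗ[F] L) →* _)) ∧ Corr D.symm (M.map (dualE : (L ≃ₗ[F] L) →* _)) M' := by
  classical
  haveI : Finite F := Finite.of_injective _ (algebraMap F L).injective
  haveI : FiniteDimensional F L := finiteDim
  haveI : Finite (Dual F L) := finite_dual
  let D := (Algebra.traceForm F L).toDual (traceForm_nondegenerate F L)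
  have hD : ∀ x y, D x y = Algebra.trace F L (x * y) := fun x y => by
    rw [← Algebra.traceForm_apply]
    exact LinearMap.BilinForm.toDual_def _
  have hmem : ∀ {g : L ≃ₗ[F] L}, (∃ h ∈ M, ∀ x, D (g x) = dualE h (D x)) →
      conjE D g ∈ M.map (dualE : (L ≃ₗ[F] L) →* _) := by
    rintro g ⟨h, hh, he⟩
    refine ⟨h, hh, LinearEquiv.ext fun φ => ?_⟩
    obtain ⟨x, rfl⟩ := D.surjective φ
    rw [conjE_apply, he]
  let M' : Subgroup (L ≃ₗ[F] L) :=
    { carrier := {g | ∃ h ∈ M, ∀ x, D (g x) = dualE h (D x)}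
      one_mem' := ⟨1, one_mem M, fun x => by rw [map_one]; rfl⟩
      mul_mem' := by
        rintro g g' ⟨h, hh, he⟩ ⟨h', hh', he'⟩
        refine ⟨h * h', mul_mem hh hh', fun x => ?_⟩
        rw [map_mul, LinearEquiv.mul_apply, LinearEquiv.mul_apply, he, he']
      inv_mem' := by
        rintro g ⟨h, hh, he⟩
        refine ⟨h⁻¹, inv_mem hh, fun x => ?_⟩
        have h1 := he (g.symm x)
        rw [g.apply_symm_apply] at h1
        rw [map_inv, h1]
        exact ((dualE h).symm_apply_apply _).symm }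
  have hdet : ∀ h ∈ M, LinearMap.det ((dualE h : Dual F L ≃ₗ[F] Dual F L) : Dual F L →ₗ[F] Dual F L) = 1 := by
    intro h hh
    rw [show ((dualE h : Dual F L ≃ₗ[F] Dual F L) : Dual F L →ₗ[F] Dual F L) =
      ((h⁻¹ : L ≃ₗ[F] L) : L →ₗ[F] L).dualMap from LinearMap.ext fun φ => rfl, LinearMap.det_dualMap,
      O.det _ (inv_mem hh)]
  refine ⟨M', D, ⟨O.finrank, ?_, ?_, ?_⟩, fun φ => ⟨?_, ?_⟩, fun g => ⟨?_, ?_⟩⟩
  · rintro g ⟨h, hh, he⟩
    rw [show (g : L →ₗ[F] L) = ((D.symm : Dual F L →ₗ[F] L)).comp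
      (((dualE h : Dual F L ≃ₗ[F] Dual F L) : Dual F L →ₗ[F] Dual F L).comp (D : L →ₗ[F] Dual F L)) from
      LinearMap.ext fun x => by
        show g x = D.symm (dualE h (D x))
        rw [← he, D.symm_apply_apply]]
    have := LinearMap.det_conj ((dualE h : Dual F L ≃ₗ[F] Dual F L) : Dual F L →ₗ[F] Dual F L) D.symm
    rw [LinearEquiv.symm_symm] at this
    rw [this, hdet h hh]
  · intro u hu
    refine ⟨mulE u⁻¹, O.mul _ ?_, fun x => LinearMap.ext fun y => ?_⟩
    · have h1 : Algebra.norm F ((u * u⁻¹ : Lˣ) : L) = 1 := by rw [mul_inv_cancel, Units.val_one, map_one]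
      rwa [Units.val_mul, map_mul, hu, one_mul] at h1
    · rw [dualE_apply, hD, hD, mulE_apply, show (mulE u⁻¹ : L ≃ₗ[F] L).symm y = (u : L) * y by
        rw [LinearEquiv.symm_apply_eq, mulE_apply, Units.inv_mul_cancel_left]]
      congr 1
      ring
  · intro τ
    refine ⟨autE τ, O.aut τ, fun x => LinearMap.ext fun y => ?_⟩
    rw [dualE_apply, hD, hD, autE_apply]
    obtain ⟨z, rfl⟩ : ∃ z, autE τ z = y := ⟨(autE τ).symm y, (autE τ).apply_symm_apply y⟩
    rw [LinearEquiv.symm_apply_apply, autE_apply, ← map_mul]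
    exact Algebra.trace_eq_of_algEquiv τ _
  · rintro ⟨h, hh, rfl⟩
    exact ⟨conjE D.symm (dualE h), ⟨h, hh, fun x => by
      show D (D.symm (dualE h (D x))) = _
      rw [D.apply_symm_apply]⟩, fun x => by
        show D (D.symm (dualE h (D x))) = _
        rw [D.apply_symm_apply]⟩
  · rintro ⟨g, hg, he⟩
    rw [show φ = conjE D g from LinearEquiv.ext fun ψ => by
      obtain ⟨x, rfl⟩ := D.surjective ψ
      rw [conjE_apply, he]]
    exact hmem hg
  · rintro ⟨h, hh, he⟩
    exact ⟨dualE h, ⟨h, hh, rfl⟩, fun φ => by rw [D.symm_apply_eq, he, D.apply_symm_apply]⟩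
  · rintro ⟨_, ⟨h, hh, rfl⟩, he⟩
    exact ⟨h, hh, fun x => by
      have := he (D x)
      rw [D.symm_apply_apply] at this
      rw [← this, D.apply_symm_apply]⟩

/-- The groups on the quotients by points are doubly transitive. -/
theorem Over.pairs_qgrp (O : Over M) (h2 : PairTrans M) (a : Sub F L 1) : PairTrans (qgrp M a) := by
  classical
  haveI : Finite F := Finite.of_injective _ (algebraMap F L).injective
  haveI : FiniteDimensional F L := finiteDim
  haveI : Finite (Dual F L) := finite_dual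
  haveI : Finite (L ⧸ a.1) := Quotient.finite _
  have hn : 3 ≤ Module.finrank F L := by rw [O.finrank]; norm_num
  have hU : Module.finrank F (L ⧸ a.1) = 6 := by have := finrank_quot a; rw [O.finrank] at this; omega
  have hX := qgrp_antiTrans h2 (by omega) a
  have hk : 2 ≤ Module.finrank F (L ⧸ a.1) := by omega
  refine pairTrans_of_one hX hk fun P => ?_
  have hconst : ∀ Q, Module.finrank F (nb (qgrp M a) Q) = Module.finrank F (nb (qgrp M a) P) := fun Q =>
    finrank_nb_qgrp h2 hn a a Q P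
  have h1 : 1 ≤ Module.finrank F (nb (qgrp M a) P) := by
    exact (le_of_eq P.2.symm).trans (Submodule.finrank_mono (hX.self_le hk P))
  have h5 : Module.finrank F (nb (qgrp M a) P) < 6 := by
    rw [← hU]
    exact Submodule.finrank_lt (hX.good hk P).2.1
  by_contra hne
  obtain ⟨Φ, -⟩ := exists_off (F := F) (pt (1 : L) one_ne_zero)
  haveI : Finite (Dual F L ⧸ Φ.1) := Quotient.finite _
  have hd : Module.finrank F (Dual F L ⧸ Φ.1) = 6 := by
    have := finrank_quot Φ
    rw [Subspace.dual_finrank_eq, O.finrank] at this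
    omega
  have hd3 : 3 ≤ Module.finrank F (Dual F L) := by rw [Subspace.dual_finrank_eq]; exact hn
  have h2' := pairTrans_dual h2 hn
  have hY := qgrp_antiTrans h2' (by omega) Φ
  obtain ⟨A, -⟩ := exists_pt_le (F := F) (U := Dual F L ⧸ Φ.1) (L := ⊤) (by rw [finrank_top, hd]; norm_num)
  have hco := coupling h2 hn a P Φ A (by omega)
  rw [O.finrank] at hco
  have h5' : Module.finrank F (nb (qgrp (M.map (dualE : (L ≃ₗ[F] L) →* _)) Φ) A) < 6 := by
    rw [← hd]
    exact Submodule.finrank_lt (hY.good (by omega) A).2.1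
  have hne4 : Module.finrank F (nb (qgrp M a) P) ≠ 4 := fun e => not_four hX hU fun Q => (hconst Q).trans e
  have hne5 := O.not_five h2 a P
  have hne4' : Module.finrank F (nb (qgrp (M.map (dualE : (L ≃ₗ[F] L) →* _)) Φ) A) ≠ 4 := fun e =>
    not_four hY hd fun B => (finrank_nb_qgrp h2' hd3 Φ Φ B A).trans e
  obtain ⟨M', D, O', hc, hc'⟩ := O.exists_dual
  have hM' := pairTrans_corr hc' h2'
  have hne5' : Module.finrank F (nb (qgrp (M.map (dualE : (L ≃ₗ[F] L) →* _)) Φ) A) ≠ 5 := by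
    have h3 : 3 ≤ Module.finrank F L := hn
    let b : Sub F L 1 := pt 1 one_ne_zero
    haveI : Finite (L ⧸ b.1) := Quotient.finite _
    obtain ⟨B, -⟩ := exists_pt_le (F := F) (U := L ⧸ b.1) (L := ⊤) (by
      have := finrank_quot b
      rw [O.finrank] at this
      rw [finrank_top]
      omega)
    rw [finrank_qgrp_corr hc hM' h2' h3 b B Φ A]
    exact O'.not_five hM' b B
  omega

end

end CfsgLib.SingerSeven
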