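/-
An antiflag transitive group of a five-space coming from a doubly transitive one is doubly transitive.
-/
import Cfsg.Agent.Lib.SingerSeven.Dim

set_option autoImplicit false
set_option linter.unusedSectionVars false
set_option linter.style.haveILetI false
set_option maxHeartbeats 1000000

namespace CfsgLib.SingerSeven

open Module
open CfsgLib.SingerFive (Sub pt exists_pt smul_pt pt_eq_pt dualE sub_smul_val finite_field PairTrans)

section

variable {F U : Type*} [Field F] [AddCommGroup U] [Module F U] [Finite U] {X : Subgroup (U ≃ₗ[F] U)}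

/-- The subspaces at the points of a five-space are not hyperplanes. -/
theorem not_hyper (h : AntiTrans X) (hU : finrank F U = 5) : ¬ ∀ a, finrank F (nb X a) = 4 := by
  classical
  intro h4
  haveI : FiniteDimensional F U := Module.Finite.of_finite
  have hk : 2 ≤ finrank F U := by omega
  let W : U → Submodule F U := fun v => if hv : v = 0 then ⊥ else nb X (pt v hv)
  have hW : ∀ (v : U) (hv : v ≠ 0), W v = nb X (pt v hv) := fun v hv => dif_neg hv
  have hself : ∀ x, x ≠ 0 → x ∈ W x := fun x hx => by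
    rw [hW x hx]
    exact h.self_le hk _ (Submodule.mem_span_singleton_self x)
  have hsymm : ∀ x y, x ≠ 0 → y ≠ 0 → y ∈ W x → x ∈ W y := fun x y hx hy hm => by
    rw [hW x hx] at hm
    rw [hW y hy]
    exact h.nb_symm hk (a := pt x hx) (b := pt y hy) ((Submodule.span_singleton_le_iff_mem _ _).mpr hm)
      (Submodule.mem_span_singleton_self x)
  have hdim : ∀ x, x ≠ 0 → finrank F (W x) + 1 = finrank F U := fun x hx => by rw [hW x hx, h4, hU]
  obtain ⟨β, hβ⟩ := exists_polar W hdim hself hsymm (fun x y hx hy e => by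
    rw [hW x hx, hW y hy] at e
    obtain ⟨c, -, hc⟩ := pt_eq_pt hx hy (h.nb_inj hk (by rw [h4, hU]) e)
    exact ⟨c, hc⟩)
  haveI : Nontrivial U := Module.nontrivial_of_finrank_pos (R := F) (by omega)
  obtain ⟨x, hx⟩ := exists_ne (0 : U)
  obtain ⟨y, hy, hyx⟩ := SetLike.not_le_iff_exists.mp (show ¬ W x ≤ F ∙ x from fun e => by
    have h1 := Submodule.finrank_mono e
    rw [finrank_span_singleton hx] at h1
    have := hdim x hx
    omega)
  have hy0 : y ≠ 0 := fun e => hyx (e ▸ zero_mem _)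
  have hl : finrank F ↥(F ∙ x ⊔ F ∙ y) ≤ 2 := by
    have h1 := Submodule.finrank_sup_add_finrank_inf_eq (F ∙ x) (F ∙ y)
    rw [finrank_span_singleton hx, finrank_span_singleton hy0] at h1
    omega
  obtain ⟨z, hz, hzl⟩ := SetLike.not_le_iff_exists.mp (show ¬ W x ⊓ W y ≤ F ∙ x ⊔ F ∙ y from fun e => by
    have h1 := Submodule.finrank_mono e
    have h2 := Submodule.finrank_sup_add_finrank_inf_eq (W x) (W y)
    have h3 := Submodule.finrank_le (W x ⊔ W y)
    have := hdim x hx
    have := hdim y hy0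
    omega)
  have hz0 : z ≠ 0 := fun e => hzl (e ▸ zero_mem _)
  let T : Submodule F U := F ∙ x ⊔ F ∙ y ⊔ F ∙ z
  have hT : 3 ≤ finrank F T := by
    have h1 : F ∙ x ⊔ F ∙ y < T := lt_of_le_of_ne le_sup_left fun e =>
      hzl (e ▸ Submodule.mem_sup_right (Submodule.mem_span_singleton_self z))
    have h2 : F ∙ x < F ∙ x ⊔ F ∙ y := lt_of_le_of_ne le_sup_left fun e =>
      hyx (e ▸ Submodule.mem_sup_right (Submodule.mem_span_singleton_self y))
    have h3 := Submodule.finrank_lt_finrank_of_lt h1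
    have h4' := Submodule.finrank_lt_finrank_of_lt h2
    rw [finrank_span_singleton hx] at h4'
    omega
  have hgen : ∀ a, a ≠ 0 → x ∈ W a → y ∈ W a → z ∈ W a → β a ∈ T.dualAnnihilator := fun a ha h1 h2 h3 => by
    rw [Submodule.mem_dualAnnihilator]
    intro b hb
    have hle : T ≤ LinearMap.ker (β a) := by
      rw [hβ a ha]
      exact sup_le (sup_le ((Submodule.span_singleton_le_iff_mem _ _).mpr h1)
        ((Submodule.span_singleton_le_iff_mem _ _).mpr h2)) ((Submodule.span_singleton_le_iff_mem _ _).mpr h3)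
    exact LinearMap.mem_ker.mp (hle hb)
  have hle : T.map β ≤ T.dualAnnihilator := by
    rw [Submodule.map_le_iff_le_comap]
    refine sup_le (sup_le ?_ ?_) ?_ <;> rw [Submodule.span_singleton_le_iff_mem, Submodule.mem_comap]
    · exact hgen x hx (hself x hx) hy hz.1
    · exact hgen y hy0 (hsymm _ _ hx hy0 hy) (hself y hy0) hz.2
    · exact hgen z hz0 (hsymm _ _ hx hz0 hz.1) (hsymm _ _ hy0 hz0 hz.2) (hself z hz0)
  have hinj : Function.Injective β := by
    rw [← LinearMap.ker_eq_bot]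
    refine (Submodule.eq_bot_iff _).mpr fun a ha => ?_
    by_contra ha0
    have h1 := hdim a ha0
    rw [← hβ a ha0, LinearMap.mem_ker.mp ha, LinearMap.ker_zero, finrank_top] at h1
    omega
  have h1 := Submodule.finrank_mono hle
  rw [← (Submodule.equivMapOfInjective β hinj T).finrank_eq] at h1
  have h2 := Subspace.finrank_add_finrank_dualAnnihilator_eq T
  omega

/-- Common neighbours in a five-space with planes at the points: one point or a line. -/
theorem plane_meets (h : AntiTrans X) (hU : finrank F U = 5) (h3 : ∀ a, finrank F (nb X a) = 3) (p : Sub F U 1) :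
    (∀ s : Sub F U 1, ¬ s.1 ≤ nb X p → finrank F ↥(nb X p ⊓ nb X s) = 1) ∧
      ∀ z : Sub F U 1, z.1 ≤ nb X p → z ≠ p → finrank F ↥(nb X p ⊓ nb X z) = 2 := by
  classical
  haveI : FiniteDimensional F U := Module.Finite.of_finite
  haveI : Nontrivial U := Module.nontrivial_of_finrank_pos (R := F) (by omega)
  haveI : Finite F := finite_field (V := U)
  haveI : Fintype (Sub F U 1) := Fintype.ofFinite _
  have hk : 2 ≤ finrank F U := by omega
  let Z := {z : Sub F U 1 // z.1 ≤ nb X p ∧ ¬ z.1 ≤ p.1}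
  set q := Nat.card F
  have hq : 2 ≤ q := Finite.one_lt_card
  have hlam : ∀ z : Z, 2 ≤ finrank F ↥(nb X p ⊓ nb X z.1) := fun z => by
    rw [← finrank_line (show p ≠ z.1 from fun e => z.2.2 (e ▸ le_rfl))]
    exact Submodule.finrank_mono (sup_le (le_inf (h.self_le hk p) (h.nb_symm hk z.2.1))
      (le_inf z.2.1 (h.self_le hk _)))
  have hm1 : ∀ s : Sub F U 1, 1 ≤ finrank F ↥(nb X p ⊓ nb X s) := fun s => by
    have h1 := Submodule.finrank_sup_add_finrank_inf_eq (nb X p) (nb X s)
    have h2 := Submodule.finrank_le (nb X p ⊔ nb X s)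
    rw [h3, h3] at h1
    omega
  obtain ⟨s₀, hs₀, -⟩ := exists_pt_not_le_two (h.good hk p).2.1 (h.good hk p).2.1
  set m := finrank F ↥(nb X p ⊓ nb X s₀) with hmdef
  have hm : ∀ s : Sub F U 1, ¬ s.1 ≤ nb X p → finrank F ↥(nb X p ⊓ nb X s) = m := fun s hs => by
    obtain ⟨g, hg, hgp, rfl⟩ := (h.good hk p).2.2.2 s₀ s hs₀ hs
    conv_lhs => rw [← hgp]
    rw [h.nb_smul hk hg, h.nb_smul hk hg, ← Submodule.map_inf (g : U →ₗ[F] U) g.injective, LinearEquiv.finrank_map_eq]
  have hpairs : Nat.card (Σ s : {s : Sub F U 1 // ¬ s.1 ≤ nb X p}, {z : Sub F U 1 // z.1 ≤ nb X p ⊓ nb X s.1}) =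
      Nat.card (Σ z : Z, {s : Sub F U 1 // s.1 ≤ nb X z.1 ∧ ¬ s.1 ≤ nb X p ⊓ nb X z.1}) :=
    Nat.card_congr
      { toFun := fun x => ⟨⟨x.2.1, x.2.2.trans inf_le_left, fun e => x.1.2 (h.nb_symm hk (by
            have := x.2.2.trans inf_le_right
            rwa [eq_of_pt_le e] at this))⟩,
          x.1.1, h.nb_symm hk (x.2.2.trans inf_le_right), fun e => x.1.2 (e.trans inf_le_left)⟩
        invFun := fun x => ⟨⟨x.2.1, fun e => x.2.2.2 (le_inf e x.2.2.1)⟩, x.1.1, le_inf x.1.2.1 (h.nb_symm hk x.2.2.1)⟩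
        left_inv := fun _ => rfl
        right_inv := fun _ => rfl }
  rw [Nat.card_sigma, Nat.card_sigma] at hpairs
  have hN : Nat.card {s : Sub F U 1 // ¬ s.1 ≤ nb X p} * (q - 1) + q ^ 3 = q ^ 5 := by
    have h1 := card_pts_diff (L := (⊤ : Submodule F U)) (L' := nb X p) le_top
    rw [h3, finrank_top, hU] at h1
    rw [← h1, Nat.card_congr (Equiv.subtypeEquivRight fun s : Sub F U 1 =>
      (and_iff_right (le_top : s.1 ≤ (⊤ : Submodule F U))).symm)]
  have hZ : Nat.card Z * (q - 1) + q = q ^ 3 := by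
    have h1 := card_pts_diff (L := nb X p) (L' := p.1) (h.self_le hk p)
    rwa [h3, p.2, pow_one] at h1
  have hL : (∑ s : {s : Sub F U 1 // ¬ s.1 ≤ nb X p}, Nat.card {z : Sub F U 1 // z.1 ≤ nb X p ⊓ nb X s.1}) * (q - 1) +
      Nat.card {s : Sub F U 1 // ¬ s.1 ≤ nb X p} = Nat.card {s : Sub F U 1 // ¬ s.1 ≤ nb X p} * q ^ m := by
    rw [Finset.sum_mul, Nat.card_eq_fintype_card (α := {s : Sub F U 1 // ¬ s.1 ≤ nb X p}), ← Finset.card_univ,
      Finset.card_eq_sum_ones, ← Finset.sum_add_distrib, Finset.sum_congr rfl fun s _ => by rw [card_pts_dim, hm s.1 s.2],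
      Finset.sum_const, Finset.sum_const, smul_eq_mul, smul_eq_mul, mul_one]
  have hR : (∑ z : Z, Nat.card {s : Sub F U 1 // s.1 ≤ nb X z.1 ∧ ¬ s.1 ≤ nb X p ⊓ nb X z.1}) * (q - 1) +
      ∑ z : Z, q ^ finrank F ↥(nb X p ⊓ nb X z.1) = Nat.card Z * q ^ 3 := by
    rw [Finset.sum_mul, ← Finset.sum_add_distrib,
      Finset.sum_congr rfl fun z _ => by rw [card_pts_diff inf_le_right, h3],
      Finset.sum_const, smul_eq_mul, Finset.card_univ, Nat.card_eq_fintype_card (α := Z)]
  rw [hpairs] at hL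
  set A := ∑ z : Z, Nat.card {s : Sub F U 1 // s.1 ≤ nb X z.1 ∧ ¬ s.1 ≤ nb X p ⊓ nb X z.1}
  set N := Nat.card {s : Sub F U 1 // ¬ s.1 ≤ nb X p}
  set T := ∑ z : Z, (q ^ finrank F ↥(nb X p ⊓ nb X z.1) - q ^ 2) with hTdef
  have hsum : ∑ z : Z, q ^ finrank F ↥(nb X p ⊓ nb X z.1) = T + Nat.card Z * q ^ 2 := by
    rw [hTdef, show Nat.card Z * q ^ 2 = ∑ _z : Z, q ^ 2 by
      rw [Finset.sum_const, Finset.card_univ, smul_eq_mul, Nat.card_eq_fintype_card], ← Finset.sum_add_distrib]
    exact Finset.sum_congr rfl fun z _ => (Nat.sub_add_cancel (Nat.pow_le_pow_right (by omega) (hlam z))).symm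
  rw [hsum] at hR
  have hqm : q ≤ q ^ m := Nat.le_self_pow (by have := hm1 s₀; omega) q
  have hkey : N * (q ^ m - q) + T = 0 := by
    zify [hqm]
    have e1 : (N : ℤ) * ((q : ℤ) - 1) + (q : ℤ) ^ 3 = (q : ℤ) ^ 5 := by
      have := congrArg (Nat.cast : ℕ → ℤ) hN
      push_cast [Nat.cast_sub (show 1 ≤ q by omega)] at this
      exact this
    have e2 : (Nat.card Z : ℤ) * ((q : ℤ) - 1) + q = (q : ℤ) ^ 3 := by
      have := congrArg (Nat.cast : ℕ → ℤ) hZ
      push_cast [Nat.cast_sub (show 1 ≤ q by omega)] at this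
      exact this
    zify [show 1 ≤ q by omega] at hL hR
    refine mul_left_cancel₀ (show (q : ℤ) - 1 ≠ 0 by omega) ?_
    linear_combination ((q : ℤ) - 1) * (hR - hL) - ((q : ℤ) - 1) * e1 + ((q : ℤ) ^ 3 - (q : ℤ) ^ 2) * e2
  have hN0 : N ≠ 0 := fun e => by
    rw [e, zero_mul, zero_add] at hN
    have := Nat.pow_lt_pow_right (show 1 < q by omega) (show 3 < 5 by norm_num)
    omega
  obtain ⟨ha, hb⟩ : N * (q ^ m - q) = 0 ∧ T = 0 := by omega
  have hm' : m = 1 := by
    have h1 : q ^ m ≤ q ^ 1 := by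
      rw [pow_one]
      have := (mul_eq_zero.mp ha).resolve_left hN0
      omega
    have h2 := (Nat.pow_le_pow_iff_right (show 1 < q by omega)).mp h1
    have := hm1 s₀
    omega
  refine ⟨fun s hs => (hm s hs).trans hm', fun z hz hzp => ?_⟩
  let z' : Z := ⟨z, hz, fun e => hzp (eq_of_pt_le e)⟩
  have h0 := Finset.sum_eq_zero_iff.mp hb z' (Finset.mem_univ _)
  have h1 : q ^ finrank F ↥(nb X p ⊓ nb X z) ≤ q ^ 2 := Nat.sub_eq_zero_iff_le.mp h0
  exact le_antisymm ((Nat.pow_le_pow_iff_right (show 1 < q by omega)).mp h1) (hlam z')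

open Matrix in
/-- The subspaces at the points of a five-space are not planes. -/
theorem not_plane (h : AntiTrans X) (hU : finrank F U = 5) : ¬ ∀ a, finrank F (nb X a) = 3 := by
  classical
  intro h3
  haveI : FiniteDimensional F U := Module.Finite.of_finite
  haveI : Nontrivial U := Module.nontrivial_of_finrank_pos (R := F) (by omega)
  haveI : Finite F := finite_field (V := U)
  haveI : Fintype (Sub F U 1) := Fintype.ofFinite _
  have hk : 2 ≤ finrank F U := by omega
  set q := Nat.card F with hqdef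
  have hq : 2 ≤ q := Finite.one_lt_card
  set P := Fintype.card (Sub F U 1) with hPdef
  have hP : P * (q - 1) + 1 = q ^ 5 := by
    have h1 := card_pts_dim (F := F) (⊤ : Submodule F U)
    rw [finrank_top, hU, Nat.card_congr (Equiv.subtypeUnivEquiv fun x : Sub F U 1 => le_top), Nat.card_eq_fintype_card] at h1
    exact h1
  have hcount : ∀ L : Submodule F U, (Finset.univ.filter fun z : Sub F U 1 => z.1 ≤ L).card * (q - 1) + 1 = q ^ finrank F L :=
    fun L => by rw [← Fintype.card_subtype, ← Nat.card_eq_fintype_card, card_pts_dim]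
  let R : ℕ := q ^ 2 + q + 1
  have hqs : ∀ n, n * (q - 1) + 1 = q ^ 3 → n = R := fun n hn => by
    refine Nat.eq_of_mul_eq_mul_right (show 0 < q - 1 by omega) ?_
    obtain ⟨k, hk'⟩ : ∃ k, q = k + 1 := ⟨q - 1, by omega⟩
    simp only [R, hk', Nat.add_sub_cancel] at hn ⊢
    nlinarith
  let B : Matrix (Sub F U 1) (Sub F U 1) ℝ := Matrix.of fun x y => if y.1 ≤ nb X x then 1 else 0
  let J : Matrix (Sub F U 1) (Sub F U 1) ℝ := Matrix.of fun _ _ => 1
  have hBT : ∀ x y : Sub F U 1, B x y = B y x := fun x y => by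
    simp only [B, Matrix.of_apply]
    exact if_congr ⟨fun e => h.nb_symm hk e, fun e => h.nb_symm hk e⟩ rfl rfl
  have hrow : ∀ x, ∑ y, B x y = (R : ℝ) := fun x => by
    simp only [B, Matrix.of_apply, Finset.sum_boole]
    exact congrArg Nat.cast (hqs _ (by rw [hcount, h3]))
  have hBJ : B * J = (R : ℝ) • J := by
    ext x y
    simp only [Matrix.mul_apply, J, Matrix.of_apply, mul_one, Matrix.smul_apply, smul_eq_mul, hrow]
  have hJB : J * B = (R : ℝ) • J := by
    ext x y
    simp only [Matrix.mul_apply, J, Matrix.of_apply, one_mul, Matrix.smul_apply, smul_eq_mul, mul_one]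
    rw [← hrow y]
    exact Finset.sum_congr rfl fun z _ => hBT z y
  have hJJ : J * J = (P : ℝ) • J := by
    ext x y
    simp [Matrix.mul_apply, J, P]
  have hB2 : B * B = ((q : ℝ) ^ 2) • (1 : Matrix (Sub F U 1) (Sub F U 1) ℝ) + (q : ℝ) • B + J := by
    ext x y
    have e : (B * B) x y = ((Finset.univ.filter fun z : Sub F U 1 => z.1 ≤ nb X x ⊓ nb X y).card : ℝ) := by
      rw [Matrix.mul_apply, ← Finset.sum_boole]
      refine Finset.sum_congr rfl fun z _ => ?_
      rw [hBT z y]
      simp only [B, Matrix.of_apply, le_inf_iff]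
      split_ifs <;> simp_all
    rw [e]
    simp only [Matrix.add_apply, Matrix.smul_apply, Matrix.one_apply, B, J, Matrix.of_apply, smul_eq_mul]
    have hc := hcount (nb X x ⊓ nb X y)
    obtain ⟨k, hk'⟩ : ∃ k, q = k + 2 := ⟨q - 2, by omega⟩
    by_cases hxy : x = y
    · subst hxy
      rw [inf_idem, h3] at hc
      rw [if_pos rfl, if_pos (h.self_le hk x), inf_idem, hqs _ hc]
      simp only [R]
      push_cast
      ring
    by_cases hy : y.1 ≤ nb X x
    · rw [(plane_meets h hU h3 x).2 y hy (Ne.symm hxy)] at hc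
      have : (Finset.univ.filter fun z : Sub F U 1 => z.1 ≤ nb X x ⊓ nb X y).card = q + 1 :=
        Nat.eq_of_mul_eq_mul_right (show 0 < q - 1 by omega) (by
          have : (q + 1) * (q - 1) + 1 = q ^ 2 := by rw [hk', show k + 2 - 1 = k + 1 by omega]; ring
          omega)
      rw [if_neg hxy, if_pos hy, this]
      push_cast
      ring
    · rw [(plane_meets h hU h3 x).1 y hy] at hc
      have : (Finset.univ.filter fun z : Sub F U 1 => z.1 ≤ nb X x ⊓ nb X y).card = 1 :=
        Nat.eq_of_mul_eq_mul_right (show 0 < q - 1 by omega) (by rw [pow_one] at hc; omega)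
      rw [if_neg hxy, if_neg hy, this]
      simp
  -- an idempotent with irrational trace
  set s := Real.sqrt 5 with hs
  have hs2 : s ^ 2 = 5 := Real.sq_sqrt (by norm_num)
  have hirr : Irrational s := by
    rw [hs]
    exact_mod_cast (Nat.prime_five).irrational_sqrt
  have hs0 : s ≠ 0 := fun e => by rw [e] at hs2; norm_num at hs2
  have hq0 : (q : ℝ) ≠ 0 := by exact_mod_cast (show q ≠ 0 by omega)
  have hP0 : (P : ℝ) ≠ 0 := by
    have : P ≠ 0 := fun e => by
      rw [e, zero_mul, zero_add] at hP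
      have := Nat.one_lt_pow (show (5 : ℕ) ≠ 0 by norm_num) (show 1 < q by omega)
      omega
    exact_mod_cast this
  set θ : ℝ := q * (1 - s) / 2 with hθ
  have hid : (R : ℝ) ^ 2 = (q : ℝ) ^ 2 + q * R + P := by
    have e1 : (P : ℝ) * ((q : ℝ) - 1) + 1 = (q : ℝ) ^ 5 := by
      have := congrArg (Nat.cast : ℕ → ℝ) hP
      push_cast [Nat.cast_sub (show 1 ≤ q by omega)] at this
      exact this
    have hq1 : (q : ℝ) - 1 ≠ 0 := sub_ne_zero.mpr (by exact_mod_cast (show q ≠ 1 by omega))
    refine mul_left_cancel₀ hq1 ?_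
    simp only [R]
    push_cast
    linear_combination -e1
  -- the combination is `a B + b + c J`
  set a : ℝ := 1 / (q * s) with hadef
  set b : ℝ := -θ / (q * s) with hbdef
  set c : ℝ := (θ - R) / (q * s * P) with hcdef
  let E : Matrix (Sub F U 1) (Sub F U 1) ℝ := a • B + b • (1 : Matrix (Sub F U 1) (Sub F U 1) ℝ) + c • J
  have hE : E * E = E := by
    have h1 : E * E = (a ^ 2 * (q : ℝ) ^ 2 + b ^ 2) • (1 : Matrix (Sub F U 1) (Sub F U 1) ℝ) + (a ^ 2 * q + 2 * a * b) • B +
        (a ^ 2 + 2 * a * c * R + 2 * b * c + c ^ 2 * P) • J := by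
      simp only [E, add_mul, mul_add, smul_mul_assoc, mul_smul_comm, hB2, hBJ, hJB, hJJ, Matrix.one_mul, Matrix.mul_one]
      module
    rw [h1]
    have eb : a ^ 2 * q + 2 * a * b = a := by
      rw [hadef, hbdef, hθ]; field_simp; ring
    have e1 : a ^ 2 * (q : ℝ) ^ 2 + b ^ 2 = b := by
      rw [hadef, hbdef, hθ]; field_simp
      linear_combination (-1 : ℝ) * hs2
    have eJ : a ^ 2 + 2 * a * c * R + 2 * b * c + c ^ 2 * P = c := by
      rw [hadef, hbdef, hcdef, hθ]; field_simp
      linear_combination (-4 : ℝ) * hid + (q : ℝ) ^ 2 * hs2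
    rw [eb, e1, eJ]
    simp only [E]
    abel
  have hproj : LinearMap.IsProj (LinearMap.range (Matrix.toLin' E)) (Matrix.toLin' E) :=
    ⟨fun x => LinearMap.mem_range_self _ x, by
      rintro _ ⟨x, rfl⟩
      rw [← LinearMap.comp_apply, ← Matrix.toLin'_mul, hE]⟩
  set n := finrank ℝ (LinearMap.range (Matrix.toLin' E))
  have htr : Matrix.trace E = (n : ℝ) := by rw [← Matrix.trace_toLin'_eq, hproj.trace]
  have htr' : Matrix.trace E = a * P + b * P + c * P := by
    simp only [E, Matrix.trace_add, Matrix.trace_smul, Matrix.trace_one, smul_eq_mul]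
    have hB : Matrix.trace B = P := by
      simp only [Matrix.trace, Matrix.diag, B, Matrix.of_apply, h.self_le hk, if_true, Finset.sum_const, Finset.card_univ, nsmul_eq_mul,
        mul_one, hPdef]
    have hJ : Matrix.trace J = P := by
      simp only [Matrix.trace, Matrix.diag, J, Matrix.of_apply, Finset.sum_const, Finset.card_univ, nsmul_eq_mul, mul_one, hPdef]
    rw [hB, hJ]
  have hmain : (2 * ((P : ℝ) - R) - q * ((P : ℝ) - 1)) = s * (q * (2 * n - ((P : ℝ) - 1))) := by
    have := htr'.symm.trans htr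
    rw [hadef, hbdef, hcdef, hθ] at this
    field_simp at this
    linear_combination this
  set Xi : ℤ := 2 * ((P : ℤ) - R) - q * ((P : ℤ) - 1) with hXi
  set Yi : ℤ := q * (2 * n - ((P : ℤ) - 1))
  have hXY : (Xi : ℝ) = s * (Yi : ℝ) := by simp only [Xi, Yi]; push_cast; exact hmain
  have hX0 : Xi ≠ 0 := by
    intro e0
    have e1 : (P : ℤ) * ((q : ℤ) - 1) + 1 = (q : ℤ) ^ 5 := by
      have := congrArg (Nat.cast : ℕ → ℤ) hP
      push_cast [Nat.cast_sub (show 1 ≤ q by omega)] at this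
      exact this
    have hR : (R : ℤ) = (q : ℤ) ^ 2 + q + 1 := by simp only [R]; push_cast; ring
    rw [hXi, hR] at e0
    have h2 : (q : ℤ) ^ 2 * (((q : ℤ) - 1) * (((q : ℤ) - 1) ^ 2 * ((q : ℤ) + 1))) = 0 := by
      linear_combination -((q : ℤ) - 1) * e0 + (2 - (q : ℤ)) * e1
    have hq' : (2 : ℤ) ≤ q := by exact_mod_cast hq
    have : (0 : ℤ) < (q : ℤ) ^ 2 * (((q : ℤ) - 1) * (((q : ℤ) - 1) ^ 2 * ((q : ℤ) + 1))) :=
      mul_pos (pow_pos (by omega) 2) (mul_pos (by omega) (mul_pos (pow_pos (by omega) 2) (by omega)))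
    omega
  by_cases hY : Yi = 0
  · rw [hY, Int.cast_zero, mul_zero, Int.cast_eq_zero] at hXY
    exact hX0 hXY
  · refine hirr ⟨(Xi : ℚ) / Yi, ?_⟩
    rw [Rat.cast_div, Rat.cast_intCast, Rat.cast_intCast, hXY,
      mul_div_cancel_right₀ _ (Int.cast_ne_zero.mpr hY)]

end

section

variable {F V : Type*} [Field F] [AddCommGroup V] [Module F V] [Finite V] {G : Subgroup (V ≃ₗ[F] V)}

/-- The groups on the quotients of a six-space by points are doubly transitive. -/
theorem pairs_qgrp_six (h2 : PairTrans G) (hn : finrank F V = 6) (p : Sub F V 1) : PairTrans (qgrp G p) := by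
  classical
  haveI : FiniteDimensional F V := Module.Finite.of_finite
  haveI : Nontrivial V := Module.nontrivial_of_finrank_pos (R := F) (by omega)
  haveI : Finite F := finite_field (V := V)
  haveI : Finite (Dual F V) := finite_dual
  haveI : Finite (V ⧸ p.1) := Quotient.finite _
  have hU : finrank F (V ⧸ p.1) = 5 := by have := finrank_quot p; omega
  have hX := qgrp_antiTrans h2 (by omega) p
  have hk : 2 ≤ finrank F (V ⧸ p.1) := by omega
  refine pairTrans_of_one hX hk fun P => ?_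
  have h1 : 1 ≤ finrank F (nb (qgrp G p) P) := (le_of_eq P.2.symm).trans (Submodule.finrank_mono (hX.self_le hk P))
  have h5 : finrank F (nb (qgrp G p) P) < 5 := by
    rw [← hU]
    exact Submodule.finrank_lt (hX.good hk P).2.1
  have hc : ∀ Q, finrank F (nb (qgrp G p) Q) = finrank F (nb (qgrp G p) P) := fun Q =>
    finrank_nb_qgrp h2 (by omega) p p Q P
  have hne3 : finrank F (nb (qgrp G p) P) ≠ 3 := fun e => not_plane hX hU fun Q => (hc Q).trans e
  have hne4 : finrank F (nb (qgrp G p) P) ≠ 4 := fun e => not_hyper hX hU fun Q => (hc Q).trans e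
  by_contra hne
  obtain ⟨Φ, -⟩ := exists_off (F := F) p
  haveI : Finite (Dual F V ⧸ Φ.1) := Quotient.finite _
  have hd : finrank F (Dual F V ⧸ Φ.1) = 5 := by
    have := finrank_quot Φ
    rw [Subspace.dual_finrank_eq] at this
    omega
  have h2' := pairTrans_dual h2 (by omega)
  have hY := qgrp_antiTrans h2' (by rw [Subspace.dual_finrank_eq]; omega) Φ
  obtain ⟨A, -⟩ := exists_pt_le (F := F) (U := Dual F V ⧸ Φ.1) (L := ⊤) (by rw [finrank_top, hd]; norm_num)
  have hco := coupling h2 (by omega) p P Φ A (by omega)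
  have h5' : finrank F (nb (qgrp (G.map (dualE : (V ≃ₗ[F] V) →* _)) Φ) A) < 5 := by
    rw [← hd]
    exact Submodule.finrank_lt (hY.good (by omega) A).2.1
  refine not_hyper hY hd fun B => ?_
  rw [finrank_nb_qgrp h2' (by rw [Subspace.dual_finrank_eq]; omega) Φ Φ B A]
  omega

end

end CfsgLib.SingerSeven
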