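/-
A transvection on all quotients by a point gives a transvection; the seven-space case.
-/
import Cfsg.Agent.Lib.SingerSeven.QuotFive
import Cfsg.Agent.Lib.SingerSeven.AllTransv
import Cfsg.Agent.Lib.SingerSeven.PointPairs
import Cfsg.Agent.Lib.SingerFive.Exist

set_option autoImplicit false
set_option linter.unusedSectionVars false
set_option linter.style.haveILetI false
set_option maxHeartbeats 1000000

namespace CfsgLib.SingerSeven

open Module
open CfsgLib.SingerFive (Sub pt exists_pt smul_pt pt_eq_pt sub_smul_val finite_field finiteDim PairTrans tin_of_rank_one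
  exists_transvection IsSemi)
open CfsgLib.MaxSub.ExtLin (UIn TIn)

variable {F V : Type*} [Field F] [AddCommGroup V] [Module F V] [Finite V] {G : Subgroup (V ≃ₗ[F] V)}

theorem exists_fin_notMem {n : ℕ} (s : Finset (Fin n)) (h : s.card < n) : ∃ l, l ∉ s := by
  by_contra hc
  push Not at hc
  have := Finset.card_le_card (show (Finset.univ : Finset (Fin n)) ⊆ s from fun x _ => hc x)
  rw [Finset.card_univ, Fintype.card_fin] at this
  omega

/-- All transvections on a quotient by a point give a transvection. -/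
theorem exists_transvection_of_quot (hn : 5 ≤ finrank F V) (p : Sub F V 1)
    (hall : ∀ (u : V ⧸ p.1) (φ : Dual F (V ⧸ p.1)), φ u = 0 → TIn (qgrp G p) u φ) :
    ∃ (u : V) (φ : Dual F V), u ≠ 0 ∧ φ ≠ 0 ∧ φ u = 0 ∧ TIn G u φ := by
  classical
  haveI : FiniteDimensional F V := Module.Finite.of_finite
  by_contra hno
  obtain ⟨v, hv, hvp⟩ := exists_mem p
  have hpv : ∀ x : V, p.1.mkQ x = 0 ↔ ∃ c : F, x = c • v := fun x => by
    rw [show p.1.mkQ x = 0 ↔ x ∈ p.1 from Submodule.Quotient.mk_eq_zero _, pt_eq_of_mem hv hvp]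
    exact Submodule.mem_span_singleton.trans (exists_congr fun c => eq_comm)
  -- only the identity is trivial on the quotient and fixes the vector
  have hker : ∀ g ∈ G, (g : V ≃ₗ[F] V) v = v → (∀ x, p.1.mkQ ((g : V ≃ₗ[F] V) x) = p.1.mkQ x) → g = 1 := by
    intro g hg hgv hgq
    by_contra hne
    obtain ⟨φ, hφ, hφv, hT⟩ := tin_of_rank_one hg hv hne (fun x => by
      obtain ⟨c, hc⟩ := (hpv (g x - x)).mp (by rw [map_sub, hgq, sub_self])
      rw [hc]
      exact Submodule.smul_mem _ _ (Submodule.mem_span_singleton_self v)) hgv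
    exact hno ⟨v, φ, hv, hφ, hφv, hT⟩
  obtain ⟨n, hn'⟩ : ∃ n, finrank F (V ⧸ p.1) = n := ⟨_, rfl⟩
  have hn4 : 4 ≤ n := by have := finrank_quot p; omega
  let b := Module.finBasisOfFinrankEq F (V ⧸ p.1) hn'
  choose e he using fun i => p.1.mkQ_surjective (b i)
  -- lifts of the elementary transvections
  have hlift : ∀ i j : Fin n, i ≠ j → ∃ a ∈ G, ∃ α : F, α ≠ 0 ∧ (a : V ≃ₗ[F] V) v = α • v ∧
      ∀ x, p.1.mkQ ((a : V ≃ₗ[F] V) x) = p.1.mkQ x + b.coord j (p.1.mkQ x) • b i := by
    intro i j hij
    obtain ⟨_, ⟨⟨a, ha, hap⟩, rfl⟩, hax⟩ := hall (b i) (b.coord j) (by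
      rw [Basis.coord_apply, b.repr_self, Finsupp.single_eq_of_ne hij.symm])
    obtain ⟨c, hc⟩ : ∃ c : F, a v = c • v := by
      refine (hpv (a v)).mp ((Submodule.Quotient.mk_eq_zero _).mpr ?_)
      rw [← show a.toLinearMap v = a v from rfl]
      exact (congrArg Subtype.val hap) ▸ Submodule.mem_map_of_mem hvp
    refine ⟨a, ha, c, fun h0 => hv ?_, hc, fun x => ?_⟩
    · exact a.injective (by rw [hc, h0, zero_smul, map_zero])
    · exact hax (p.1.mkQ x)
  have hTr : ∀ i j : Fin n, i ≠ j → ∃ t ∈ G, (t : V ≃ₗ[F] V) v = v ∧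
      ∀ x, p.1.mkQ ((t : V ≃ₗ[F] V) x) = p.1.mkQ x + b.coord j (p.1.mkQ x) • b i := by
    intro i j hij
    obtain ⟨l, hl⟩ : ∃ l : Fin n, l ∉ ({i, j} : Finset (Fin n)) := by
      refine exists_fin_notMem _ ?_
      have := Finset.card_le_two (a := i) (b := j)
      omega
    simp only [Finset.mem_insert, Finset.mem_singleton, not_or] at hl
    obtain ⟨a, ha, α, hα, hav, hax⟩ := hlift i l (Ne.symm hl.1)
    obtain ⟨c, hc, γ, hγ, hcv, hcx⟩ := hlift l j hl.2
    refine ⟨a * c * a⁻¹ * c⁻¹, mul_mem (mul_mem (mul_mem ha hc) (inv_mem ha)) (inv_mem hc), ?_, fun z => ?_⟩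
    · have h1 : c⁻¹ v = γ⁻¹ • v := c.injective (by
        show c (c.symm v) = _
        rw [c.apply_symm_apply, map_smul, hcv, smul_smul, inv_mul_cancel₀ hγ, one_smul])
      have h2 : a⁻¹ v = α⁻¹ • v := a.injective (by
        show a (a.symm v) = _
        rw [a.apply_symm_apply, map_smul, hav, smul_smul, inv_mul_cancel₀ hα, one_smul])
      simp only [LinearEquiv.mul_apply, h1, h2, map_smul, hav, hcv, smul_smul]
      convert one_smul F v using 2
      field_simp
    · obtain ⟨w, rfl⟩ : ∃ w, c (a w) = z := ⟨a.symm (c.symm z), by rw [a.apply_symm_apply, c.apply_symm_apply]⟩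
      have h1 : (a * c * a⁻¹ * c⁻¹ : V ≃ₗ[F] V) (c (a w)) = a (c w) := by
        simp only [LinearEquiv.mul_apply]
        show a (c (a.symm (c.symm (c (a w))))) = a (c w)
        rw [c.symm_apply_apply, a.symm_apply_apply]
      rw [h1]
      simp only [hax, hcx, map_add, map_smul, Basis.coord_apply, b.repr_self, Finsupp.single_apply, smul_eq_mul,
        Finsupp.add_apply, Finsupp.smul_apply]
      simp only [if_neg (show i ≠ j from hij), if_neg (show l ≠ j from hl.2), if_true,
        if_neg (show i ≠ l from Ne.symm hl.1), mul_zero, mul_one, add_zero]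
      module
  -- one of them is a transvection
  let i₀ : Fin n := ⟨0, by omega⟩
  let j₀ : Fin n := ⟨1, by omega⟩
  have hij : i₀ ≠ j₀ := by simp [i₀, j₀]
  obtain ⟨t, ht, htv, htx⟩ := hTr i₀ j₀ hij
  have hfix : ∀ k : Fin n, k ≠ j₀ → t (e k) = e k := by
    intro k hk
    obtain ⟨l, hl⟩ : ∃ l : Fin n, l ∉ ({i₀, j₀, k} : Finset (Fin n)) := by
      refine exists_fin_notMem _ ?_
      have := Finset.card_le_three (a := i₀) (b := j₀) (c := k)
      omega
    simp only [Finset.mem_insert, Finset.mem_singleton, not_or] at hl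
    obtain ⟨s, hs, hsv, hsx⟩ := hTr k l (Ne.symm hl.2.2)
    have hcomm : t * s = s * t := by
      have hone := hker (t * s * (s * t)⁻¹) (mul_mem (mul_mem ht hs) (inv_mem (mul_mem hs ht))) (by
        have hinv : ((s * t)⁻¹ : V ≃ₗ[F] V) v = v := by
          show (s * t).symm v = v
          rw [LinearEquiv.symm_apply_eq, LinearEquiv.mul_apply, htv, hsv]
        rw [LinearEquiv.mul_apply, hinv, LinearEquiv.mul_apply, hsv, htv]) (fun x => by
        obtain ⟨y, rfl⟩ : ∃ y, (s * t) y = x := ⟨(s * t).symm x, (s * t).apply_symm_apply x⟩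
        rw [LinearEquiv.mul_apply, show ((s * t)⁻¹ : V ≃ₗ[F] V) ((s * t) y) = y from (s * t).symm_apply_apply y]
        simp only [LinearEquiv.mul_apply, htx, hsx, map_add, map_smul, Basis.coord_apply, b.repr_self,
          Finsupp.single_apply, smul_eq_mul, Finsupp.add_apply, Finsupp.smul_apply]
        simp only [if_neg hk, if_neg (Ne.symm hl.1), mul_zero, add_zero]
        module)
      exact mul_inv_eq_one.mp hone
    have h1 := LinearEquiv.congr_fun hcomm (e l)
    simp only [LinearEquiv.mul_apply] at h1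
    have hz : ∀ x : V, p.1.mkQ x = 0 → t x = x ∧ s x = x := fun x hx => by
      obtain ⟨c, rfl⟩ := (hpv x).mp hx
      rw [map_smul, map_smul, htv, hsv]
      exact ⟨rfl, rfl⟩
    have hsl : p.1.mkQ (s (e l) - e l - e k) = 0 := by
      rw [map_sub, map_sub, hsx, he, he, Basis.coord_apply, b.repr_self, Finsupp.single_eq_same, one_smul]
      abel
    have htl : p.1.mkQ (t (e l) - e l) = 0 := by
      rw [map_sub, htx, he, Basis.coord_apply, b.repr_self, Finsupp.single_eq_of_ne (Ne.symm hl.2.1), zero_smul,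
        add_zero, sub_self]
    have h2 := (hz _ hsl).1
    have h3 := (hz _ htl).2
    rw [map_sub, map_sub] at h2
    rw [map_sub, ← h1] at h3
    have h4 : t (e k) - e k = (t (s (e l)) - s (e l)) - (t (e l) - e l) := by
      have : t (e k) = t (s (e l)) - t (e l) - (s (e l) - e l - e k) := by rw [← h2]; abel
      rw [this]
      abel
    rw [h3, sub_self] at h4
    exact sub_eq_zero.mp h4
  set u := t (e j₀) - e j₀ with hu
  have hfixu : t u = u := by
    have hq : p.1.mkQ (u - e i₀) = 0 := by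
      rw [hu, map_sub, map_sub, htx, he, he, Basis.coord_apply, b.repr_self, Finsupp.single_eq_same, one_smul]
      abel
    obtain ⟨c, hc⟩ := (hpv _).mp hq
    rw [sub_eq_iff_eq_add.mp hc, map_add, map_smul, htv, hfix i₀ hij]
  have hmove : ∀ x, t x - x = b.coord j₀ (p.1.mkQ x) • u := by
    intro x
    let f : V →ₗ[F] V := (t : V →ₗ[F] V) - LinearMap.id - ((b.coord j₀).comp p.1.mkQ).smulRight u
    have hf : f = 0 := by
      have hfe : ∀ k, f (e k) = 0 := fun k => by
        show t (e k) - e k - b.coord j₀ (p.1.mkQ (e k)) • u = 0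
        rw [he, Basis.coord_apply, b.repr_self]
        by_cases hk : k = j₀
        · rw [hk, Finsupp.single_eq_same, one_smul, hu, sub_self]
        · rw [Finsupp.single_eq_of_ne (Ne.symm hk), zero_smul, hfix k hk, sub_self, sub_zero]
      have hfv : f v = 0 := by
        show t v - v - b.coord j₀ (p.1.mkQ v) • u = 0
        rw [show p.1.mkQ v = 0 from (hpv v).mpr ⟨1, (one_smul F v).symm⟩, map_zero, zero_smul, htv, sub_self, sub_zero]
      refine LinearMap.ext fun y => ?_
      have hq : p.1.mkQ (y - ∑ k, b.coord k (p.1.mkQ y) • e k) = 0 := by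
        rw [map_sub, map_sum]
        simp only [map_smul, he, Basis.coord_apply, b.sum_repr, sub_self]
      obtain ⟨c, hc⟩ := (hpv _).mp hq
      rw [sub_eq_iff_eq_add.mp hc, map_add, map_smul, hfv, smul_zero, zero_add, map_sum]
      simp only [map_smul, hfe, smul_zero, Finset.sum_const_zero, LinearMap.zero_apply]
    exact sub_eq_zero.mp (LinearMap.congr_fun hf x)
  have hu0 : u ≠ 0 := fun h0 => by
    have := htx (e j₀)
    rw [he, Basis.coord_apply, b.repr_self, Finsupp.single_eq_same, one_smul, sub_eq_zero.mp h0, he] at this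
    exact b.ne_zero i₀ (by simpa using this)
  obtain ⟨φ, hφ, hφu, hT⟩ := tin_of_rank_one ht hu0 (fun h0 => hu0 (by rw [hu, h0]; simp))
    (fun x => by rw [hmove]; exact Submodule.smul_mem _ _ (Submodule.mem_span_singleton_self u)) hfixu
  exact hno ⟨u, φ, hu0, hφ, hφu, hT⟩

/-- Doubly transitive groups of a six-space coming from point quotients contain all transvections. -/
theorem all_transvections_six (h2 : PairTrans G) (hn : finrank F V = 6) (u : V) (φ : Dual F V) (hφ : φ u = 0) :
    TIn G u φ := by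
  haveI : FiniteDimensional F V := Module.Finite.of_finite
  obtain ⟨p, -⟩ := exists_pt_le (F := F) (U := V) (L := ⊤) (by rw [finrank_top, hn]; norm_num)
  haveI : Finite (V ⧸ p.1) := Quotient.finite _
  have hU : finrank F (V ⧸ p.1) = 5 := by have := finrank_quot p; omega
  have hX := pairs_qgrp_six h2 hn p
  obtain ⟨u₁, φ₁, hu₁, hφ₁, h₁, hT₁⟩ := exists_transvection hX hU
  obtain ⟨u₀, φ₀, hu₀, hφ₀, h₀, hT₀⟩ := exists_transvection_of_quot (G := G) (by omega) p
    (all_transvections_of_three hX (by omega) hu₁ hφ₁ h₁ hT₁)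
  exact all_transvections_of_three h2 (by omega) hu₀ hφ₀ h₀ hT₀ u φ hφ

/-- An overgroup of the Singer normaliser in dimension seven is semilinear or contains all transvections. -/
theorem Over.semi_or_all {L : Type*} [Field L] [Algebra F L] [Finite L] {M : Subgroup (L ≃ₗ[F] L)} (O : Over M) :
    (∀ g ∈ M, IsSemi g) ∨ ∀ (u : L) (φ : Dual F L), φ u = 0 → TIn M u φ := by
  refine O.semi_or_pairs.imp id fun h2 u φ hφ => ?_
  haveI : FiniteDimensional F L := finiteDim
  have hn : Module.finrank F L = 7 := O.finrank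
  set p : Sub F L 1 := pt 1 one_ne_zero
  haveI : Finite (L ⧸ p.1) := Quotient.finite _
  have hU : Module.finrank F (L ⧸ p.1) = 6 := by have := finrank_quot p; omega
  obtain ⟨u₀, φ₀, hu₀, hφ₀, h₀, hT₀⟩ := exists_transvection_of_quot (G := M) (by omega) p
    (all_transvections_six (O.pairs_qgrp h2 p) hU)
  exact all_transvections_of_three h2 (by omega) hu₀ hφ₀ h₀ hT₀ u φ hφ

end CfsgLib.SingerSeven
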